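import Groth.Prelude.Def_WeakSerre
import Groth.Agent.H9Misc.TFactor
import Groth.Agent.H9Misc.WayOut
import Groth.Agent.KFlatLib.PsiC
import Mathlib.CategoryTheory.Triangulated.Adjunction

/-! Devissage along the adjunction between an exact functor and its derived right adjoint. -/

universe w w' v v' u u'

open CategoryTheory Category Limits Pretriangulated DerivedCategory

namespace Groth.Agent.SiteCmpLib.Devissage

section CohIn

variable {A : Type u} [Category.{v} A] [Abelian A] [HasDerivedCategory.{w} A]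
  (P : ObjectProperty A) [WSerre.IsWeakSerre P]

local notation "H" => DerivedCategory.homologyFunctor A
local notation "tS" => (DerivedCategory.TStructure.t (C := A))

lemma prop_middle {X₁ X₂ X₃ X₄ X₅ : A} (a : X₁ ⟶ X₂) (b : X₂ ⟶ X₃) (c : X₃ ⟶ X₄) (d : X₄ ⟶ X₅)
    (hab : a ≫ b = 0) (hbc : b ≫ c = 0) (hcd : c ≫ d = 0)
    (e₁ : (ShortComplex.mk a b hab).Exact) (e₂ : (ShortComplex.mk b c hbc).Exact)
    (e₃ : (ShortComplex.mk c d hcd).Exact)
    (h₁ : P X₁) (h₂ : P X₂) (h₄ : P X₄) (h₅ : P X₅) : P X₃ := by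
  have : Mono (cokernel.desc a b hab) := (ShortComplex.exact_iff_mono_cokernel_desc _).1 e₁
  have : Epi (kernel.lift d c hcd) := (ShortComplex.exact_iff_epi_kernel_lift _).1 e₃
  have hz : cokernel.desc a b hab ≫ kernel.lift d c hcd = 0 := by
    ext
    simp [hbc]
  have hz' : b ≫ kernel.lift d c hcd = 0 := by
    ext
    simp [hbc]
  let φ : ShortComplex.mk b (kernel.lift d c hcd) hz' ⟶ ShortComplex.mk b c hbc :=
    { τ₁ := 𝟙 _, τ₂ := 𝟙 _, τ₃ := kernel.ι d }
  let ψ : ShortComplex.mk b (kernel.lift d c hcd) hz' ⟶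
      ShortComplex.mk (cokernel.desc a b hab) (kernel.lift d c hcd) hz :=
    { τ₁ := cokernel.π a, τ₂ := 𝟙 _, τ₃ := 𝟙 _ }
  have : Epi ψ.τ₁ := inferInstanceAs (Epi (cokernel.π a))
  have : Mono φ.τ₃ := inferInstanceAs (Mono (kernel.ι d))
  have : Mono ψ.τ₃ := inferInstanceAs (Mono (𝟙 _))
  have : Epi φ.τ₁ := inferInstanceAs (Epi (𝟙 _))
  have : IsIso φ.τ₂ := inferInstanceAs (IsIso (𝟙 _))
  have : IsIso ψ.τ₂ := inferInstanceAs (IsIso (𝟙 _))
  exact P.prop_X₂_of_shortExact
    (ShortComplex.ShortExact.mk' ((ShortComplex.exact_iff_of_epi_of_isIso_of_mono ψ).1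
      ((ShortComplex.exact_iff_of_epi_of_isIso_of_mono φ).2 e₂)) (by assumption) (by assumption))
    (P.prop_cokernel a h₁ h₂)
    (P.prop_kernel d h₄ h₅)

lemma cohIn_obj₂ {T : Triangle (DerivedCategory A)} (hT : T ∈ distinguishedTriangles)
    (h₁ : WSerre.cohIn P T.obj₁) (h₃ : WSerre.cohIn P T.obj₃) : WSerre.cohIn P T.obj₂ := fun i =>
  prop_middle P (HomologySequence.δ T (i - 1) i (by omega)) ((H i).map T.mor₁) ((H i).map T.mor₂)
    (HomologySequence.δ T i (i + 1) rfl)
    (HomologySequence.δ_comp T hT _ _ _)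
    (by rw [← Functor.map_comp, comp_distTriang_mor_zero₁₂ _ hT, Functor.map_zero])
    (HomologySequence.comp_δ T hT _ _ _)
    (HomologySequence.exact₁ T hT _ _ _) (HomologySequence.exact₂ T hT _)
    (HomologySequence.exact₃ T hT _ _ _) (h₃ _) (h₁ _) (h₃ _) (h₁ _)

lemma cohIn_iso {X Y : DerivedCategory A} (e : X ≅ Y) (h : WSerre.cohIn P X) : WSerre.cohIn P Y :=
  fun i => P.prop_of_iso ((H i).mapIso e) (h i)

instance : (WSerre.cohIn P).IsClosedUnderIsomorphisms := ⟨cohIn_iso P⟩

lemma cohIn_shift {X : DerivedCategory A} (h : WSerre.cohIn P X) (n : ℤ) :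
    WSerre.cohIn P (X⟦n⟧) :=
  fun i => P.prop_of_iso ((((H 0).shiftIso n i (n + i) rfl).app X).symm) (h (n + i))

lemma cohIn_single (n : ℤ) {M : A} (h : P M) :
    WSerre.cohIn P ((singleFunctor A n).obj M) := fun i => by
  rcases eq_or_ne i n with rfl | hi
  · exact P.prop_of_iso ((singleFunctorCompHomologyFunctorIso A i).app M).symm h
  · refine P.prop_of_isZero ?_
    rcases lt_or_gt_of_ne hi with hi | hi
    · exact isZero_of_isGE _ n i hi
    · exact isZero_of_isLE _ n i hi

lemma cohIn_truncLT {X : DerivedCategory A} (h : WSerre.cohIn P X) (m : ℤ) :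
    WSerre.cohIn P (((tS).truncLT m).obj X) := fun i =>
  H9Misc.WayOut.P_truncLT P (hP := fun _ hZ => P.prop_of_isZero hZ) h m i

lemma cohIn_truncGE {X : DerivedCategory A} (h : WSerre.cohIn P X) (m : ℤ) :
    WSerre.cohIn P (((tS).truncGE m).obj X) := fun i =>
  H9Misc.WayOut.P_truncGE P (hP := fun _ hZ => P.prop_of_isZero hZ) h m i

omit [WSerre.IsWeakSerre P] in
/-- Dévissage of bounded objects. -/
theorem bounded_induction (Q : DerivedCategory A → Prop)
    (iso : ∀ {X Y}, (X ≅ Y) → Q X → Q Y)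
    (ext : ∀ (T : Triangle (DerivedCategory A)), T ∈ distinguishedTriangles →
      Q T.obj₁ → Q T.obj₃ → Q T.obj₂)
    (single : ∀ (n : ℤ) (M : A), P M → Q ((singleFunctor A n).obj M)) [WSerre.IsWeakSerre P]
    (X : DerivedCategory A) (a b : ℤ) (ha : X.IsGE a) (hb : X.IsLE b) (hX : WSerre.cohIn P X) :
    Q X := by
  obtain ⟨k, hk⟩ : ∃ k : ℕ, b ≤ a + k := ⟨(b - a).toNat, by omega⟩
  induction k generalizing X a b with
  | zero =>
    have : X.IsLE a := (tS).isLE_of_le X b a (by omega)
    obtain ⟨M, ⟨e⟩⟩ := exists_iso_singleFunctor_obj_of_isGE_of_isLE X a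
    exact iso e.symm (single a M (P.prop_of_iso
      ((H a).mapIso e ≪≫ (singleFunctorCompHomologyFunctorIso A a).app M) (hX a)))
  | succ k ih =>
    refine ext _ ((tS).triangleLTGE_distinguished (a + 1) X) ?_ ?_
    · refine ih _ a a (KFlatLib.isGE_truncLT X a (a + 1)) ?_ (cohIn_truncLT P hX _) (by omega)
      exact inferInstanceAs ((tS).IsLE (((tS).truncLT (a + 1)).obj X) a)
    · refine ih _ (a + 1) b
        (inferInstanceAs ((tS).IsGE (((tS).truncGE (a + 1)).obj X) (a + 1))) ?_
        (cohIn_truncGE P hX _) (by omega)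
      exact inferInstanceAs ((tS).IsLE (((tS).truncGE (a + 1)).obj X) b)

end CohIn

section Adj

variable {A : Type u} [Category.{v} A] [Abelian A] [HasDerivedCategory.{w} A]
  {B : Type u'} [Category.{v'} B] [Abelian B] [HasDerivedCategory.{w'} B]
  {F : A ⥤ B} [F.Additive] [PreservesFiniteLimits F] [PreservesFiniteColimits F]

variable (F) in
lemma isGE_map {X : DerivedCategory A} (n : ℤ) (hX : X.IsGE n) :
    (F.mapDerivedCategory.obj X).IsGE n :=
  (isGE_iff _ _).2 fun i hi =>
    (F.map_isZero (isZero_of_isGE X n i hi)).of_iso ((KFlatLib.mapDCHomologyIso F i).app X)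

variable (F) in
lemma isLE_map {X : DerivedCategory A} (n : ℤ) (hX : X.IsLE n) :
    (F.mapDerivedCategory.obj X).IsLE n :=
  (isLE_iff _ _).2 fun i hi =>
    (F.map_isZero (isZero_of_isLE X n i hi)).of_iso ((KFlatLib.mapDCHomologyIso F i).app X)

variable (F) in
lemma cohIn_map (P : ObjectProperty A) (Q : ObjectProperty B) [Q.IsClosedUnderIsomorphisms]
    (h : ∀ M, P M → Q (F.obj M)) {X : DerivedCategory A} (hX : WSerre.cohIn P X) :
    WSerre.cohIn Q (F.mapDerivedCategory.obj X) :=
  fun i => Q.prop_of_iso ((KFlatLib.mapDCHomologyIso F i).app X).symm (h _ (hX i))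

variable {R : DerivedCategory B ⥤ DerivedCategory A} (adj : F.mapDerivedCategory ⊣ R)

include adj in
lemma isGE_right {Y : DerivedCategory B} (n : ℤ) (hY : Y.IsGE n) : (R.obj Y).IsGE n := by
  refine (DerivedCategory.TStructure.t.isGE_iff_orthogonal (n - 1) n (by omega) _).2 fun Z f hZ => ?_
  apply (adj.homEquiv Z Y).symm.injective
  have := isLE_map F (n - 1) hZ
  rw [DerivedCategory.TStructure.t.zero ((adj.homEquiv Z Y).symm f) (n - 1) n (by omega)]
  exact (DerivedCategory.TStructure.t.zero _ (n - 1) n (by omega)).symm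

lemma isIso_unit (X : DerivedCategory A) (a : ℤ) (hX : X.IsGE a)
    (h : ∀ i : ℤ, IsIso (adj.unit.app ((singleFunctor A 0).obj ((homologyFunctor A i).obj X)))) :
    IsIso (adj.unit.app X) := by
  let := adj.rightAdjointCommShift ℤ
  have := adj.commShift_of_leftAdjoint ℤ
  have := adj.isTriangulated_rightAdjoint
  have := (inferInstance : adj.CommShift ℤ).commShift_unit
  let P : ObjectProperty A := fun M => IsIso (adj.unit.app ((singleFunctor A 0).obj M))
  have : P.IsClosedUnderIsomorphisms :=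
    ⟨fun e he => (NatTrans.isIso_app_iff_of_iso adj.unit ((singleFunctor A 0).mapIso e)).1 he⟩
  exact H9Misc.WayOut.isIso_of_wayOutRight adj.unit P (fun _ h => h)
    (fun n => ⟨n, fun _ h => h⟩) (fun n => ⟨n, fun _ h => isGE_right adj n (isGE_map F n h)⟩)
    X a h

lemma isIso_counit (Y : DerivedCategory B) (a : ℤ) (hY : Y.IsGE a)
    (h : ∀ i : ℤ, IsIso (adj.counit.app ((singleFunctor B 0).obj ((homologyFunctor B i).obj Y)))) :
    IsIso (adj.counit.app Y) := by
  let := adj.rightAdjointCommShift ℤ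
  have := adj.commShift_of_leftAdjoint ℤ
  have := adj.isTriangulated_rightAdjoint
  have := (inferInstance : adj.CommShift ℤ).commShift_counit
  let P : ObjectProperty B := fun M => IsIso (adj.counit.app ((singleFunctor B 0).obj M))
  have : P.IsClosedUnderIsomorphisms :=
    ⟨fun e he => (NatTrans.isIso_app_iff_of_iso adj.counit ((singleFunctor B 0).mapIso e)).1 he⟩
  exact H9Misc.WayOut.isIso_of_wayOutRight adj.counit P (fun _ h => h)
    (fun n => ⟨n, fun _ h => isGE_map F n (isGE_right adj n h)⟩) (fun n => ⟨n, fun _ h => h⟩)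
    Y a h

section Equivalence

variable (P : ObjectProperty B) [WSerre.IsWeakSerre P] (P' : ObjectProperty A) [WSerre.IsWeakSerre P']
  (hFs : ∀ M, P M → ∃ M', P' M' ∧ Nonempty (F.obj M' ≅ M))
  (hu : ∀ M', P' M' → IsIso (adj.unit.app ((singleFunctor A 0).obj M')))

include hFs hu

lemma single_data {M : B} (hM : P M) : ∃ M', P' M' ∧
    Nonempty (R.obj ((singleFunctor B 0).obj M) ≅ (singleFunctor A 0).obj M') ∧
    IsIso (adj.counit.app ((singleFunctor B 0).obj M)) := by
  obtain ⟨M', hM', ⟨e⟩⟩ := hFs M hM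
  have := hu M' hM'
  let e' : F.mapDerivedCategory.obj ((singleFunctor A 0).obj M') ≅ (singleFunctor B 0).obj M :=
    (F.mapDerivedCategorySingleFunctor 0).app M' ≪≫ (singleFunctor B 0).mapIso e
  have hc : IsIso (adj.counit.app (F.mapDerivedCategory.obj ((singleFunctor A 0).obj M'))) :=
    IsIso.of_isIso_fac_left (hh := inferInstance) (adj.left_triangle_components _)
  exact ⟨M', hM', ⟨R.mapIso e'.symm ≪≫ (asIso (adj.unit.app _)).symm⟩,
    (NatTrans.isIso_app_iff_of_iso adj.counit e').1 hc⟩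

lemma cohIn_right_bounded (Y : DerivedCategory B) (a b : ℤ) (ha : Y.IsGE a) (hb : Y.IsLE b)
    (hY : WSerre.cohIn P Y) : WSerre.cohIn P' (R.obj Y) := by
  let := adj.rightAdjointCommShift ℤ
  have := adj.commShift_of_leftAdjoint ℤ
  have := adj.isTriangulated_rightAdjoint
  refine bounded_induction P (fun Z => WSerre.cohIn P' (R.obj Z))
    (fun e h => cohIn_iso P' (R.mapIso e) h)
    (fun T hT h₁ h₃ => cohIn_obj₂ P' (R.map_distinguished T hT) h₁ h₃) (fun n M hM => ?_) Y a b ha hb hY
  obtain ⟨M', hM', ⟨e⟩, -⟩ := single_data adj P P' hFs hu hM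
  exact cohIn_iso P' (((R.commShiftIso (-n)).app _).symm ≪≫
      R.mapIso (((singleFunctors B).shiftIso (-n) n 0 (by omega)).app M))
    (cohIn_shift P' (cohIn_iso P' e.symm (cohIn_single P' 0 hM')) (-n))

theorem cohIn_right (Y : DerivedCategory B) (a : ℤ) (ha : Y.IsGE a)
    (hY : WSerre.cohIn P Y) : WSerre.cohIn P' (R.obj Y) := by
  let := adj.rightAdjointCommShift ℤ
  have := adj.commShift_of_leftAdjoint ℤ
  have := adj.isTriangulated_rightAdjoint
  intro i
  let T := (DerivedCategory.TStructure.t.triangleLTGE (i + 2)).obj Y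
  have hT := R.map_distinguished T (DerivedCategory.TStructure.t.triangleLTGE_distinguished (i + 2) Y)
  have : DerivedCategory.IsGE (R.mapTriangle.obj T).obj₃ (i + 2) := isGE_right adj (i + 2)
    (inferInstanceAs (DerivedCategory.TStructure.t.IsGE ((DerivedCategory.TStructure.t.truncGE (i + 2)).obj Y) (i + 2)))
  have : Mono ((homologyFunctor A i).map (R.mapTriangle.obj T).mor₁) :=
    (HomologySequence.mono_homologyMap_mor₁_iff _ hT (i - 1) i (by omega)).2
      ((isZero_of_isGE _ (i + 2) (i - 1) (by omega)).eq_of_src _ _)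
  have : Epi ((homologyFunctor A i).map (R.mapTriangle.obj T).mor₁) :=
    (HomologySequence.epi_homologyMap_mor₁_iff _ hT i).2
      ((isZero_of_isGE _ (i + 2) i (by omega)).eq_of_tgt _ _)
  have hiso : IsIso ((homologyFunctor A i).map (R.mapTriangle.obj T).mor₁) := isIso_of_mono_of_epi _
  refine P'.prop_of_iso (@asIso _ _ _ _ _ hiso)
    (cohIn_right_bounded adj P P' hFs hu ((DerivedCategory.TStructure.t.truncLT (i + 2)).obj Y)
      a (i + 1) (KFlatLib.isGE_truncLT Y a (i + 2)) ?_ (cohIn_truncLT P hY _) i)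
  exact DerivedCategory.TStructure.t.isLE_truncLT_obj ..

theorem isIso_counit_of_cohIn (Y : DerivedCategory B) (a : ℤ) (ha : Y.IsGE a)
    (hY : WSerre.cohIn P Y) : IsIso (adj.counit.app Y) :=
  isIso_counit adj Y a ha fun i => by
    obtain ⟨_, -, -, h⟩ := single_data adj P P' hFs hu (hY i)
    exact h

end Equivalence

end Adj

end Groth.Agent.SiteCmpLib.Devissage
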