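import Groth.Agent.SiteCmpLib.DerivedAdj
import Groth.Agent.TriCat.DerivedProducts
import Groth.Agent.TriCat.MapExtend
import Mathlib.Algebra.Homology.Embedding.ExtendHomology
import Mathlib.Algebra.Homology.DerivedCategory.DerivabilityStructureInjectives
import Mathlib.Algebra.Homology.DerivedCategory.TStructure
import Mathlib.CategoryTheory.Abelian.Injective.Extend
import Mathlib.CategoryTheory.Abelian.RightDerived

/-! The model of the total right derived functor on bounded below objects. -/

universe u

open CategoryTheory Category Limits DerivedCategory Pretriangulated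

attribute [local instance] HasDerivedCategory.standard

namespace Groth.Agent.SiteCmpLib.TotalRight

open DerivedAdj

variable {B : Type (u + 1)} [Category.{u} B] [Abelian B] [IsGrothendieckAbelian.{u} B]

variable (B) in
instance isIso_counit : IsIso (resAdj B).counit := by
  have h : ∀ Y : DerivedCategory B, IsIso ((resAdj B).counit.app Y) := fun Y => by
    obtain ⟨I, f, hI, hf, -, -⟩ :=
      TriCat.exists_kInjective_resolution' ((Q (C := B)).objPreimage Y)
    let e : Qh.obj ((HomotopyCategory.quotient B _).obj I) ≅ Y :=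
      (quotientCompQhIso B).app I ≪≫ (asIso (Q.map f)).symm ≪≫ Q.objObjPreimageIso Y
    have := TriCat.isIso_unit_of_isKInjective (resAdj B) I
    have : IsIso ((resAdj B).counit.app (Qh.obj ((HomotopyCategory.quotient B _).obj I))) :=
      IsIso.of_isIso_fac_left (hh := inferInstance) ((resAdj B).left_triangle_components _)
    exact (NatTrans.isIso_app_iff_of_iso (resAdj B).counit e).1 this
  exact NatIso.isIso_of_isIso_app _

variable (B) in
lemma hasProducts (J : Type) : HasLimitsOfShape (Discrete J) (DerivedCategory B) :=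
  TriCat.hasProductsOfShape_derivedCategory fun K => by
    obtain ⟨I, f, hI, hf, -, -⟩ := TriCat.exists_kInjective_resolution' K
    exact ⟨I, f, hI, hf⟩

variable (B) in
/-- The model of the derived functor of the identity is the identity. -/
noncomputable def modelId : model (𝟭 B) ≅ 𝟭 (DerivedCategory B) :=
  Functor.isoWhiskerLeft (res B)
    (Functor.isoWhiskerRight (CategoryTheory.Quotient.natIsoLift _
      ((𝟭 B).mapHomotopyCategoryFactors (ComplexShape.up ℤ) ≪≫
        Functor.isoWhiskerRight (Functor.mapHomologicalComplexIdIso B _) _ ≪≫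
        Functor.leftUnitor _ ≪≫ (Functor.rightUnitor _).symm) :
        (𝟭 B).mapHomotopyCategory (ComplexShape.up ℤ) ≅ 𝟭 _) Qh ≪≫ Qh.leftUnitor) ≪≫
  asIso (resAdj B).counit

variable {A : Type (u + 1)} [Category.{u} A] [Abelian A] (G : B ⥤ A) [G.Additive]

lemma exists_iso_model_of_kInjective (I : CochainComplex B ℤ) [I.IsKInjective]
    {Z : DerivedCategory B} (e : Q.obj I ≅ Z) :
    Nonempty ((model G).obj Z ≅ Q.obj ((G.mapHomologicalComplex (ComplexShape.up ℤ)).obj I)) :=
  haveI := TriCat.isIso_unit_of_isKInjective (resAdj B) I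
  ⟨(model G).mapIso (e.symm ≪≫ ((quotientCompQhIso B).app I).symm) ≪≫
    (G.mapHomotopyCategory (ComplexShape.up ℤ) ⋙ Qh).mapIso (asIso ((resAdj B).unit.app _)).symm ≪≫
    Qh.mapIso ((G.mapHomotopyCategoryFactors (ComplexShape.up ℤ)).app I) ≪≫
    (quotientCompQhIso A).app _⟩

lemma isGE_model (Z : DerivedCategory B) (n : ℤ) (hZ : Z.IsGE n) :
    ((model G).obj Z).IsGE n := by
  obtain ⟨K, _, ⟨e⟩⟩ := DerivedCategory.exists_iso_Q_obj_of_isGE Z n
  obtain ⟨L, i, hi, hL, hn⟩ := CochainComplex.Plus.modelCategoryQuillen.exists_quasiIso_injective K n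
  have : L.IsKInjective := CochainComplex.isKInjective_of_injective L n
  obtain ⟨e'⟩ := exists_iso_model_of_kInjective G L ((asIso (Q.map i)).symm ≪≫ e.symm)
  exact TStructure.t.isGE_of_iso e'.symm n

/-- The cohomology of the derived functor of an object. -/
lemma exists_homology_model_single [HasInjectiveResolutions B] (M : B) (p : ℕ) :
    Nonempty ((homologyFunctor A (p : ℤ)).obj ((model G).obj ((singleFunctor B 0).obj M)) ≅
      (G.rightDerived p).obj M) := by
  obtain ⟨R⟩ := HasInjectiveResolution.out (Z := M)
  have : R.cochainComplex.IsKInjective := CochainComplex.isKInjective_of_injective _ 0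
  obtain ⟨e⟩ := exists_iso_model_of_kInjective G R.cochainComplex
    ((asIso (Q.map R.ι')).symm ≪≫ ((singleFunctorIsoCompQ B 0).app M).symm)
  exact ⟨(homologyFunctor A p).mapIso e ≪≫ (homologyFunctorFactors A p).app _ ≪≫
    (HomologicalComplex.homologyFunctor A (ComplexShape.up ℤ) (p : ℤ)).mapIso
      (TriCat.mapExtendIso G ComplexShape.embeddingUpNat R.cocomplex) ≪≫
    HomologicalComplex.extendHomologyIso _ ComplexShape.embeddingUpNat (j := p) (j' := (p : ℤ)) rfl ≪≫
    (R.isoRightDerivedObj G p).symm⟩

end Groth.Agent.SiteCmpLib.TotalRight
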