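import Groth.Prelude.Def_SiteCmp
import Groth.Prelude.Def_CohCx
import Groth.Agent.H9Misc.SerreDerived
import Groth.Agent.H9Misc.RpushLeftAdj
import Groth.Agent.TriCat.DerivedOfAdjunction
import Groth.Agent.TriCat.KInjRes
import Groth.Agent.SiteBase.ModGroth
import Mathlib.CategoryTheory.Localization.Adjunction
import Mathlib.CategoryTheory.Triangulated.Adjunction

/-! Total right derived functors: a model, and the adjunction with an exact left adjoint. -/

universe u

open CategoryTheory Category Limits DerivedCategory Pretriangulated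

attribute [local instance] HasDerivedCategory.standard

namespace Groth.Agent.SiteCmpLib.DerivedAdj

variable {A : Type (u + 1)} [Category.{u} A] [Abelian A]
  {B : Type (u + 1)} [Category.{u} B] [Abelian B] [IsGrothendieckAbelian.{u} B]
  {F : A ⥤ B} {G : B ⥤ A} [F.Additive] [G.Additive]

variable (B) in
lemma qh_isLeftAdjoint : (Qh (C := B)).IsLeftAdjoint :=
  TriCat.qh_isLeftAdjoint_of_exists_resolution (A := B) fun L => by
    obtain ⟨I, f, hI, hf, -, -⟩ := TriCat.exists_kInjective_resolution' L
    exact ⟨I, f, hI, hf⟩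

variable (B) in
/-- A K-injective resolution functor. -/
noncomputable def res : DerivedCategory B ⥤ HomotopyCategory B (ComplexShape.up ℤ) :=
  haveI := qh_isLeftAdjoint B
  (Qh (C := B)).rightAdjoint

variable (B) in
/-- The localization functor is left adjoint to the resolution functor. -/
noncomputable def resAdj : Qh (C := B) ⊣ res B :=
  haveI := qh_isLeftAdjoint B
  Adjunction.ofIsLeftAdjoint _

variable (G) in
/-- A model of the total right derived functor. -/
noncomputable def model : DerivedCategory B ⥤ DerivedCategory A :=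
  res B ⋙ G.mapHomotopyCategory (ComplexShape.up ℤ) ⋙ Qh

variable (G) in
lemma exists_iso_model
    [(G.mapHomotopyCategory (ComplexShape.up ℤ) ⋙ Qh).HasRightDerivedFunctor
      (HomotopyCategory.quasiIso B (ComplexShape.up ℤ))] :
    Nonempty (model G ≅ (G.mapHomotopyCategory (ComplexShape.up ℤ) ⋙ Qh).totalRightDerived Qh
      (HomotopyCategory.quasiIso B (ComplexShape.up ℤ))) := by
  let W := HomotopyCategory.quasiIso B (ComplexShape.up ℤ)
  let T := G.mapHomotopyCategory (ComplexShape.up ℤ) ⋙ Qh
  haveI : (res B ⋙ T).IsRightDerivedFunctor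
      (Functor.whiskerRight (resAdj B).unit T : T ⟶ Qh ⋙ res B ⋙ T) W :=
    TriCat.isRightDerivedFunctor_of_adjunction (resAdj B) W T
  exact ⟨Functor.rightDerivedUnique (res B ⋙ T) _
    (Functor.whiskerRight (resAdj B).unit T : T ⟶ Qh ⋙ res B ⋙ T)
    (T.totalRightDerivedUnit Qh W) W⟩

/-- An exact left adjoint is left adjoint to the derived functor. -/
noncomputable def modelAdj [PreservesFiniteLimits F] [PreservesFiniteColimits F] (adj : F ⊣ G) :
    F.mapDerivedCategory ⊣ model G :=
  let a := (H9Misc.SerreDerived.adjHtpy (ComplexShape.up ℤ) adj).comp (resAdj B)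
  letI : CatCommSq (F.mapHomotopyCategory (ComplexShape.up ℤ) ⋙ Qh) (Qh (C := A))
      (𝟭 (DerivedCategory B)) F.mapDerivedCategory :=
    ⟨Functor.rightUnitor _ ≪≫ F.mapDerivedCategoryFactorsh.symm⟩
  letI : CatCommSq (res B ⋙ G.mapHomotopyCategory (ComplexShape.up ℤ))
      (𝟭 (DerivedCategory B)) (Qh (C := A)) (model G) :=
    ⟨Iso.refl _⟩
  a.localization (Qh (C := A)) (HomotopyCategory.quasiIso A (ComplexShape.up ℤ))
    (𝟭 (DerivedCategory B)) (MorphismProperty.isomorphisms _) F.mapDerivedCategory (model G)

variable (G) in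
lemma exists_triangulated_model :
    ∃ h : (model G).CommShift ℤ, (letI := h; (model G).IsTriangulated) := by
  have := qh_isLeftAdjoint B
  let _ : (res B).CommShift ℤ := (resAdj B).rightAdjointCommShift ℤ
  have : (resAdj B).CommShift ℤ := (resAdj B).commShift_of_leftAdjoint ℤ
  have : (res B).IsTriangulated := (resAdj B).isTriangulated_rightAdjoint
  unfold model
  exact ⟨inferInstance, inferInstance⟩

end Groth.Agent.SiteCmpLib.DerivedAdj
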