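import Groth.Prelude.Def_CohCx
import Mathlib.CategoryTheory.Triangulated.Functor
import Mathlib.CategoryTheory.Limits.Preserves.Shapes.Products

/-! Derived limits under product-preserving triangulated functors. -/

universe v v' u u'

open CategoryTheory Category Limits Pretriangulated

namespace Groth.Agent.SiteCmpLib.Rlim

variable {T : Type u} [Category.{v} T] [Preadditive T] [HasZeroObject T] [HasShift T ℤ]
  [∀ n : ℤ, (shiftFunctor T n).Additive] [Pretriangulated T]
  {T' : Type u'} [Category.{v'} T'] [Preadditive T'] [HasZeroObject T'] [HasShift T' ℤ]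
  [∀ n : ℤ, (shiftFunctor T' n).Additive] [Pretriangulated T']

/-- A functor isomorphic to a triangulated one which preserves products preserves derived limits. -/
theorem isRlimVia_map (R : T ⥤ T') (G : T ⥤ T') [G.CommShift ℤ] [G.IsTriangulated] (e : G ≅ R)
    (E : ℕ → T) (t : ∀ n, E (n + 1) ⟶ E n) [HasProduct E]
    [PreservesLimit (Discrete.functor E) R] (L : T) (a : ∀ n, L ⟶ E n)
    (h : CohCx.IsRlimVia E t L a) [HasProduct fun n => R.obj (E n)] :
    CohCx.IsRlimVia (fun n => R.obj (E n)) (fun n => R.map (t n)) (R.obj L) (fun n => R.map (a n)) := by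
  obtain ⟨c, hc⟩ := h
  let i : G.obj (∏ᶜ E) ≅ ∏ᶜ fun n => R.obj (E n) := e.app _ ≪≫ PreservesProduct.iso R E
  have hi : ∀ n, i.hom ≫ Pi.π _ n = e.hom.app _ ≫ R.map (Pi.π E n) := fun n => by
    simp [i, PreservesProduct.iso_hom]
  refine ⟨i.inv ≫ (G.map c ≫ (G.commShiftIso (1 : ℤ)).hom.app L) ≫
    (shiftFunctor T' (1 : ℤ)).map (e.hom.app L), ?_⟩
  refine isomorphic_distinguished _ (G.map_distinguished _ hc) _ ?_
  refine Iso.symm (Triangle.isoMk _ _ (e.app L) i i ?_ ?_ ?_)
  · show G.map (Pi.lift a) ≫ i.hom = e.hom.app L ≫ Pi.lift fun n => R.map (a n)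
    refine Pi.hom_ext (f := fun n => R.obj (E n)) _ _ fun n => ?_
    simp only [assoc, hi, Pi.lift_π, NatTrans.naturality_assoc]
    rw [← R.map_comp, Pi.lift_π]
  · show G.map (Pi.lift fun n => Pi.π E n - Pi.π E (n + 1) ≫ t n) ≫ i.hom =
      i.hom ≫ Pi.lift (fun n => Pi.π (fun n => R.obj (E n)) n -
        Pi.π (fun n => R.obj (E n)) (n + 1) ≫ R.map (t n))
    refine Pi.hom_ext (f := fun n => R.obj (E n)) _ _ fun n => ?_
    simp only [assoc, hi, Pi.lift_π, NatTrans.naturality_assoc, Preadditive.comp_sub]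
    rw [← R.map_comp, Pi.lift_π, ← NatTrans.naturality, ← Category.assoc i.hom, hi (n + 1), assoc,
      ← R.map_comp, ← NatTrans.naturality, G.map_sub, Preadditive.sub_comp, NatTrans.naturality,
      NatTrans.naturality]
  · show (G.map c ≫ (G.commShiftIso (1 : ℤ)).hom.app L) ≫
        (shiftFunctor T' (1 : ℤ)).map (e.hom.app L) =
      i.hom ≫ i.inv ≫ (G.map c ≫ (G.commShiftIso (1 : ℤ)).hom.app L) ≫
        (shiftFunctor T' (1 : ℤ)).map (e.hom.app L)
    simp

end Groth.Agent.SiteCmpLib.Rlim
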