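import Groth.Agent.SiteCmpLib.Devissage

/-! Devissage for fully faithfulness on bounded objects with cohomology in a subcategory. -/

universe w w' v v' u u'

open CategoryTheory Category Limits Pretriangulated DerivedCategory

namespace Groth.Agent.SiteCmpLib.Devissage

section Tri

variable {T : Type u} [Category.{v} T] [Preadditive T] [HasZeroObject T] [HasShift T ℤ]
  [∀ n : ℤ, (shiftFunctor T n).Additive] [Pretriangulated T]
  {T' : Type u'} [Category.{v'} T'] [Preadditive T'] [HasZeroObject T'] [HasShift T' ℤ]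
  [∀ n : ℤ, (shiftFunctor T' n).Additive] [Pretriangulated T']
  (F : T ⥤ T') [F.CommShift ℤ] [F.IsTriangulated]

/-- The functor is bijective on morphisms from `X` to `Y`. -/
def Good (X Y : T) : Prop := Function.Bijective (F.map : (X ⟶ Y) → (F.obj X ⟶ F.obj Y))

variable {F}

omit [F.CommShift ℤ] [F.IsTriangulated] [Preadditive T] [HasZeroObject T] [HasShift T ℤ]
  [Preadditive T'] [HasZeroObject T'] [HasShift T' ℤ] in
lemma Good.iso {X X' Y Y' : T} (h : Good F X Y) (e : X ≅ X') (e' : Y ≅ Y') : Good F X' Y' := by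
  constructor
  · intro φ ψ hφ
    have := h.1 (a₁ := e.hom ≫ φ ≫ e'.inv) (a₂ := e.hom ≫ ψ ≫ e'.inv) (by simp [hφ])
    simpa using this
  · intro g
    obtain ⟨φ, hφ⟩ := h.2 (F.map e.hom ≫ g ≫ F.map e'.inv)
    refine ⟨e.inv ≫ φ ≫ e'.hom, ?_⟩
    simp [hφ, ← F.map_comp, ← F.map_comp_assoc]

lemma Good.obj₂_right {X : T} {S : Triangle T} (hS : S ∈ distinguishedTriangles)
    (h₁ : Good F X S.obj₁) (h₃ : Good F X S.obj₃)
    (h₁' : Good F X (S.obj₁⟦(1 : ℤ)⟧)) (h₃' : Good F X (S.obj₃⟦(-1 : ℤ)⟧)) :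
    Good F X S.obj₂ := by
  constructor
  · refine (injective_iff_map_eq_zero (F.mapAddHom : (X ⟶ S.obj₂) →+ _)).2 fun φ (hφ : F.map φ = 0) => ?_
    have e : φ ≫ S.mor₂ = 0 := h₃.1 (by rw [F.map_comp, hφ, zero_comp, F.map_zero])
    obtain ⟨ψ, hψ⟩ := Triangle.coyoneda_exact₂ _ hS φ e
    have hr := F.map_distinguished _ (inv_rot_of_distTriang _ hS)
    obtain ⟨g, hg⟩ := Triangle.coyoneda_exact₂ _ hr (F.map ψ) (by
      show F.map ψ ≫ F.map S.mor₁ = 0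
      rw [← F.map_comp, ← hψ, hφ])
    obtain ⟨χ, rfl⟩ := h₃'.2 g
    let u : S.obj₃⟦(-1 : ℤ)⟧ ⟶ S.obj₁ := S.invRotate.mor₁
    have hψ' : ψ = χ ≫ u := h₁.1 (hg.trans (F.map_comp χ u).symm)
    have z : u ≫ S.mor₁ = 0 := comp_distTriang_mor_zero₁₂ _ (inv_rot_of_distTriang _ hS)
    rw [hψ, hψ', assoc, z, comp_zero]
  · intro g
    obtain ⟨ρ, hρ⟩ := h₃.2 (g ≫ F.map S.mor₂)
    have e : ρ ≫ S.mor₃ = 0 := h₁'.1 (by
      rw [F.map_comp, hρ, assoc, ← F.map_comp, comp_distTriang_mor_zero₂₃ _ hS, F.map_zero,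
        comp_zero, F.map_zero])
    obtain ⟨φ, hφ⟩ := Triangle.coyoneda_exact₃ _ hS ρ e
    obtain ⟨k, hk⟩ := Triangle.coyoneda_exact₂ _ (F.map_distinguished _ hS) (g - F.map φ) (by
      show (g - F.map φ) ≫ F.map S.mor₂ = 0
      rw [Preadditive.sub_comp, ← hρ, ← F.map_comp, ← hφ, sub_self])
    obtain ⟨χ, rfl⟩ := h₁.2 k
    refine ⟨φ + χ ≫ S.mor₁, ?_⟩
    rw [F.map_add, F.map_comp, ← eq_sub_iff_add_eq']
    exact hk.symm

lemma Good.obj₂_left {Y : T} {S : Triangle T} (hS : S ∈ distinguishedTriangles)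
    (h₁ : Good F S.obj₁ Y) (h₃ : Good F S.obj₃ Y)
    (h₁' : Good F (S.obj₁⟦(1 : ℤ)⟧) Y) (h₃' : Good F (S.obj₃⟦(-1 : ℤ)⟧) Y) :
    Good F S.obj₂ Y := by
  constructor
  · refine (injective_iff_map_eq_zero (F.mapAddHom : (S.obj₂ ⟶ Y) →+ _)).2 fun φ (hφ : F.map φ = 0) => ?_
    have e : S.mor₁ ≫ φ = 0 := h₁.1 (by rw [F.map_comp, hφ, comp_zero, F.map_zero])
    obtain ⟨ψ, hψ⟩ := Triangle.yoneda_exact₂ _ hS φ e
    have hr := F.map_distinguished _ (rot_of_distTriang _ hS)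
    obtain ⟨g, hg⟩ := Triangle.yoneda_exact₂ _ hr (F.map ψ) (by
      show F.map S.mor₂ ≫ F.map ψ = 0
      rw [← F.map_comp, ← hψ, hφ])
    obtain ⟨χ, rfl⟩ := h₁'.2 g
    have hψ' : ψ = S.mor₃ ≫ χ := h₃.1 (by rw [F.map_comp]; exact hg)
    rw [hψ, hψ', ← assoc, comp_distTriang_mor_zero₂₃ _ hS, zero_comp]
  · intro g
    obtain ⟨ρ, hρ⟩ := h₁.2 (F.map S.mor₁ ≫ g)
    let u : S.obj₃⟦(-1 : ℤ)⟧ ⟶ S.obj₁ := S.invRotate.mor₁
    have z : u ≫ S.mor₁ = 0 := comp_distTriang_mor_zero₁₂ _ (inv_rot_of_distTriang _ hS)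
    have e : u ≫ ρ = 0 := h₃'.1 (by
      rw [F.map_comp, hρ, ← assoc, ← F.map_comp, z, F.map_zero, zero_comp, F.map_zero])
    obtain ⟨φ, hφ'⟩ : ∃ φ : S.obj₂ ⟶ Y, ρ = S.mor₁ ≫ φ :=
      Triangle.yoneda_exact₂ _ (inv_rot_of_distTriang _ hS) ρ e
    obtain ⟨k, hk⟩ := Triangle.yoneda_exact₂ _ (F.map_distinguished _ hS) (g - F.map φ) (by
      show F.map S.mor₁ ≫ (g - F.map φ) = 0
      rw [Preadditive.comp_sub, ← hρ, hφ', F.map_comp]
      exact sub_self _)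
    obtain ⟨χ, rfl⟩ := h₃.2 k
    refine ⟨φ + S.mor₂ ≫ χ, ?_⟩
    rw [F.map_add, F.map_comp, ← eq_sub_iff_add_eq']
    exact hk.symm

end Tri

section Bounded

variable {A : Type u} [Category.{v} A] [Abelian A] [HasDerivedCategory.{w} A]
  {B : Type u'} [Category.{v'} B] [Abelian B] [HasDerivedCategory.{w'} B]
  {F : A ⥤ B} [F.Additive] [PreservesFiniteLimits F] [PreservesFiniteColimits F]
  (P : ObjectProperty A) [WSerre.IsWeakSerre P]

variable (A) in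
lemma singleShift (m p : ℤ) (X : A) :
    Nonempty (((singleFunctor A m).obj X)⟦p⟧ ≅ (singleFunctor A (m - p)).obj X) :=
  ⟨((singleFunctors A).shiftIso p (m - p) m (by omega)).app X⟩

variable (h : ∀ (M N : A), P M → P N → ∀ n : ℤ,
  Good F.mapDerivedCategory ((singleFunctor A 0).obj M) (((singleFunctor A 0).obj N)⟦n⟧))

include h in
lemma good_single_bounded {M : A} (hM : P M) (L : DerivedCategory A)
    (hL : WSerre.cohInBdd P L) : ∀ n : ℤ,
    Good F.mapDerivedCategory ((singleFunctor A 0).obj M) (L⟦n⟧) := by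
  obtain ⟨hc, ⟨a, ha⟩, ⟨b, hb⟩⟩ := hL
  refine bounded_induction P (fun Z => ∀ n : ℤ,
    Good F.mapDerivedCategory ((singleFunctor A 0).obj M) (Z⟦n⟧))
    (fun e hX n => (hX n).iso (Iso.refl _) ((shiftFunctor _ n).mapIso e))
    (fun T hT h₁ h₃ n => ?_) (fun p N hN n => ?_) L a b ha hb hc
  · exact Good.obj₂_right (Triangle.shift_distinguished T hT n) (h₁ n) (h₃ n)
      ((h₁ (n + 1)).iso (Iso.refl _) ((shiftFunctorAdd' (DerivedCategory A) n 1 (n + 1) rfl).app _))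
      ((h₃ (n + -1)).iso (Iso.refl _) ((shiftFunctorAdd' (DerivedCategory A) n (-1) (n + -1) rfl).app _))
  · obtain ⟨e₁⟩ := singleShift A p n N
    obtain ⟨e₂⟩ := singleShift A 0 (n - p) N
    exact (h M N hM hN (n - p)).iso (Iso.refl _)
      (e₂ ≪≫ (singleFunctor A _).mapIso (Iso.refl N) ≪≫ eqToIso (by rw [show 0 - (n - p) = p - n by omega]) ≪≫ e₁.symm)

include h in
theorem good_bounded (K L : DerivedCategory A) (hK : WSerre.cohInBdd P K)
    (hL : WSerre.cohInBdd P L) : Good F.mapDerivedCategory K L := by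
  obtain ⟨hc, ⟨a, ha⟩, ⟨b, hb⟩⟩ := hK
  suffices ∀ n : ℤ, Good F.mapDerivedCategory (K⟦n⟧) L from
    (this 0).iso ((shiftFunctorZero _ ℤ).app K) (Iso.refl _)
  refine bounded_induction P (fun Z => ∀ n : ℤ, Good F.mapDerivedCategory (Z⟦n⟧) L)
    (fun e hX n => (hX n).iso ((shiftFunctor _ n).mapIso e) (Iso.refl _))
    (fun T hT h₁ h₃ n => ?_) (fun p N hN n => ?_) K a b ha hb hc
  · exact Good.obj₂_left (Triangle.shift_distinguished T hT n) (h₁ n) (h₃ n)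
      ((h₁ (n + 1)).iso ((shiftFunctorAdd' (DerivedCategory A) n 1 (n + 1) rfl).app _) (Iso.refl _))
      ((h₃ (n + -1)).iso ((shiftFunctorAdd' (DerivedCategory A) n (-1) (n + -1) rfl).app _) (Iso.refl _))
  · let m := p - n
    obtain ⟨e₁⟩ := singleShift A p n N
    have g := good_single_bounded P h hN L hL m
    have : Good F.mapDerivedCategory (((singleFunctor A 0).obj N)⟦-m⟧) ((L⟦m⟧)⟦-m⟧) := by
      constructor
      · intro φ ψ he
        obtain ⟨φ', rfl⟩ := (shiftFunctor (DerivedCategory A) (-m)).map_surjective φ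
        obtain ⟨ψ', rfl⟩ := (shiftFunctor (DerivedCategory A) (-m)).map_surjective ψ
        congr 1
        refine g.1 ((shiftFunctor (DerivedCategory B) (-m)).map_injective ?_)
        have k₁ := (F.mapDerivedCategory.commShiftIso (-m)).hom.naturality φ'
        have k₂ := (F.mapDerivedCategory.commShiftIso (-m)).hom.naturality ψ'
        dsimp at k₁ k₂ he
        rw [he, k₂] at k₁
        exact ((cancel_epi _).1 k₁).symm
      · intro φ
        obtain ⟨φ', hφ'⟩ := (shiftFunctor (DerivedCategory B) (-m)).map_surjective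
          (((F.mapDerivedCategory.commShiftIso (-m)).app _).inv ≫ φ ≫
            ((F.mapDerivedCategory.commShiftIso (-m)).app _).hom)
        obtain ⟨ψ, rfl⟩ := g.2 φ'
        refine ⟨ψ⟦-m⟧', ?_⟩
        rw [← cancel_mono ((F.mapDerivedCategory.commShiftIso (-m)).hom.app _)]
        refine ((F.mapDerivedCategory.commShiftIso (-m)).hom.naturality ψ).trans ?_
        dsimp at hφ' ⊢
        rw [hφ', Iso.hom_inv_id_app_assoc]
    obtain ⟨e₂⟩ := singleShift A 0 (-m) N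
    exact this.iso (e₂ ≪≫ eqToIso (by rw [show 0 - -m = p - n by omega]) ≪≫ e₁.symm)
      ((shiftFunctorCompIsoId _ m (-m) (by omega)).app L)

include h in
theorem essImage_bounded (Q : ObjectProperty B) [WSerre.IsWeakSerre Q]
    (hs : ∀ N, Q N → ∃ M, P M ∧ Nonempty (F.obj M ≅ N)) (M : DerivedCategory B)
    (hM : WSerre.cohInBdd Q M) :
    ∃ K, WSerre.cohInBdd P K ∧ Nonempty (F.mapDerivedCategory.obj K ≅ M) := by
  obtain ⟨hc, ⟨a, ha⟩, ⟨b, hb⟩⟩ := hM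
  refine bounded_induction Q (fun Z => ∃ K, WSerre.cohInBdd P K ∧
      Nonempty (F.mapDerivedCategory.obj K ≅ Z))
    (fun e hX => let ⟨K, hK, ⟨i⟩⟩ := hX; ⟨K, hK, ⟨i ≪≫ e⟩⟩)
    (fun T hT h₁ h₃ => ?_) (fun p N hN => ?_) M a b ha hb hc
  · obtain ⟨K₁, hK₁, ⟨i₁⟩⟩ := h₁
    obtain ⟨K₃, hK₃, ⟨i₃⟩⟩ := h₃
    have hK₁' : WSerre.cohInBdd P (K₁⟦(1 : ℤ)⟧) :=
      ⟨cohIn_shift P hK₁.1 1, (TStructure.t (C := A)).bounded.le_shift (1 : ℤ) _ hK₁.2⟩
    obtain ⟨δ, hδ⟩ := (good_bounded P h K₃ _ hK₃ hK₁').2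
      (i₃.hom ≫ T.mor₃ ≫ i₁.inv⟦(1 : ℤ)⟧' ≫ (F.mapDerivedCategory.commShiftIso (1 : ℤ)).inv.app K₁)
    obtain ⟨K₂, f, g, hS⟩ := distinguished_cocone_triangle₂ δ
    refine ⟨K₂, ⟨cohIn_obj₂ P hS hK₁.1 hK₃.1, ?_⟩, ⟨Triangle.π₂.mapIso
      (isoTriangleOfIso₁₃ _ T (F.mapDerivedCategory.map_distinguished _ hS) hT i₁ i₃ ?_)⟩⟩
    · exact ((TStructure.t (C := A)).bounded.isoClosure_eq_self ▸
        (TStructure.t (C := A)).bounded.ext_of_isTriangulatedClosed₂' _ hS hK₁.2 hK₃.2)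
    · show (F.mapDerivedCategory.map δ ≫ (F.mapDerivedCategory.commShiftIso (1 : ℤ)).hom.app K₁) ≫
          i₁.hom⟦(1 : ℤ)⟧' = i₃.hom ≫ T.mor₃
      rw [hδ]
      simp [← Functor.map_comp]
  · obtain ⟨M', hM', ⟨e⟩⟩ := hs N hN
    refine ⟨_, ⟨cohIn_single P p hM', ⟨p, inferInstanceAs (DerivedCategory.IsGE _ p)⟩,
      ⟨p, inferInstanceAs (DerivedCategory.IsLE _ p)⟩⟩, ⟨?_⟩⟩
    exact (F.mapDerivedCategorySingleFunctor p).app M' ≪≫ (singleFunctor B p).mapIso e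

end Bounded

end Groth.Agent.SiteCmpLib.Devissage
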