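import Groth.Agent.SiteCmpLib.LocClass
import Groth.Agent.H9Misc.DerCompPush
import Groth.Agent.SiteBase.ExtMod
import Groth.Agent.H9Misc.SupportsCore

/-! Free modules on objects as test objects. -/

universe u

open CategoryTheory Category Limits Opposite Abelian

attribute [local instance] HasDerivedCategory.standard

namespace Groth.Agent.SiteCmpLib.ModTest

variable {C : Type u} [SmallCategory C] {J : GrothendieckTopology C} (O : Sheaf J CommRingCat.{u})

/-- The free module on an object, functorially. -/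
noncomputable def freeY : C ⥤ ModSite.Mod O :=
  yoneda ⋙ PresheafOfModules.free (ModSite.ringSh O).obj ⋙
    PresheafOfModules.sheafification (𝟙 (ModSite.ringSh O).obj)

variable {O}

/-- Maps out of the free module on `V` are sections over `V`. -/
noncomputable def sec (V : C) (M : ModSite.Mod O) : ((freeY O).obj V ⟶ M) ≃ ModSite.sect M V :=
  ((SiteBase.freeModAdj (ModSite.ringSh O)).homEquiv (yoneda.obj V) M).trans yonedaEquiv

lemma sec_comp (V : C) {M N : ModSite.Mod O} (φ : (freeY O).obj V ⟶ M) (g : M ⟶ N) :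
    sec V N (φ ≫ g) = (g.val.app (op V)).hom (sec V M φ) :=
  (congrArg yonedaEquiv ((SiteBase.freeModAdj (ModSite.ringSh O)).homEquiv_naturality_right φ g)).trans
    rfl

lemma sec_map {V W : C} (a : W ⟶ V) {M : ModSite.Mod O} (φ : (freeY O).obj V ⟶ M) :
    sec W M ((freeY O).map a ≫ φ) = (M.val.map a.op).hom (sec V M φ) :=
  (congrArg yonedaEquiv ((SiteBase.freeModAdj (ModSite.ringSh O)).homEquiv_naturality_left
    (yoneda.map a) φ)).trans (yonedaEquiv_naturality _ a).symm

lemma sec_zero (V : C) (M : ModSite.Mod O) : sec V M 0 = 0 := by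
  have h := sec_comp V (0 : (freeY O).obj V ⟶ M) (0 : M ⟶ M)
  rw [zero_comp] at h
  exact h.trans rfl

variable (O) in
lemma isTest : LocClass.IsTest J (freeY O) where
  lift M N q _ V a := by
    obtain ⟨S, hS, h⟩ := SuppCore.exists_cover_lift q (sec V N a)
    refine ⟨S, hS, fun W g hg => ?_⟩
    obtain ⟨x, hx⟩ := h g hg
    refine ⟨(sec W M).symm x, (sec W N).injective ?_⟩
    rw [sec_comp, Equiv.apply_symm_apply, sec_map]
    exact hx
  sep M V S hS a h := by
    refine (sec V M).injective ((Presheaf.IsSheaf.isSeparated M.isSheaf) V S hS _ _ fun W g hg => ?_)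
    have := h g hg
    show (M.val.map g.op).hom (sec V M a) = (M.val.map g.op).hom (sec V M 0)
    rw [← sec_map, ← sec_map, this, comp_zero]
  isZero M h := by
    rw [IsZero.iff_id_eq_zero]
    apply SheafOfModules.hom_ext
    apply PresheafOfModules.hom_ext
    intro U
    ext (x : ModSite.sect M U.unop)
    have := congrArg (sec U.unop M) (h U.unop ((sec U.unop M).symm x))
    rw [Equiv.apply_symm_apply, sec_zero] at this
    exact this

/-- The free module on `V` is the extension by zero of the structure sheaf. -/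
noncomputable def freeYIso (V : C) : (freeY O).obj V ≅ ModSite.freeOn O V :=
  H9Misc.DerCompPush.freeIso (sec V) (sec_comp V)

variable (O) in
/-- Sections as maps out of the free abelian sheaf. -/
noncomputable def secAb (V : C) (M : ModSite.Mod O) :
    ((freeY O).obj V ⟶ M) ≃ (CohCx.freeSheaf J V ⟶ (SheafOfModules.toSheaf (ModSite.ringSh O)).obj M) :=
  (sec V M).trans (SiteBase.secEquiv J V ((SheafOfModules.toSheaf (ModSite.ringSh O)).obj M)).symm.toEquiv

lemma secAb_comp (V : C) {M N : ModSite.Mod O} (φ : (freeY O).obj V ⟶ M) (g : M ⟶ N) :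
    secAb O V N (φ ≫ g) = secAb O V M φ ≫ (SheafOfModules.toSheaf (ModSite.ringSh O)).map g :=
  (congrArg (SiteBase.secEquiv J V ((SheafOfModules.toSheaf (ModSite.ringSh O)).obj N)).symm
      (sec_comp V φ g)).trans
    (SiteBase.secEquiv_symm_comp V (F := (SheafOfModules.toSheaf (ModSite.ringSh O)).obj M)
      (G := (SheafOfModules.toSheaf (ModSite.ringSh O)).obj N) (sec V M φ)
      ((SheafOfModules.toSheaf (ModSite.ringSh O)).map g)).symm

lemma secAb_eq (V : C) {M : ModSite.Mod O} (φ : (freeY O).obj V ⟶ M) :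
    secAb O V M φ = secAb O V _ (𝟙 _) ≫ (SheafOfModules.toSheaf (ModSite.ringSh O)).map φ :=
  (congrArg (secAb O V M) (id_comp φ).symm).trans (secAb_comp V (𝟙 _) φ)

lemma secAb_add (V : C) {M : ModSite.Mod O} (a b : (freeY O).obj V ⟶ M) :
    secAb O V M (a + b) = secAb O V M a + secAb O V M b :=
  (secAb_eq V (a + b)).trans ((congrArg _ (Functor.map_add _)).trans ((Preadditive.comp_add _ _ _ _ _ _).trans
    (congrArg₂ (· + ·) (secAb_eq V a).symm (secAb_eq V b).symm)))

/-- `Ext^k(ℤ[V] ⊗ O, M) = H^k(V, M)`. -/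
lemma nonempty_ext_equiv [HasExt.{u} (ModSite.Mod O)] (V : C) (M : ModSite.Mod O) (k : ℕ) :
    Nonempty (Ext.{u} ((freeY O).obj V) M k ≃+ ModSite.HU O M k V) :=
  SiteBase.nonempty_ext_addEquiv (SheafOfModules.toSheaf (ModSite.ringSh O)) ((freeY O).obj V)
    (CohCx.freeSheaf J V) (fun _ hE => hE.map_of_exact (SheafOfModules.toSheaf (ModSite.ringSh O)))
    (fun I hI q => SiteBase.subsingleton_HU_of_totallyAcyclic
      (@SiteBase.isTotallyAcyclic_toSheaf_injective _ _ _ (ModSite.ringSh O) I hI) V q)
    (fun X => { secAb O V X with map_add' := secAb_add V })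
    (fun _ _ φ g => secAb_comp V φ g) k M

lemma hom_shift_eq_zero [HasExt.{u} (ModSite.Mod O)] (V : C) (M : ModSite.Mod O) (k : ℕ)
    (h : Subsingleton (ModSite.HU O M k V))
    (φ : (DerivedCategory.singleFunctor _ 0).obj ((freeY O).obj V) ⟶
      ((DerivedCategory.singleFunctor (ModSite.Mod O) 0).obj M)⟦(k : ℤ)⟧) : φ = 0 := by
  obtain ⟨e⟩ := nonempty_ext_equiv V M k
  have := e.toEquiv.subsingleton
  exact (Ext.homEquiv (X := (freeY O).obj V) (Y := M)).symm.injective (Subsingleton.elim _ _)

variable {D : Type u} [SmallCategory D] {K : GrothendieckTopology D} {O_D : Sheaf K CommRingCat.{u}}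
  (f : ModSite.RMor O O_D)

/-- The inverse image of a free module is free. -/
noncomputable def pullFreeY (V : D) : f.pull.obj ((freeY O_D).obj V) ≅ (freeY O).obj (f.fn.obj V) :=
  f.pull.mapIso (freeYIso V) ≪≫ H9Misc.DerCompPush.pullFreeIso f V ≪≫ (freeYIso _).symm

end Groth.Agent.SiteCmpLib.ModTest
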