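import Groth.Agent.SiteCmpLib.Tower
import Groth.Agent.SiteCmpLib.ModTest
import Groth.Agent.TriCat.DerivedProducts
import Groth.Agent.TriCat.KInjRes
import Mathlib.Algebra.Homology.DerivedCategory.KInjective

/-!
An object is the derived limit of its truncations when its low cohomology sheaves have no classes of
high degree, for any choice of derived category.
-/

set_option autoImplicit false
set_option linter.style.haveILetI false
set_option backward.isDefEq.respectTransparency false
set_option backward.isDefEq.respectTransparency.types false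

universe w u

open CategoryTheory Category Limits Pretriangulated DerivedCategory

namespace Groth.Agent.SiteCmpLib.RlimTrunc

open LocClass

variable {B : Type (u + 1)} [Category.{u} B] [Abelian B] [HasDerivedCategory.{w} B]

local notation "H" => homologyFunctor B
local notation "tS" => (TStructure.t (C := B))

/-- An object inside the degree zero cohomology of its single complex. -/
noncomputable def single0 (M : B) : M ⟶ (H 0).obj ((singleFunctor B 0).obj M) :=
  (HomologicalComplex.singleObjHomologySelfIso (ComplexShape.up ℤ) 0 M).inv ≫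
    (homologyFunctorFactors B 0).inv.app ((CochainComplex.singleFunctor B 0).obj M) ≫
    (H 0).map ((singleFunctorIsoCompQ B 0).inv.app M)

variable {D : Type u} [SmallCategory D] {Jt : GrothendieckTopology D} {P : D ⥤ B}

lemma exists_class0_local (hP : IsTest Jt P) {V : D} (Z : DerivedCategory B)
    (s : P.obj V ⟶ (H 0).obj Z) :
    ∃ S ∈ Jt V, ∀ ⦃W : D⦄ (g : W ⟶ V), S g →
      ∃ φ : (singleFunctor B 0).obj (P.obj W) ⟶ Z, single0 (P.obj W) ≫ (H 0).map φ = P.map g ≫ s := by
  let I := DerivedCategory.Q.objPreimage Z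
  let e : DerivedCategory.Q.obj I ≅ Z := DerivedCategory.Q.objObjPreimageIso Z
  let s' : P.obj V ⟶ I.homology 0 :=
    s ≫ (H 0).map e.inv ≫ (homologyFunctorFactors B 0).hom.app I
  obtain ⟨S, hS, hS'⟩ := hP.lift (I.homologyπ 0) V s'
  refine ⟨S, hS, fun W g hg => ?_⟩
  obtain ⟨c, hc⟩ := hS' g hg
  let f : (HomologicalComplex.single B (ComplexShape.up ℤ) 0).obj (P.obj W) ⟶ I :=
    HomologicalComplex.mkHomFromSingle (c ≫ I.iCycles 0) (fun k _ => by simp)
  refine ⟨(singleFunctorIsoCompQ B 0).hom.app (P.obj W) ≫ DerivedCategory.Q.map f ≫ e.hom, ?_⟩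
  have hcyc : (HomologicalComplex.singleObjCyclesSelfIso (ComplexShape.up ℤ) 0 (P.obj W)).inv ≫
      HomologicalComplex.cyclesMap f 0 = c := by
    rw [← cancel_mono (I.iCycles 0), assoc, HomologicalComplex.cyclesMap_i,
      HomologicalComplex.singleObjCyclesSelfIso_inv_iCycles_assoc]
    simp [f, HomologicalComplex.singleObjXSelf]
  have hf : (HomologicalComplex.singleObjHomologySelfIso (ComplexShape.up ℤ) 0 (P.obj W)).inv ≫
      HomologicalComplex.homologyMap f 0 = c ≫ I.homologyπ 0 := by
    rw [← HomologicalComplex.singleObjCyclesSelfIso_inv_homologyπ, assoc,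
      HomologicalComplex.homologyπ_naturality, ← assoc]
    exact congrArg (· ≫ I.homologyπ 0) hcyc
  have hn : (homologyFunctorFactors B 0).inv.app _ ≫ (H 0).map (DerivedCategory.Q.map f) =
      HomologicalComplex.homologyMap f 0 ≫ (homologyFunctorFactors B 0).inv.app I :=
    ((homologyFunctorFactors B 0).inv.naturality f).symm
  dsimp only [single0]
  simp only [assoc, ← Functor.map_comp]
  rw [Iso.inv_hom_id_app_assoc]
  erw [(H 0).map_comp, reassoc_of% hn, reassoc_of% hf, reassoc_of% hc]
  dsimp only [s']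
  simp only [assoc, Iso.hom_inv_id_app_assoc]
  refine congrArg (P.map g ≫ ·) ?_
  refine (congrArg (s ≫ ·) ((H 0).map_comp e.inv e.hom).symm).trans ?_
  rw [e.inv_hom_id, CategoryTheory.Functor.map_id]
  exact comp_id s

variable [IsGrothendieckAbelian.{u} B]

omit [IsGrothendieckAbelian.{u} B] in
lemma map_Q_eq_zero {K L : CochainComplex B ℤ} {f : K ⟶ L} (h : Homotopy f 0) :
    DerivedCategory.Q.map f = 0 := by
  have h1 : (HomotopyCategory.quotient B (ComplexShape.up ℤ)).map f = 0 :=
    (HomotopyCategory.eq_of_homotopy f 0 h).trans (Functor.map_zero _ _ _)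
  have h2 := (quotientCompQhIso B).hom.naturality f
  rw [← cancel_epi ((quotientCompQhIso B).hom.app K), comp_zero]
  refine h2.symm.trans ?_
  show DerivedCategory.Qh.map ((HomotopyCategory.quotient B _).map f) ≫ _ = 0
  rw [h1, Functor.map_zero, zero_comp]

/-- A map from a test object with zero class vanishes locally. -/
lemma eq_zero_local (hP : IsTest Jt P) {V : D} {Z : DerivedCategory B}
    (φ : (singleFunctor B 0).obj (P.obj V) ⟶ Z) (hφ : single0 (P.obj V) ≫ (H 0).map φ = 0) :
    ∃ S ∈ Jt V, ∀ ⦃W : D⦄ (g : W ⟶ V), S g → (singleFunctor B 0).map (P.map g) ≫ φ = 0 := by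
  obtain ⟨I, q, hI, hq, -, -⟩ := TriCat.exists_kInjective_resolution' (DerivedCategory.Q.objPreimage Z)
  let e : DerivedCategory.Q.obj I ≅ Z :=
    (asIso (DerivedCategory.Q.map q)).symm ≪≫ DerivedCategory.Q.objObjPreimageIso Z
  let S0 := (HomologicalComplex.single B (ComplexShape.up ℤ) 0).obj (P.obj V)
  obtain ⟨ψ, hψ⟩ := (CochainComplex.IsKInjective.Qh_map_bijective
    ((HomotopyCategory.quotient B _).obj S0) I).surjective
    ((quotientCompQhIso B).hom.app S0 ≫ (singleFunctorIsoCompQ B 0).inv.app (P.obj V) ≫ φ ≫ e.inv ≫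
      (quotientCompQhIso B).inv.app I)
  obtain ⟨f, rfl⟩ := (HomotopyCategory.quotient B (ComplexShape.up ℤ)).map_surjective ψ
  have hf : φ = (singleFunctorIsoCompQ B 0).hom.app (P.obj V) ≫ DerivedCategory.Q.map f ≫ e.hom := by
    have h2 := (quotientCompQhIso B).hom.naturality f
    have h3 : DerivedCategory.Q.map f =
        (singleFunctorIsoCompQ B 0).inv.app (P.obj V) ≫ φ ≫ e.inv := by
      rw [← cancel_epi ((quotientCompQhIso B).hom.app S0)]
      refine h2.symm.trans ?_
      show DerivedCategory.Qh.map ((HomotopyCategory.quotient B _).map f) ≫ _ = _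
      rw [hψ]
      simp
    rw [h3]
    simp
  let c : P.obj V ⟶ I.cycles 0 :=
    (HomologicalComplex.singleObjCyclesSelfIso (ComplexShape.up ℤ) 0 (P.obj V)).inv ≫
      HomologicalComplex.cyclesMap f 0
  have hc : c ≫ I.homologyπ 0 = 0 := by
    have hn : (homologyFunctorFactors B 0).inv.app _ ≫ (H 0).map (DerivedCategory.Q.map f) =
        HomologicalComplex.homologyMap f 0 ≫ (homologyFunctorFactors B 0).inv.app I :=
      ((homologyFunctorFactors B 0).inv.naturality f).symm
    rw [hf] at hφ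
    dsimp only [single0] at hφ
    simp only [assoc, ← Functor.map_comp, Iso.inv_hom_id_app_assoc] at hφ
    erw [(H 0).map_comp, reassoc_of% hn] at hφ
    have h4 : (HomologicalComplex.singleObjHomologySelfIso (ComplexShape.up ℤ) 0 (P.obj V)).inv ≫
        HomologicalComplex.homologyMap f 0 = 0 := by
      rw [← cancel_mono ((homologyFunctorFactors B 0).inv.app I ≫ (H 0).map e.hom), zero_comp, assoc]
      exact hφ
    rw [← HomologicalComplex.singleObjCyclesSelfIso_inv_homologyπ, assoc,
      HomologicalComplex.homologyπ_naturality] at h4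
    exact (assoc _ _ _).trans h4
  let ex : ShortComplex B :=
    ShortComplex.mk (I.toCycles (-1) 0) (I.homologyπ 0) (I.toCycles_comp_homologyπ _ _)
  have hex : ex.Exact := ShortComplex.exact_of_g_is_cokernel _ (I.homologyIsCokernel (-1) 0 (by simp))
  have : Epi (kernel.lift (I.homologyπ 0) (I.toCycles (-1) 0) ex.zero) :=
    (ShortComplex.exact_iff_epi_kernel_lift _).1 hex
  obtain ⟨R, hR, hR'⟩ := hP.lift (kernel.lift (I.homologyπ 0) (I.toCycles (-1) 0) ex.zero) V
    (kernel.lift (I.homologyπ 0) c hc)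
  refine ⟨R, hR, fun W g hg => ?_⟩
  obtain ⟨b, hb⟩ := hR' g hg
  have hb' : b ≫ I.d (-1) 0 = P.map g ≫
      (HomologicalComplex.singleObjXSelf (ComplexShape.up ℤ) 0 (P.obj V)).inv ≫ f.f 0 := by
    have h5 : b ≫ I.toCycles (-1) 0 = P.map g ≫ c := by simpa using hb =≫ kernel.ι _
    have h6 := h5 =≫ I.iCycles 0
    simp only [assoc, HomologicalComplex.toCycles_i, c, HomologicalComplex.cyclesMap_i,
      assoc] at h6
    exact h6.trans (congrArg (P.map g ≫ ·)
      (HomologicalComplex.singleObjCyclesSelfIso_inv_iCycles_assoc _ _ _ _))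
  let SW := (HomologicalComplex.single B (ComplexShape.up ℤ) 0).obj (P.obj W)
  let gs : SW ⟶ S0 := (HomologicalComplex.single B (ComplexShape.up ℤ) 0).map (P.map g)
  let hom : ∀ i j, (ComplexShape.up ℤ).Rel j i → (SW.X i ⟶ I.X j) := fun i j hij =>
    if hi : i = 0 then (HomologicalComplex.singleObjXIsoOfEq (ComplexShape.up ℤ) 0 _ i hi).hom ≫ b ≫
      (I.XIsoOfEq (show (-1 : ℤ) = j by have : j + 1 = i := hij; omega)).hom
    else 0
  have hnull : gs ≫ f = Homotopy.nullHomotopicMap' hom := by
    refine HomologicalComplex.from_single_hom_ext ?_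
    rw [Homotopy.nullHomotopicMap'_f (show (ComplexShape.up ℤ).Rel (-1) 0 from rfl)
      (show (ComplexShape.up ℤ).Rel 0 1 from rfl)]
    simp [hom, gs, SW, S0, HomologicalComplex.singleObjXSelf, hb', HomologicalComplex.single_map_f_self]
  have h0 : DerivedCategory.Q.map (gs ≫ f) = 0 :=
    map_Q_eq_zero ((Homotopy.ofEq hnull).trans (Homotopy.nullHomotopy' hom))
  rw [hf]
  have h7 := (singleFunctorIsoCompQ B 0).hom.naturality (P.map g)
  rw [← assoc, h7]
  rw [DerivedCategory.Q.map_comp] at h0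
  refine (assoc _ _ _).trans ?_
  refine (congrArg (_ ≫ ·) ((assoc _ _ _).symm.trans (congrArg (· ≫ e.hom) h0))).trans ?_
  rw [zero_comp, comp_zero]

variable {X : DerivedCategory B}

omit [IsGrothendieckAbelian.{u} B] in
/-- The cone of a transition map of the tower of truncations. -/
lemma exists_cone (E : DerivedCategory B) (n : ℕ) :
    ∃ (C : DerivedCategory B) (f : C ⟶ CohCx.truncTower E (n + 1))
      (h : CohCx.truncTower E n ⟶ C⟦(1 : ℤ)⟧),
      Triangle.mk f (CohCx.truncTowerMap E n) h ∈ distinguishedTriangles ∧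
        Nonempty (C ≅ (singleFunctor B (-(n + 1 : ℤ))).obj ((H (-(n + 1 : ℤ))).obj E)) := by
  obtain ⟨C, f, h, hT⟩ := distinguished_cocone_triangle₁ (CohCx.truncTowerMap E n)
  refine ⟨C, f, h, hT, ?_⟩
  have hge : ∀ k : ℕ, DerivedCategory.IsGE (CohCx.truncTower E k) (-(k : ℤ)) := fun k =>
    inferInstanceAs ((tS).IsGE (((tS).truncGE (-(k : ℤ))).obj E) (-(k : ℤ)))
  have hCge : C.IsGE (-(n + 1 : ℤ)) := by
    refine (isGE_iff _ _).2 fun i hi => ?_
    have := hge (n + 1); have := hge n
    refine (HomologySequence.exact₁ _ hT (i - 1) i (by omega)).isZero_of_both_zeros ?_ ?_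
    · exact (isZero_of_isGE (CohCx.truncTower E n) (-(n : ℤ)) (i - 1) (by omega)).eq_of_src _ _
    · exact (isZero_of_isGE (CohCx.truncTower E (n + 1)) (-((n + 1 : ℕ) : ℤ)) i (by omega)).eq_of_tgt _ _
  have hCle : C.IsLE (-(n + 1 : ℤ)) := by
    refine (isLE_iff _ _).2 fun i hi => ?_
    refine (HomologySequence.exact₁ _ hT (i - 1) i (by omega)).isZero_of_both_zeros ?_ ?_
    · rcases eq_or_lt_of_le (show -(n + 1 : ℤ) ≤ i - 1 by omega) with h0 | h0
      · have := hge n
        exact (isZero_of_isGE (CohCx.truncTower E n) (-(n : ℤ)) (i - 1) (by omega)).eq_of_src _ _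
      · have := Tower.isIso_homology_truncTowerMap E n (i - 1) (by omega)
        have : Epi ((H (i - 1)).map (Triangle.mk f (CohCx.truncTowerMap E n) h).mor₂) :=
          inferInstanceAs (Epi ((H (i - 1)).map (CohCx.truncTowerMap E n)))
        exact (HomologySequence.epi_homologyMap_mor₂_iff _ hT (i - 1) i (by omega)).1 this
    · have := Tower.isIso_homology_truncTowerMap E n i (by omega)
      have : Mono ((H i).map (Triangle.mk f (CohCx.truncTowerMap E n) h).mor₂) :=
        inferInstanceAs (Mono ((H i).map (CohCx.truncTowerMap E n)))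
      exact (HomologySequence.mono_homologyMap_mor₂_iff _ hT i).1 this
  obtain ⟨M, ⟨eM⟩⟩ := exists_iso_singleFunctor_obj_of_isGE_of_isLE C (-(n + 1 : ℤ))
  let q : ℤ := -(n + 1 : ℤ)
  have hzero : IsZero ((H q).obj (CohCx.truncTower E n)) :=
    have := hge n
    isZero_of_isGE (CohCx.truncTower E n) (-(n : ℤ)) q (by omega)
  have hzero' : IsZero ((H (q - 1)).obj (CohCx.truncTower E n)) :=
    have := hge n
    isZero_of_isGE (CohCx.truncTower E n) (-(n : ℤ)) (q - 1) (by omega)
  have : Mono ((H q).map (Triangle.mk f (CohCx.truncTowerMap E n) h).mor₁) :=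
    (HomologySequence.mono_homologyMap_mor₁_iff _ hT (q - 1) q (by omega)).2 (hzero'.eq_of_src _ _)
  have : Epi ((H q).map (Triangle.mk f (CohCx.truncTowerMap E n) h).mor₁) :=
    (HomologySequence.epi_homologyMap_mor₁_iff _ hT q).2 (hzero.eq_of_tgt _ _)
  have : IsIso ((H q).map f) :=
    isIso_of_mono_of_epi ((H q).map (Triangle.mk f (CohCx.truncTowerMap E n) h).mor₁)
  have h2 := H9Misc.isIso_map_truncGEπ (-((n + 1 : ℕ) : ℤ)) q (by omega) E
  let eH : (H q).obj E ≅ (H q).obj C :=
    @asIso _ _ _ _ ((H q).map ((tS).truncGEπ (-((n + 1 : ℕ) : ℤ)) |>.app E)) h2 ≪≫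
      (asIso ((H q).map f)).symm
  exact ⟨eM ≪≫ (singleFunctor B q).mapIso
    (((singleFunctorCompHomologyFunctorIso B q).app M).symm ≪≫ (H q).mapIso eM.symm ≪≫ eH.symm)⟩

/-- The classes of degree `j` on test objects of the deep cohomology objects vanish on refinements. -/
def Bound (Jt : GrothendieckTopology D) (P : D ⥤ B) (X : DerivedCategory B) (V : D) : Prop :=
  ∀ j : ℤ, ∃ N : ℕ, ∀ T ∈ Jt V, ∃ (ι : Type u) (Y : ι → D) (f : ∀ i, Y i ⟶ V),
    (∀ i, T.arrows (f i)) ∧ Sieve.ofArrows Y f ∈ Jt V ∧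
      ∀ (i : ι) (n k : ℕ), N ≤ n → -(n + 1 : ℤ) + k = j →
        ∀ φ : (singleFunctor B 0).obj (P.obj (Y i)) ⟶
          ((singleFunctor B 0).obj ((H (-(n + 1 : ℤ))).obj X))⟦(k : ℤ)⟧, φ = 0

/-- An object is the derived limit of its truncations. -/
theorem isRlimVia_trunc (hP : IsTest Jt P) {B' : Set D} (hB : Covers Jt B') (X : DerivedCategory B)
    (hV : ∀ V ∈ B', Bound Jt P X V) [HasProduct (CohCx.truncTower X)] :
    CohCx.IsRlimVia (CohCx.truncTower X) (CohCx.truncTowerMap X) X (CohCx.toTruncTower X) := by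
  haveI : ∀ K : ℕ → DerivedCategory B, HasProduct K := fun K => by
    have : HasLimitsOfShape (Discrete ℕ) (DerivedCategory B) :=
      TriCat.hasProductsOfShape_derivedCategory fun M => by
        obtain ⟨I, f, hI, hf, -, -⟩ := TriCat.exists_kInjective_resolution' M
        exact ⟨I, f, hI, hf⟩
    infer_instance
  obtain ⟨L, a, e, hL, hea, hfin⟩ := Tower.exists_trunc_comparison X
  refine hfin fun m => ?_
  let σ := (H 0).shiftIso m 0 m (add_zero m)
  let M₀ : ℕ := (-m).toNat
  have hmono : Mono ((H m).map (a M₀)) := hP.mono_of_covers hB _ fun V hVB s hs => by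
    obtain ⟨N, hN⟩ := hV V hVB m
    let M : ℕ := max M₀ (max N (-m).toNat)
    have hsM : ∀ n, M₀ ≤ n → s ≫ (H m).map (a n) = 0 := fun n hn => by
      induction n, hn using Nat.le_induction with
      | base => exact hs
      | succ n hn ih =>
        have := Tower.isIso_homology_truncTowerMap X n m (by omega)
        rw [← cancel_mono ((H m).map (CohCx.truncTowerMap X n)), zero_comp, assoc, ← (H m).map_comp,
          DLim.rlim_comp_t hL n]
        exact ih
    obtain ⟨S, hS, hS'⟩ := exists_class0_local hP (L⟦m⟧) (s ≫ σ.inv.app L)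
    have hz : ∀ (W : D) (g : W ⟶ V), S g → ∃ R ∈ Jt W,
        ∃ φ : (singleFunctor B 0).obj (P.obj W) ⟶ L⟦m⟧,
          single0 (P.obj W) ≫ (H 0).map φ = P.map g ≫ s ≫ σ.inv.app L ∧
          ∀ ⦃W' : D⦄ (g' : W' ⟶ W), R g' →
            (singleFunctor B 0).map (P.map g') ≫ φ ≫ (a M)⟦m⟧' = 0 := fun W g hg => by
      obtain ⟨φ, hφ⟩ := hS' g hg
      obtain ⟨R, hR, hR'⟩ := eq_zero_local hP (φ ≫ (a M)⟦m⟧') (by
        rw [(H 0).map_comp]
        refine (assoc _ _ _).symm.trans ((congrArg (· ≫ _) hφ).trans ?_)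
        have h2 : σ.inv.app L ≫ (H 0).map ((a M)⟦m⟧') = (H m).map (a M) ≫ σ.inv.app _ :=
          (σ.inv.naturality (a M)).symm
        simp only [assoc]
        rw [h2, reassoc_of% (hsM M (le_max_left _ _)), zero_comp, comp_zero])
      exact ⟨R, hR, φ, hφ, hR'⟩
    choose R hR φ hφ hzero using hz
    obtain ⟨ι, Y, f, hf, hcov, hY⟩ := hN (Sieve.bind S.arrows fun W g hg => R W g hg)
      (Jt.bind_covering hS fun W g hg => hR W g hg)
    refine hP.sep_family hcov s fun i => ?_
    obtain ⟨W, k, g, hg, hk, hki⟩ := hf i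
    have hck : Tower.ConesKilled (CohCx.truncTowerMap X) ((singleFunctor B 0).obj (P.obj (Y i))) m M :=
      fun n hn => by
        obtain ⟨C, fC, hC, hT, ⟨eC⟩⟩ := exists_cone X n
        obtain ⟨kk, hkk⟩ : ∃ kk : ℕ, -(n + 1 : ℤ) + kk = m := ⟨(m + (n + 1)).toNat, by omega⟩
        refine ⟨C, fC, hC, hT, fun ψ => ?_⟩
        let j : C⟦m⟧ ≅ ((singleFunctor B 0).obj ((H (-(n + 1 : ℤ))).obj X))⟦(kk : ℤ)⟧ :=
          (shiftFunctor _ m).mapIso (eC ≪≫
              (((singleFunctors B).shiftIso (-(-(n + 1 : ℤ))) (-(n + 1 : ℤ)) 0 (by omega)).app _).symm) ≪≫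
            ((shiftFunctorAdd' (DerivedCategory B) (-(-(n + 1 : ℤ))) m (kk : ℤ) (by omega)).app _).symm
        rw [← cancel_mono j.hom, zero_comp]
        exact hY i n kk (le_trans (le_trans (le_max_left _ _) (le_max_right _ _)) hn) hkk _
    have hkill : (singleFunctor B 0).map (P.map k) ≫ φ W g hg = 0 :=
      Tower.eq_zero_of_conesKilled hL hck _ ((assoc _ _ _).trans (hzero W g hg k hk))
    have h8 : P.map k ≫ single0 (P.obj W) =
        single0 (P.obj (Y i)) ≫ (H 0).map ((singleFunctor B 0).map (P.map k)) := by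
      dsimp only [single0]
      have n1 := HomologicalComplex.singleObjHomologySelfIso_inv_naturality (c := ComplexShape.up ℤ) (j := 0) (P.map k)
      have n2 := (homologyFunctorFactors B 0).inv.naturality
        ((CochainComplex.singleFunctor B 0).map (P.map k))
      have n3 := (singleFunctorIsoCompQ B 0).inv.naturality (P.map k)
      simp only [assoc]
      rw [← (H 0).map_comp, ← n3, (H 0).map_comp]
      erw [← reassoc_of% n2, reassoc_of% n1]
    rw [← cancel_mono (σ.inv.app L), zero_comp, ← hki, P.map_comp, assoc, assoc, ← hφ W g hg,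
      reassoc_of% h8]
    refine (congrArg (single0 _ ≫ ·) ((H 0).map_comp _ _).symm).trans ?_
    rw [hkill, Functor.map_zero, comp_zero]
  have hπ : IsIso ((H m).map e ≫ (H m).map (a M₀)) := by
    rw [← (H m).map_comp, hea]
    exact H9Misc.isIso_map_truncGEπ (-(M₀ : ℤ)) m (by omega) X
  have : IsIso ((H m).map (a M₀)) :=
    have : Epi ((H m).map (a M₀)) := epi_of_epi ((H m).map e) _
    isIso_of_mono_of_epi _
  exact IsIso.of_isIso_comp_right ((H m).map e) ((H m).map (a M₀))

end Groth.Agent.SiteCmpLib.RlimTrunc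

namespace Groth.Agent.SiteCmpLib.RlimTrunc

open CategoryTheory Abelian Opposite

variable {C : Type u} [SmallCategory C] {J : GrothendieckTopology C} {O : Sheaf J CommRingCat.{u}}

/-- Classes on free test objects are cohomology classes, for any derived category. -/
lemma mod_hom_shift_eq_zero [HasDerivedCategory.{w} (ModSite.Mod O)] (V : C) (M : ModSite.Mod O) (k : ℕ)
    (h : Subsingleton (ModSite.HU O M k V))
    (φ : (DerivedCategory.singleFunctor _ 0).obj ((ModTest.freeY O).obj V) ⟶
      ((DerivedCategory.singleFunctor (ModSite.Mod O) 0).obj M)⟦(k : ℤ)⟧) : φ = 0 := by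
  have : HasExt.{u} (ModSite.Mod O) := hasExt_of_enoughInjectives _
  obtain ⟨e⟩ := ModTest.nonempty_ext_equiv V M k
  have := e.toEquiv.subsingleton
  exact (Ext.homEquiv (X := (ModTest.freeY O).obj V) (Y := M)).symm.injective (Subsingleton.elim _ _)

end Groth.Agent.SiteCmpLib.RlimTrunc
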