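import Groth.Prelude.Def_SiteCmp
import Groth.Prelude.Def_WeakSerre
import Mathlib.Algebra.Category.Grp.Injective
import Mathlib.Algebra.Category.Grp.EpiMono
import Mathlib.CategoryTheory.Adjunction.Evaluation
import Mathlib.CategoryTheory.Preadditive.Injective.Basic
import Mathlib.Algebra.Category.Grp.AB
import Mathlib.CategoryTheory.Sites.EpiMono
import Mathlib.CategoryTheory.Sites.LeftExact

/-! The torsion subsheaf of an abelian sheaf, and divisibility of injective abelian sheaves. -/

universe u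

open CategoryTheory CategoryTheory.Limits Opposite

namespace Groth.Agent.SiteCmpLib.TorsionSheaf

variable {C : Type u} [SmallCategory C] (J : GrothendieckTopology C) (F : Sheaf J AddCommGrpCat.{u})

/-- Locally torsion sections. -/
def tsub (U : Cᵒᵖ) : AddSubgroup (F.obj.obj U) where
  carrier := {s | ∃ S ∈ J U.unop, ∀ ⦃V : C⦄ (g : V ⟶ U.unop), S g → IsOfFinAddOrder ((F.obj.map g.op).hom s)}
  zero_mem' := ⟨⊤, J.top_mem _, fun _ g _ => by rw [map_zero]; exact IsOfFinAddOrder.zero⟩
  add_mem' := by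
    rintro a b ⟨S, hS, hS'⟩ ⟨T, hT, hT'⟩
    exact ⟨S ⊓ T, J.intersection_covering hS hT, fun V g hg => by
      rw [map_add]; exact (hS' g hg.1).add (hT' g hg.2)⟩
  neg_mem' := by
    rintro a ⟨S, hS, hS'⟩
    exact ⟨S, hS, fun V g hg => by rw [map_neg]; exact (hS' g hg).neg⟩

lemma mem_tsub_of_finOrder {U : Cᵒᵖ} {s : F.obj.obj U} (hs : IsOfFinAddOrder s) : s ∈ tsub J F U :=
  ⟨⊤, J.top_mem _, fun _ g _ => (F.obj.map g.op).hom.isOfFinAddOrder hs⟩

lemma map_mem_tsub {U V : Cᵒᵖ} (f : U ⟶ V) {s : F.obj.obj U} (hs : s ∈ tsub J F U) :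
    (F.obj.map f).hom s ∈ tsub J F V := by
  obtain ⟨S, hS, hS'⟩ := hs
  refine ⟨S.pullback f.unop, J.pullback_stable _ hS, fun W g hg => ?_⟩
  have := hS' (g ≫ f.unop) hg
  rwa [op_comp, F.obj.map_comp] at this

lemma mem_tsub_of_local {U : C} {s : F.obj.obj (op U)} (S : Sieve U) (hS : S ∈ J U)
    (h : ∀ ⦃V : C⦄ (g : V ⟶ U), S g → (F.obj.map g.op).hom s ∈ tsub J F (op V)) : s ∈ tsub J F (op U) := by
  choose T hT hT' using h
  refine ⟨Sieve.bind S fun V g hg => T g hg, J.bind_covering hS fun V g hg => hT g hg, fun V g hg => ?_⟩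
  obtain ⟨W, a, b, hb, ha, rfl⟩ := hg
  rw [op_comp, F.obj.map_comp]
  exact hT' b hb a ha

/-- The torsion subpresheaf. -/
def tpsh : Cᵒᵖ ⥤ AddCommGrpCat.{u} where
  obj U := AddCommGrpCat.of (tsub J F U)
  map {U V} f := AddCommGrpCat.ofHom
    (((F.obj.map f).hom.comp (tsub J F U).subtype).codRestrict (tsub J F V) fun s => map_mem_tsub J F f s.2)
  map_id U := by
    ext s
    exact ConcreteCategory.congr_hom (F.obj.map_id U) s.1
  map_comp f g := by
    ext s
    exact ConcreteCategory.congr_hom (F.obj.map_comp f g) s.1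

lemma isSheaf_tpsh : Presheaf.IsSheaf J (tpsh J F) := by
  rw [Presheaf.isSheaf_iff_isSheaf_forget J _ (forget AddCommGrpCat.{u}), isSheaf_iff_isSheaf_of_type]
  intro U S hS x hx
  have hF : Presieve.IsSheaf J (F.obj ⋙ forget AddCommGrpCat.{u}) :=
    (isSheaf_iff_isSheaf_of_type _ _).1 ((Presheaf.isSheaf_iff_isSheaf_forget J F.obj _).1 F.2)
  let y : Presieve.FamilyOfElements (F.obj ⋙ forget AddCommGrpCat.{u}) S.arrows := fun V g hg => (x g hg).1
  have hy : y.Compatible := fun Y₁ Y₂ Z g₁ g₂ f₁ f₂ h₁ h₂ e => congrArg Subtype.val (hx g₁ g₂ h₁ h₂ e)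
  obtain ⟨s, hs, hu⟩ := (hF S hS) y hy
  refine ⟨⟨s, mem_tsub_of_local J F S hS fun V g hg => by
    rw [show (F.obj.map g.op).hom s = (x g hg).1 from hs g hg]; exact (x g hg).2⟩,
    fun V g hg => Subtype.ext (hs g hg), fun t ht => Subtype.ext (hu t.1 fun V g hg => congrArg Subtype.val (ht g hg))⟩

/-- The torsion subsheaf. -/
noncomputable def tsh : Sheaf J AddCommGrpCat.{u} := ⟨tpsh J F, isSheaf_tpsh J F⟩

lemma isTorsion_tsh : SiteCmp.IsTorsionSh J (tsh J F) := fun U s => by
  obtain ⟨S, hS, hS'⟩ := s.2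
  refine ⟨S, hS, fun V g hg => ?_⟩
  exact (isOfFinAddOrder_iff_nsmul_eq_zero.2 ((isOfFinAddOrder_iff_nsmul_eq_zero.1 (hS' g hg)).imp
    fun n hn => ⟨hn.1, Subtype.ext hn.2⟩))

/-- The inclusion of the torsion subsheaf. -/
noncomputable def incl : tsh J F ⟶ F :=
  ⟨{ app := fun U => AddCommGrpCat.ofHom (tsub J F U).subtype }⟩

lemma incl_injective (U : Cᵒᵖ) : Function.Injective ((incl J F).hom.app U).hom := Subtype.val_injective

instance mono_incl : Mono (incl J F) := ⟨fun {Z} g h e => by
  apply Sheaf.hom_ext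
  ext U x
  exact incl_injective J F U (ConcreteCategory.congr_hom (congrArg (fun t : Z ⟶ F => t.hom.app U) e) x)⟩

variable {J} in
/-- A map from a torsion sheaf factors through the torsion subsheaf. -/
noncomputable def lift {G : Sheaf J AddCommGrpCat.{u}} (hG : SiteCmp.IsTorsionSh J G) (φ : G ⟶ F) : G ⟶ tsh J F :=
  ⟨{ app := fun U => AddCommGrpCat.ofHom ((φ.hom.app U).hom.codRestrict (tsub J F U) fun s => by
      obtain ⟨S, hS, hS'⟩ := hG U.unop s
      refine ⟨S, hS, fun V g hg => ?_⟩
      have e : (φ.hom.app (op V)).hom ((G.obj.map g.op).hom s) = (F.obj.map g.op).hom ((φ.hom.app U).hom s) :=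
        ConcreteCategory.congr_hom (φ.hom.naturality g.op) s
      rw [← e]
      exact (φ.hom.app (op V)).hom.isOfFinAddOrder (hS' g hg))
     naturality := fun U V f => by
      ext s
      exact Subtype.ext (ConcreteCategory.congr_hom (φ.hom.naturality f) s) }⟩

/-- The torsion subsheaf functor, valued in torsion sheaves. -/
noncomputable def tFunctor : Sheaf J AddCommGrpCat.{u} ⥤ (SiteCmp.torsionSh J).FullSubcategory where
  obj F := ⟨tsh J F, isTorsion_tsh J F⟩
  map {F G} φ := ObjectProperty.homMk (lift G (isTorsion_tsh J F) (incl J F ≫ φ))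
  map_id F := by
    apply ObjectProperty.hom_ext
    apply Sheaf.hom_ext
    ext U s
    rfl
  map_comp f g := by
    apply ObjectProperty.hom_ext
    apply Sheaf.hom_ext
    ext U s
    rfl

/-- The torsion subsheaf is right adjoint to the inclusion. -/
noncomputable def tAdj : (SiteCmp.torsionSh J).ι ⊣ tFunctor J :=
  Adjunction.mkOfHomEquiv
    { homEquiv := fun G F =>
        { toFun := fun φ => ObjectProperty.homMk (lift F G.property φ)
          invFun := fun ψ => ψ.hom ≫ incl J F
          left_inv := fun φ => by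
            apply Sheaf.hom_ext
            ext U s
            rfl
          right_inv := fun ψ => by
            apply ObjectProperty.hom_ext
            apply Sheaf.hom_ext
            ext U s
            rfl }
      homEquiv_naturality_left_symm := fun f g => by
        apply Sheaf.hom_ext
        ext U s
        rfl
      homEquiv_naturality_right := fun f g => by
        apply ObjectProperty.hom_ext
        apply Sheaf.hom_ext
        ext U s
        rfl }

lemma tAdj_counit : (tAdj J).counit.app F = incl J F := by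
  apply Sheaf.hom_ext
  ext U s
  rfl

instance : (tFunctor J).Additive where
  map_add {F G f g} := by
    apply ObjectProperty.hom_ext
    apply Sheaf.hom_ext
    ext U s
    rfl

set_option backward.isDefEq.respectTransparency false in
variable {J} in
lemma injective_sections {I : Sheaf J AddCommGrpCat.{u}} [Injective I] (U : Cᵒᵖ) : Injective (I.obj.obj U) := by
  have : (evaluationLeftAdjoint AddCommGrpCat.{u} U).PreservesMonomorphisms := ⟨fun {M N} m _ => by
    have : ∀ T, Mono (((evaluationLeftAdjoint AddCommGrpCat.{u} U).map m).app T) := fun T => by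
      let φ : Discrete.functor (fun _ : U ⟶ T => M) ⟶ Discrete.functor (fun _ : U ⟶ T => N) :=
        Discrete.natTrans fun _ => m
      have : ∀ i, Mono (φ.app i) := fun _ => inferInstanceAs (Mono m)
      have : Mono φ := NatTrans.mono_of_mono_app φ
      have : HasExactColimitsOfShape (Discrete (U ⟶ T)) AddCommGrpCat.{u} := AB4OfSize.ofShape _
      have := this.preservesFiniteLimits
      have : (colim : (Discrete (U ⟶ T) ⥤ AddCommGrpCat.{u}) ⥤ _).PreservesMonomorphisms := inferInstance
      have : Mono φ := NatTrans.mono_of_mono_app φ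
      rw [show ((evaluationLeftAdjoint AddCommGrpCat.{u} U).map m).app T = colim.map φ from
        Sigma.hom_ext _ _ fun i => by simp [evaluationLeftAdjoint, φ]]
      exact (colim : (Discrete (U ⟶ T) ⥤ AddCommGrpCat.{u}) ⥤ _).map_mono φ
    exact NatTrans.mono_of_mono_app _⟩
  have : Injective I.obj := Injective.injective_of_adjoint (sheafificationAdjunction J AddCommGrpCat.{u}) I
  exact Injective.injective_of_adjoint (evaluationAdjunctionRight AddCommGrpCat.{u} U) I.obj

variable {J} in
lemma exists_nsmul_eq {I : Sheaf J AddCommGrpCat.{u}} [Injective I] {U : Cᵒᵖ} (s : I.obj.obj U) {n : ℕ}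
    (hn : n ≠ 0) : ∃ t, n • t = s := by
  have := injective_sections (I := I) U
  let f : AddCommGrpCat.of (ULift.{u} ℤ) ⟶ AddCommGrpCat.of (ULift.{u} ℤ) :=
    AddCommGrpCat.ofHom (n • AddMonoidHom.id _)
  let g : AddCommGrpCat.of (ULift.{u} ℤ) ⟶ I.obj.obj U :=
    AddCommGrpCat.ofHom ((zmultiplesHom _ s).comp AddEquiv.ulift.toAddMonoidHom)
  have : Mono f := (AddCommGrpCat.mono_iff_injective f).2 fun a b h => by
    refine ULift.ext _ _ ?_
    have := congrArg ULift.down h
    simpa [f, hn] using this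
  obtain ⟨h, hh⟩ := Injective.factors g f
  refine ⟨h.hom ⟨1⟩, ?_⟩
  rw [← map_nsmul]
  refine (ConcreteCategory.congr_hom hh (⟨1⟩ : ULift.{u} ℤ)).trans ?_
  exact one_zsmul s

/-- The quotient by the torsion subsheaf. -/
noncomputable abbrev qsh : Sheaf J AddCommGrpCat.{u} := cokernel (incl J F)

lemma epi_nsmul_qsh [Injective F] {n : ℕ} (hn : n ≠ 0) : Epi (n • 𝟙 (qsh J F)) := by
  have : Epi (n • 𝟙 F) := by
    refine (Sheaf.isLocallySurjective_iff_epi' (φ := n • 𝟙 F)).1 ⟨fun {U} s => ?_⟩
    obtain ⟨t, ht⟩ := exists_nsmul_eq (I := F) s hn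
    refine J.superset_covering (fun V g _ => ?_) (J.top_mem U)
    exact ⟨(F.obj.map g.op).hom t, by
      show n • (F.obj.map g.op).hom t = _
      rw [← map_nsmul, ht]⟩
  exact epi_of_epi_fac (f := cokernel.π (incl J F)) (g := n • 𝟙 (qsh J F))
    (h := (n • 𝟙 F) ≫ cokernel.π (incl J F)) (by simp)

end Groth.Agent.SiteCmpLib.TorsionSheaf
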