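import Groth.Agent.SiteCmpLib.ModBounded

/-!
Derived limits of towers whose cohomology is eventually constant degree by degree.
-/

set_option autoImplicit false
set_option linter.style.haveILetI false
set_option backward.isDefEq.respectTransparency false
set_option backward.isDefEq.respectTransparency.types false

universe u

open CategoryTheory Category Limits Pretriangulated DerivedCategory

attribute [local instance] HasDerivedCategory.standard

namespace Groth.Agent.SiteCmpLib.RlimConst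

open DerivedAdj TotalRight LocClass

/-- A value at a stage with surjective transitions beyond it extends to a compatible family. -/
lemma exists_compat_family : ∀ (M : ℕ) (A : ℕ → Type u) (f : ∀ n, A (n + 1) → A n),
    (∀ n, M ≤ n → Function.Surjective (f n)) → ∀ x : A M,
    ∃ v : ∀ n, A n, (∀ n, f n (v (n + 1)) = v n) ∧ v M = x
  | 0, A, f, hs, x => by
    choose g hg using fun n => hs n (Nat.zero_le n)
    exact ⟨fun n => Nat.rec x (fun k v => g k v) n, fun n => hg n _, rfl⟩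
  | M + 1, A, f, hs, x => by
    obtain ⟨v, hv, hvM⟩ := exists_compat_family M (fun n => A (n + 1)) (fun n => f (n + 1))
      (fun n hn => hs (n + 1) (by omega)) x
    refine ⟨fun n => match n with
      | 0 => f 0 (v 0)
      | k + 1 => v k, fun n => ?_, hvM⟩
    cases n with
    | zero => rfl
    | succ k => exact hv k

section Classes

variable {A : Type (u + 1)} [Category.{u} A] [Abelian A]

local notation "H" => homologyFunctor A

/-- An object inside the degree zero cohomology of its single complex. -/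
noncomputable def single0 (M : A) : M ⟶ (H 0).obj ((singleFunctor A 0).obj M) :=
  (HomologicalComplex.singleObjHomologySelfIso (ComplexShape.up ℤ) 0 M).inv ≫
    (homologyFunctorFactors A 0).inv.app ((CochainComplex.singleFunctor A 0).obj M) ≫
    (H 0).map ((singleFunctorIsoCompQ A 0).inv.app M)

/-- The class in `H^j` of a map into a shift by `j`. -/
noncomputable def cls (j : ℤ) {M : A} {Z : DerivedCategory A}
    (φ : (singleFunctor A 0).obj M ⟶ Z⟦j⟧) : M ⟶ (H j).obj Z :=
  single0 M ≫ (H 0).map φ ≫ ((H 0).shiftIso j 0 j (add_zero j)).hom.app Z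

lemma cls_comp (j : ℤ) {M : A} {Z Z' : DerivedCategory A}
    (φ : (singleFunctor A 0).obj M ⟶ Z⟦j⟧) (a : Z ⟶ Z') :
    cls j (φ ≫ a⟦j⟧') = cls j φ ≫ (H j).map a := by
  dsimp only [cls]
  rw [(H 0).map_comp]
  simp only [assoc]
  exact congrArg (fun t => single0 M ≫ (H 0).map φ ≫ t)
    (((H 0).shiftIso j 0 j (add_zero j)).hom.naturality a)

variable {D : Type u} [SmallCategory D] {K : GrothendieckTopology D} {P : D ⥤ A}

lemma exists_class0_local (hP : IsTest K P) {V : D} (Z : DerivedCategory A)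
    (s : P.obj V ⟶ (H 0).obj Z) :
    ∃ S ∈ K V, ∀ ⦃W : D⦄ (g : W ⟶ V), S g →
      ∃ φ : (singleFunctor A 0).obj (P.obj W) ⟶ Z, single0 (P.obj W) ≫ (H 0).map φ = P.map g ≫ s := by
  let I := DerivedCategory.Q.objPreimage Z
  let e : DerivedCategory.Q.obj I ≅ Z := DerivedCategory.Q.objObjPreimageIso Z
  let s' : P.obj V ⟶ I.homology 0 :=
    s ≫ (H 0).map e.inv ≫ (homologyFunctorFactors A 0).hom.app I
  obtain ⟨S, hS, hS'⟩ := hP.lift (I.homologyπ 0) V s'
  refine ⟨S, hS, fun W g hg => ?_⟩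
  obtain ⟨c, hc⟩ := hS' g hg
  let f : (HomologicalComplex.single A (ComplexShape.up ℤ) 0).obj (P.obj W) ⟶ I :=
    HomologicalComplex.mkHomFromSingle (c ≫ I.iCycles 0) (fun k _ => by simp)
  refine ⟨(singleFunctorIsoCompQ A 0).hom.app (P.obj W) ≫ DerivedCategory.Q.map f ≫ e.hom, ?_⟩
  have hcyc : (HomologicalComplex.singleObjCyclesSelfIso (ComplexShape.up ℤ) 0 (P.obj W)).inv ≫
      HomologicalComplex.cyclesMap f 0 = c := by
    rw [← cancel_mono (I.iCycles 0), assoc, HomologicalComplex.cyclesMap_i,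
      HomologicalComplex.singleObjCyclesSelfIso_inv_iCycles_assoc]
    simp [f, HomologicalComplex.singleObjXSelf]
  have hf : (HomologicalComplex.singleObjHomologySelfIso (ComplexShape.up ℤ) 0 (P.obj W)).inv ≫
      HomologicalComplex.homologyMap f 0 = c ≫ I.homologyπ 0 := by
    rw [← HomologicalComplex.singleObjCyclesSelfIso_inv_homologyπ, assoc,
      HomologicalComplex.homologyπ_naturality, ← assoc]
    exact congrArg (· ≫ I.homologyπ 0) hcyc
  have hn : (homologyFunctorFactors A 0).inv.app _ ≫ (H 0).map (DerivedCategory.Q.map f) =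
      HomologicalComplex.homologyMap f 0 ≫ (homologyFunctorFactors A 0).inv.app I :=
    ((homologyFunctorFactors A 0).inv.naturality f).symm
  dsimp only [single0]
  simp only [assoc, ← Functor.map_comp]
  rw [Iso.inv_hom_id_app_assoc]
  erw [(H 0).map_comp, reassoc_of% hn, reassoc_of% hf, reassoc_of% hc]
  dsimp only [s']
  simp only [assoc, Iso.hom_inv_id_app_assoc]
  refine congrArg (P.map g ≫ ·) ?_
  refine (congrArg (s ≫ ·) ((H 0).map_comp e.inv e.hom).symm).trans ?_
  rw [e.inv_hom_id, CategoryTheory.Functor.map_id]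
  exact comp_id s

lemma exists_class_local (hP : IsTest K P) (j : ℤ) {V : D} (Z : DerivedCategory A)
    (s : P.obj V ⟶ (H j).obj Z) :
    ∃ S ∈ K V, ∀ ⦃W : D⦄ (g : W ⟶ V), S g →
      ∃ φ : (singleFunctor A 0).obj (P.obj W) ⟶ Z⟦j⟧, cls j φ = P.map g ≫ s := by
  obtain ⟨S, hS, h⟩ := exists_class0_local hP (Z⟦j⟧)
    (s ≫ ((H 0).shiftIso j 0 j (add_zero j)).inv.app Z)
  refine ⟨S, hS, fun W g hg => ?_⟩
  obtain ⟨φ, hφ⟩ := h g hg
  refine ⟨φ, ?_⟩
  dsimp only [cls]
  refine (assoc _ _ _).symm.trans ((congrArg (· ≫ _) hφ).trans ?_)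
  simp only [assoc, Iso.inv_hom_id_app]
  exact congrArg (P.map g ≫ ·) (comp_id s)

end Classes

variable {B : Type (u + 1)} [Category.{u} B] [Abelian B] [IsGrothendieckAbelian.{u} B]
  {D : Type u} [SmallCategory D] {Jt : GrothendieckTopology D} {P : D ⥤ B}
  (PB : ObjectProperty B) [WSerre.IsWeakSerre PB]

local notation "H" => homologyFunctor B

omit [IsGrothendieckAbelian.{u} B] in
/-- No classes of degree `m` on an object of `D⁺` with vanishing cohomology in degrees `[m - d, m]`. -/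
lemma hom_eq_zero_of_gap {M₀ : B} (d : ℕ)
    (h : ∀ M : B, PB M → ∀ k : ℕ, d < k →
      ∀ φ : (singleFunctor B 0).obj M₀ ⟶ ((singleFunctor B 0).obj M)⟦(k : ℤ)⟧, φ = 0)
    {C : DerivedCategory B} (hC : WSerre.cohInPlus PB C) (m : ℤ)
    (hz : ∀ i : ℤ, m - d ≤ i → i ≤ m → IsZero ((H i).obj C))
    (φ : (singleFunctor B 0).obj M₀ ⟶ C⟦m⟧) : φ = 0 := by
  obtain ⟨hA, b, hb⟩ := hC
  let a : ℤ := m - d - 1
  have hT := (TStructure.t (C := B)).triangleLTGE_distinguished (a + 1) C
  have h3 : ∀ ψ : (singleFunctor B 0).obj M₀ ⟶ (((TStructure.t (C := B)).truncGE (a + 1)).obj C)⟦m⟧, ψ = 0 := by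
    intro ψ
    have hge : (((TStructure.t (C := B)).truncGE (a + 1)).obj C).IsGE (m + 1) := by
      refine (isGE_iff _ _).2 fun i hi => ?_
      rcases lt_or_ge i (a + 1) with hlt | hge'
      · have : (((TStructure.t (C := B)).truncGE (a + 1)).obj C).IsGE (a + 1) :=
          inferInstanceAs ((TStructure.t (C := B)).IsGE ((TStructure.t.truncGE (a + 1)).obj C) (a + 1))
        exact isZero_of_isGE _ (a + 1) i hlt
      · have := H9Misc.isIso_map_truncGEπ (a + 1) i hge' C
        exact (hz i (by omega) (by omega)).of_iso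
          (asIso ((H i).map (((TStructure.t (C := B)).truncGEπ (a + 1)).app C))).symm
    have hge' := (TStructure.t (C := B)).isGE_shift
      (((TStructure.t (C := B)).truncGE (a + 1)).obj C) (m + 1) m 1 (by omega)
    exact (TStructure.t (C := B)).zero ψ 0 1 (by omega)
  obtain ⟨ψ, rfl⟩ := DLim.exact₂_shift _ hT m φ (h3 _)
  have hle : (((TStructure.t (C := B)).truncLT (a + 1)).obj C).IsLE a :=
    inferInstanceAs ((TStructure.t (C := B)).IsLE ((TStructure.t.truncLT (a + 1)).obj C) a)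
  have : C.IsGE b := hb
  rw [Bounded.hom_eq_zero PB d h b a (KFlatLib.isGE_truncLT C b (a + 1)) hle
    (Devissage.cohIn_truncLT PB hA _) m (by omega) ψ, zero_comp]

omit [IsGrothendieckAbelian.{u} B] in
/-- The cone of a map inducing isomorphisms in some degrees. -/
lemma exists_cone {X Y : DerivedCategory B} (hX : WSerre.cohInPlus PB X) (hY : WSerre.cohInPlus PB Y)
    (t : X ⟶ Y) :
    ∃ (C : DerivedCategory B) (f : C ⟶ X) (h : Y ⟶ C⟦(1 : ℤ)⟧),
      Triangle.mk f t h ∈ distinguishedTriangles ∧ WSerre.cohInPlus PB C ∧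
        ∀ i : ℤ, IsIso ((H (i - 1)).map t) → IsIso ((H i).map t) → IsZero ((H i).obj C) := by
  obtain ⟨C, f, h, hT⟩ := distinguished_cocone_triangle₁ t
  obtain ⟨hXA, bX, hbX⟩ := hX
  obtain ⟨hYA, bY, hbY⟩ := hY
  have : X.IsGE bX := hbX
  have : Y.IsGE bY := hbY
  refine ⟨C, f, h, hT, ⟨?_, min bX (bY + 1), ?_⟩, fun i h₁ h₂ => ?_⟩
  · exact Devissage.cohIn_obj₂ PB (inv_rot_of_distTriang _ hT) (Devissage.cohIn_shift PB hYA _) hXA
  · refine (isGE_iff C (min bX (bY + 1))).2 fun i hi => ?_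
    refine (HomologySequence.exact₁ _ hT (i - 1) i (by omega)).isZero_of_both_zeros ?_ ?_
    · exact (isZero_of_isGE Y bY (i - 1) (by omega)).eq_of_src _ _
    · exact (isZero_of_isGE X bX i (by omega)).eq_of_tgt _ _
  · refine (HomologySequence.exact₁ _ hT (i - 1) i (by omega)).isZero_of_both_zeros ?_ ?_
    · have : Epi ((H (i - 1)).map (Triangle.mk f t h).mor₂) := inferInstanceAs (Epi ((H (i - 1)).map t))
      exact (HomologySequence.epi_homologyMap_mor₂_iff _ hT (i - 1) i (by omega)).1 this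
    · have : Mono ((H i).map (Triangle.mk f t h).mor₂) := inferInstanceAs (Mono ((H i).map t))
      exact (HomologySequence.mono_homologyMap_mor₂_iff _ hT i).1 this

variable {K : ℕ → DerivedCategory B} {t : ∀ n, K (n + 1) ⟶ K n} {L : DerivedCategory B}
  {a : ∀ n, L ⟶ K n} (hK : ∀ n, WSerre.cohInPlus PB (K n))

omit [IsGrothendieckAbelian.{u} B] in
include hK in
/-- Beyond a stable index the cones have no classes in degree `m`. -/
lemma conesKilled {M₀ : B} (d : ℕ)
    (h : ∀ M : B, PB M → ∀ k : ℕ, d < k →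
      ∀ φ : (singleFunctor B 0).obj M₀ ⟶ ((singleFunctor B 0).obj M)⟦(k : ℤ)⟧, φ = 0)
    (m : ℤ) (N : ℕ) (hN : ∀ i : ℤ, m - d - 1 ≤ i → i ≤ m → ∀ n, N ≤ n → IsIso ((H i).map (t n))) :
    Tower.ConesKilled t ((singleFunctor B 0).obj M₀) m N := fun n hn => by
  obtain ⟨C, f, g, hT, hC, hz⟩ := exists_cone PB (hK (n + 1)) (hK n) (t n)
  exact ⟨C, f, g, hT, hom_eq_zero_of_gap PB d h hC m fun i h₁ h₂ =>
    hz i (hN (i - 1) (by omega) (by omega) n hn) (hN i (by omega) h₂ n hn)⟩

omit [IsGrothendieckAbelian.{u} B] in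
/-- Lifting a class to the derived limit along a stable tower. -/
lemma exists_lift [HasProduct K] (hL : CohCx.IsRlimVia K t L a) {S : DerivedCategory B} {j : ℤ}
    (M : ℕ) (hC : Tower.ConesKilled t S (j + 1) M) (φ : S ⟶ (K M)⟦j⟧) :
    ∃ y : S ⟶ L⟦j⟧, y ≫ (a M)⟦j⟧' = φ := by
  obtain ⟨v, hv, hvM⟩ := exists_compat_family M (fun n => S ⟶ (K n)⟦j⟧) (fun n x => x ≫ (t n)⟦j⟧')
    (fun n hn x => by
      obtain ⟨C, f, h, hT, hz⟩ := hC n hn
      refine DLim.exact₃_shift _ hT j x ?_
      have := hz (x ≫ h⟦j⟧' ≫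
        (shiftFunctorAdd' (DerivedCategory B) (1 : ℤ) j (j + 1) (by omega)).inv.app C)
      rw [← assoc, Preadditive.IsIso.comp_right_eq_zero] at this
      exact this) φ
  obtain ⟨y, hy⟩ := DLim.rlim_exists_lift hL j v hv
  exact ⟨y, (hy M).trans hvM⟩

include hK in
theorem isIso_homology_of_eventually_iso (hP : IsTest Jt P) {B' : Set D} (hB : Covers Jt B')
    (hV : ∀ V ∈ B', Bounded.CdBound Jt (𝟭 B) P PB V)
    (hconst : ∀ j : ℤ, ∃ n₀ : ℕ, ∀ n, n₀ ≤ n → IsIso ((H j).map (t n)))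
    [HasProduct K] (hL : CohCx.IsRlimVia K t L a) (j : ℤ) :
    ∃ n₀ : ℕ, ∀ n, n₀ ≤ n → IsIso ((H j).map (a n)) := by
  obtain ⟨n₀, hn₀⟩ := hconst j
  choose nn hnn using hconst
  -- a common stable index for a range of degrees
  let N₁ : ℕ → ℕ := fun d => (Finset.Icc (j - d - 1) (j + 1)).sup nn
  have hN₁ : ∀ (d : ℕ) (i : ℤ), j - d - 1 ≤ i → i ≤ j + 1 → ∀ n, N₁ d ≤ n → IsIso ((H i).map (t n)) :=
    fun d i h₁ h₂ n hn => hnn i n (le_trans (Finset.le_sup (f := nn) (Finset.mem_Icc.2 ⟨h₁, h₂⟩)) hn)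
  have htrans : ∀ n m : ℕ, n₀ ≤ n → n ≤ m → ∀ {X : B} (s : X ⟶ (H j).obj L),
      s ≫ (H j).map (a n) = 0 → s ≫ (H j).map (a m) = 0 := by
    intro n m hn hm X s hs
    induction m, hm using Nat.le_induction with
    | base => exact hs
    | succ m hm ih =>
      have := hn₀ m (hn.trans hm)
      rw [← cancel_mono ((H j).map (t m)), zero_comp, assoc, ← Functor.map_comp, DLim.rlim_comp_t hL m]
      exact ih
  refine ⟨n₀, fun n hn => ?_⟩
  have hmono : Mono ((H j).map (a n)) := hP.mono_of_covers hB _ fun V hVB s hs => by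
    obtain ⟨d, hd⟩ := hV V hVB
    let M : ℕ := max n (N₁ d)
    have hsM : s ≫ (H j).map (a M) = 0 := htrans n M hn (le_max_left _ _) s hs
    let σ := (H 0).shiftIso j 0 j (add_zero j)
    let ι := fun Z : DerivedCategory B => (H 0).mapIso ((modelId B).app Z)
    have key := eq_zero_homology_model (F := 𝟭 B) Adjunction.id hP ((a M)⟦j⟧') (V := V)
      (fun T hT => by
        obtain ⟨κ, Y, f, hf, hcov, hY⟩ := hd T hT
        refine ⟨κ, Y, f, hf, hcov, fun i φ hφ => ?_⟩
        exact Tower.eq_zero_of_conesKilled hL (conesKilled PB hK d (fun X hX k hk => hY i X hX k hk) j M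
          fun i' h₁ h₂ n' hn' => hN₁ d i' (by omega) (by omega) n' (le_trans (le_max_right _ _) hn')) φ hφ)
      (s ≫ σ.inv.app L ≫ (ι (L⟦j⟧)).inv) (by
        have h1 : (H 0).map ((modelId B).inv.app (L⟦j⟧)) ≫ (H 0).map ((model (𝟭 B)).map ((a M)⟦j⟧')) =
            (H 0).map ((a M)⟦j⟧') ≫ (H 0).map ((modelId B).inv.app _) :=
          ((H 0).map_comp _ _).symm.trans
            ((congrArg (H 0).map ((modelId B).inv.naturality ((a M)⟦j⟧')).symm).trans ((H 0).map_comp _ _))
        have h2 : σ.inv.app L ≫ (H 0).map ((a M)⟦j⟧') = (H j).map (a M) ≫ σ.inv.app (K M) :=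
          (σ.inv.naturality (a M)).symm
        simp only [assoc]
        refine (congrArg (fun r => s ≫ σ.inv.app L ≫ r) h1).trans ?_
        rw [reassoc_of% h2, reassoc_of% hsM, zero_comp])
    rw [← cancel_mono (σ.inv.app L ≫ (ι (L⟦j⟧)).inv), zero_comp]
    exact key
  have hepi : Epi ((H j).map (a n)) := by
    refine Preadditive.epi_of_isZero_cokernel _ (hP.eq_zero_of_covers hB fun V hVB q => ?_)
    obtain ⟨S, hS, hlift⟩ := hP.lift (cokernel.π ((H j).map (a n))) V q
    refine hP.sep V S hS q fun W g hg => ?_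
    obtain ⟨b, hb⟩ := hlift g hg
    rw [← hb]
    clear hb
    obtain ⟨ι₁, Y₁, f₁, hcov₁, hY₁⟩ := hB W
    refine hP.sep_family hcov₁ _ fun i₁ => ?_
    obtain ⟨d, hd⟩ := hV _ (hY₁ i₁)
    let M : ℕ := max n (N₁ d)
    have htr : ∀ m, n ≤ m → ∀ {X : B} (r : X ⟶ (H j).obj (K n)),
        ∃ r' : X ⟶ (H j).obj (K m), ∀ {Y : B} (k : Y ⟶ X) (y : Y ⟶ (H j).obj L),
          y ≫ (H j).map (a m) = k ≫ r' → y ≫ (H j).map (a n) = k ≫ r := by
      intro m hm X r
      induction m, hm using Nat.le_induction with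
      | base => exact ⟨r, fun k y hy => hy⟩
      | succ m hm ih =>
        obtain ⟨r', hr'⟩ := ih
        have := hn₀ m (hn.trans hm)
        refine ⟨r' ≫ inv ((H j).map (t m)), fun k y hy => hr' k y ?_⟩
        rw [← DLim.rlim_comp_t hL m, Functor.map_comp, ← assoc, hy]
        simp
    obtain ⟨c', hc'⟩ := htr M (le_max_left _ _) (P.map (f₁ i₁) ≫ b)
    obtain ⟨T, hT, hT'⟩ := exists_class_local hP j (K M) c'
    obtain ⟨κ, Y, f, hf, hcov, hY⟩ := hd T hT
    refine hP.sep_family hcov _ fun i => ?_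
    obtain ⟨φ, hφ⟩ := hT' (f i) (hf i)
    -- lift the class along the tower
    have hck : Tower.ConesKilled t ((singleFunctor B 0).obj (P.obj (Y i))) (j + 1) M :=
      conesKilled PB hK d (fun X hX k hk => hY i X hX k hk) (j + 1) M
        fun i' h₁ h₂ n' hn' => hN₁ d i' (by omega) (by omega) n' (le_trans (le_max_right _ _) hn')
    obtain ⟨y, hy⟩ := exists_lift hL M hck φ
    have hy' : cls j y ≫ (H j).map (a M) = P.map (f i) ≫ c' := by rw [← cls_comp, hy, hφ]
    have hn' := hc' (P.map (f i)) (cls j y) hy'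
    calc P.map (f i) ≫ P.map (f₁ i₁) ≫ b ≫ cokernel.π ((H j).map (a n))
        = (cls j y ≫ (H j).map (a n)) ≫ cokernel.π ((H j).map (a n)) := by rw [hn']; simp
      _ = 0 := by simp
  exact isIso_of_mono_of_epi _

end Groth.Agent.SiteCmpLib.RlimConst
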