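import Groth.Agent.SiteCmpLib.ModBounded

/-! The equivalence of derived categories with cohomology in corresponding subcategories. -/

universe u

open CategoryTheory Category Limits DerivedCategory

attribute [local instance] HasDerivedCategory.standard

namespace Groth.Agent.SiteCmpLib.ModEquiv

open DerivedAdj

variable {C : Type u} [SmallCategory C] {J : GrothendieckTopology C} {O_C : Sheaf J CommRingCat.{u}}
  {D : Type u} [SmallCategory D] {K : GrothendieckTopology D} {O_D : Sheaf K CommRingCat.{u}}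
  (f : ModSite.RMor O_C O_D) [PreservesFiniteLimits f.pull] [SiteCmp.HasRpushD f]
  (adj : SiteCmp.pullD f ⊣ SiteCmp.RpushD f)
  (A : ObjectProperty (ModSite.Mod O_C)) [WSerre.IsWeakSerre A]
  (A' : ObjectProperty (ModSite.Mod O_D)) [WSerre.IsWeakSerre A']
  (h2c : ∀ F, A F → ∃ F', A' F' ∧ Nonempty (f.pull.obj F' ≅ F))
  (h3 : ∀ F', A' F' → IsIso (adj.unit.app (SiteCmp.inD O_D F')))

include adj h2c h3 in
lemma single_model (M : ModSite.Mod O_C) (hM : A M) :
    ((model f.push).obj ((singleFunctor _ 0).obj M)).IsLE 0 ∧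
      WSerre.cohIn A' ((model f.push).obj ((singleFunctor _ 0).obj M)) := by
  obtain ⟨M', hM', ⟨i⟩, -⟩ := Devissage.single_data adj A A' h2c h3 hM
  obtain ⟨e⟩ := exists_iso_model f.push
  let j := (i.symm ≪≫ (e.app ((singleFunctor _ 0).obj M)).symm)
  have : (TStructure.t (C := ModSite.Mod O_D)).IsLE ((singleFunctor (ModSite.Mod O_D) 0).obj M') 0 :=
    inferInstanceAs (DerivedCategory.IsLE _ 0)
  exact ⟨(TStructure.t (C := ModSite.Mod O_D)).isLE_of_iso j 0,
    Devissage.cohIn_iso A' j (Devissage.cohIn_single A' 0 hM')⟩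

include h2c h3 in
theorem equivalence (h2a : ∀ F', A' F' → A (f.pull.obj F'))
    (hkey : ∀ (Z : DerivedCategory (ModSite.Mod O_C)) (b : ℤ), WSerre.cohIn A Z → Z.IsLE b →
      ((model f.push).obj Z).IsLE (b + 0)) :
    (∀ Y : DerivedCategory (ModSite.Mod O_D), WSerre.cohIn A' Y →
      WSerre.cohIn A ((SiteCmp.pullD f).obj Y) ∧ IsIso (adj.unit.app Y)) ∧
    (∀ X : DerivedCategory (ModSite.Mod O_C), WSerre.cohIn A X →
      WSerre.cohIn A' ((SiteCmp.RpushD f).obj X) ∧ IsIso (adj.counit.app X)) := by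
  obtain ⟨e⟩ := exists_iso_model f.push
  let := adj.rightAdjointCommShift ℤ
  have := adj.commShift_of_leftAdjoint ℤ
  have := adj.isTriangulated_rightAdjoint
  have hkey' : ∀ (Z : DerivedCategory (ModSite.Mod O_C)) (b : ℤ), WSerre.cohIn A Z → Z.IsLE b →
      ((SiteCmp.RpushD f).obj Z).IsLE (b + 0) := fun Z b hZ hb =>
    have := hkey Z b hZ hb
    (TStructure.t (C := ModSite.Mod O_D)).isLE_of_iso (e.app Z) (b + 0)
  let tC := TStructure.t (C := ModSite.Mod O_C)
  let tD := TStructure.t (C := ModSite.Mod O_D)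
  refine ⟨fun Y hY => ⟨Devissage.cohIn_map f.pull A' A h2a hY, ?_⟩,
    fun X hX => ⟨WayOutLeft.cohIn_all (R := SiteCmp.RpushD f) A' hkey'
      (fun W n h => Devissage.isGE_right adj n h)
      (fun M hM => by
        obtain ⟨M', hM', ⟨i⟩, -⟩ := Devissage.single_data adj A A' h2c h3 hM
        exact Devissage.cohIn_iso A' i.symm (Devissage.cohIn_single A' 0 hM')) X hX, ?_⟩⟩
  · rw [DerivedCategory.isIso_iff]
    intro j
    let π := (tD.truncGEπ j).app Y
    let H := homologyFunctor (ModSite.Mod O_D) j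
    have hY' := Devissage.cohIn_truncGE A' hY j
    have h1 : IsIso (adj.unit.app ((tD.truncGE j).obj Y)) := Devissage.isIso_unit adj _ j
      (inferInstanceAs (tD.IsGE _ j)) fun i => h3 _ (hY' i)
    have h2 : IsIso (H.map π) := H9Misc.isIso_map_truncGEπ j j le_rfl Y
    haveI h3' : IsIso (H.map ((SiteCmp.RpushD f).map ((SiteCmp.pullD f).map π))) := by
      let T := (tD.triangleLTGE j).obj Y
      have hT := (SiteCmp.RpushD f).map_distinguished _
        ((SiteCmp.pullD f).map_distinguished T (tD.triangleLTGE_distinguished j Y))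
      have : DerivedCategory.IsLE ((SiteCmp.RpushD f).mapTriangle.obj
          ((SiteCmp.pullD f).mapTriangle.obj T)).obj₁ (j - 1 + 0) :=
        hkey' _ (j - 1) (Devissage.cohIn_map f.pull A' A h2a (Devissage.cohIn_truncLT A' hY j))
          (Devissage.isLE_map f.pull (j - 1) (tD.isLE_truncLT_obj ..))
      have : Mono (H.map ((SiteCmp.RpushD f).mapTriangle.obj ((SiteCmp.pullD f).mapTriangle.obj T)).mor₂) :=
        (HomologySequence.mono_homologyMap_mor₂_iff _ hT j).2
          ((isZero_of_isLE _ (j - 1 + 0) j (by omega)).eq_of_src _ _)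
      have : Epi (H.map ((SiteCmp.RpushD f).mapTriangle.obj ((SiteCmp.pullD f).mapTriangle.obj T)).mor₂) :=
        (HomologySequence.epi_homologyMap_mor₂_iff _ hT j (j + 1) rfl).2
          ((isZero_of_isLE _ (j - 1 + 0) (j + 1) (by omega)).eq_of_tgt _ _)
      exact isIso_of_mono_of_epi
        (H.map ((SiteCmp.RpushD f).mapTriangle.obj ((SiteCmp.pullD f).mapTriangle.obj T)).mor₂)
    have hh : IsIso (H.map π ≫ H.map (adj.unit.app ((tD.truncGE j).obj Y))) := inferInstance
    have sq : H.map (adj.unit.app Y) ≫ H.map ((SiteCmp.RpushD f).map ((SiteCmp.pullD f).map π)) =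
        H.map π ≫ H.map (adj.unit.app ((tD.truncGE j).obj Y)) :=
      (H.map_comp _ _).symm.trans ((congrArg H.map (adj.unit.naturality π).symm).trans (H.map_comp _ _))
    exact IsIso.of_isIso_fac_right (hh := hh) sq
  · rw [DerivedCategory.isIso_iff]
    intro j
    let π := (tC.truncGEπ j).app X
    let H := homologyFunctor (ModSite.Mod O_C) j
    have h1 : IsIso (adj.counit.app ((tC.truncGE j).obj X)) := Devissage.isIso_counit_of_cohIn adj A A'
      h2c h3 _ j (inferInstanceAs (tC.IsGE _ j)) (Devissage.cohIn_truncGE A hX j)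
    have h2 : IsIso (H.map π) := H9Misc.isIso_map_truncGEπ j j le_rfl X
    have h3' : IsIso (H.map ((SiteCmp.pullD f).map ((SiteCmp.RpushD f).map π))) := by
      have h4 := WayOutLeft.isIso_truncGE (R := SiteCmp.RpushD f) hkey' X hX j j (by omega)
      refine (NatIso.isIso_map_iff (KFlatLib.mapDCHomologyIso f.pull j) ((SiteCmp.RpushD f).map π)).2 ?_
      exact Functor.map_isIso f.pull _
    have hh : IsIso (H.map ((SiteCmp.pullD f).map ((SiteCmp.RpushD f).map π)) ≫
        H.map (adj.counit.app ((tC.truncGE j).obj X))) := inferInstance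
    have sq : H.map (adj.counit.app X) ≫ H.map π =
        H.map ((SiteCmp.pullD f).map ((SiteCmp.RpushD f).map π)) ≫
          H.map (adj.counit.app ((tC.truncGE j).obj X)) :=
      (H.map_comp _ _).symm.trans ((congrArg H.map (adj.counit.naturality π).symm).trans (H.map_comp _ _))
    exact IsIso.of_isIso_fac_right (hh := hh) sq

end Groth.Agent.SiteCmpLib.ModEquiv
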