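import Groth.Agent.SiteCmpLib.Devissage

/-! The counit on objects of the heart whose derived image stays in the heart. -/

universe w w' v v' u u'

open CategoryTheory Category Limits DerivedCategory

namespace Groth.Agent.SiteCmpLib.HeartCounit

variable {A : Type u} [Category.{v} A] [Abelian A] [HasDerivedCategory.{w} A]
  {B : Type u'} [Category.{v} B] [Abelian B] [HasDerivedCategory.{w'} B]
  {F : A ⥤ B} [F.Additive] [PreservesFiniteLimits F] [PreservesFiniteColimits F]
  {G : B ⥤ A} (adj₀ : F ⊣ G)
  {R : DerivedCategory B ⥤ DerivedCategory A} (adj : F.mapDerivedCategory ⊣ R)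

include adj₀ in
lemma counit_single (M : B) [IsIso (adj₀.counit.app M)]
    (hR : (R.obj ((singleFunctor B 0).obj M)).IsLE 0) :
    IsIso (adj.counit.app ((singleFunctor B 0).obj M)) ∧
      Nonempty (R.obj ((singleFunctor B 0).obj M) ≅ (singleFunctor A 0).obj (G.obj M)) := by
  have := Devissage.isGE_right adj (Y := (singleFunctor B 0).obj M) 0 inferInstance
  obtain ⟨W, ⟨i⟩⟩ := exists_iso_singleFunctor_obj_of_isGE_of_isLE (R.obj ((singleFunctor B 0).obj M)) 0
  let L := F.mapDerivedCategory
  let s := (F.mapDerivedCategorySingleFunctor 0).app W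
  obtain ⟨φ, hφ⟩ := (singleFunctor B 0).map_surjective
    (s.inv ≫ L.map i.inv ≫ adj.counit.app ((singleFunctor B 0).obj M))
  -- `(W, φ)` is universal
  have huniv : ∀ X : A, Function.Bijective fun g : X ⟶ W => F.map g ≫ φ := by
    intro X
    let sX := (F.mapDerivedCategorySingleFunctor 0).app X
    have key : ∀ g : X ⟶ W, (singleFunctor B 0).map (F.map g ≫ φ) =
        sX.inv ≫ (adj.homEquiv _ _).symm ((singleFunctor A 0).map g ≫ i.inv) := fun g => by
      have hn := (F.mapDerivedCategorySingleFunctor 0).inv.naturality g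
      dsimp at hn
      rw [Functor.map_comp, hφ, Adjunction.homEquiv_counit, Functor.map_comp, assoc]
      exact (reassoc_of% hn) _
    constructor
    · intro g g' h
      have := congrArg (singleFunctor B 0).map h
      rw [key, key, cancel_epi] at this
      exact (singleFunctor A 0).map_injective ((cancel_mono i.inv).1 ((adj.homEquiv _ _).symm.injective this))
    · intro ψ
      obtain ⟨g, hg⟩ := (singleFunctor A 0).map_surjective
        (adj.homEquiv _ _ (sX.hom ≫ (singleFunctor B 0).map ψ) ≫ i.hom)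
      refine ⟨g, (singleFunctor B 0).map_injective ((key g).trans ?_)⟩
      rw [hg, assoc, i.hom_inv_id, comp_id, Equiv.symm_apply_apply, Iso.inv_hom_id_assoc]
  obtain ⟨g, hg⟩ := (huniv (G.obj M)).2 (adj₀.counit.app M)
  let g' := adj₀.homEquiv W M φ
  have h1 : g ≫ g' = 𝟙 _ := by
    apply (adj₀.homEquiv _ _).symm.injective
    rw [show g ≫ g' = adj₀.homEquiv _ _ (F.map g ≫ φ) from (adj₀.homEquiv_naturality_left g φ).symm,
      Equiv.symm_apply_apply]
    simpa [Adjunction.homEquiv_counit] using hg
  have h2 : g' ≫ g = 𝟙 _ := (huniv W).1 (by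
    show F.map (g' ≫ g) ≫ φ = F.map (𝟙 _) ≫ φ
    rw [F.map_comp, assoc, show F.map g ≫ φ = adj₀.counit.app M from hg, F.map_id, id_comp]
    exact (adj₀.homEquiv_counit (g := g')).symm.trans ((adj₀.homEquiv W M).symm_apply_apply φ))
  let e : G.obj M ≅ W := ⟨g, g', h1, h2⟩
  have : IsIso (F.map g ≫ φ) := by
    rw [show F.map g ≫ φ = adj₀.counit.app M from hg]
    infer_instance
  have : IsIso (F.map g) := (F.mapIso e).isIso_hom
  have : IsIso φ := IsIso.of_isIso_comp_left (F.map g) φ
  have hiso : IsIso (s.inv ≫ L.map i.inv ≫ adj.counit.app ((singleFunctor B 0).obj M)) := by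
    rw [← hφ]
    infer_instance
  refine ⟨?_, ⟨i ≪≫ (singleFunctor A 0).mapIso e.symm⟩⟩
  have := IsIso.of_isIso_comp_left s.inv (L.map i.inv ≫ adj.counit.app ((singleFunctor B 0).obj M))
  exact IsIso.of_isIso_comp_left (L.map i.inv) (adj.counit.app ((singleFunctor B 0).obj M))

end Groth.Agent.SiteCmpLib.HeartCounit
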