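import Groth.Agent.SiteCmpLib.ModEquiv
import Groth.Agent.SiteCmpLib.HeartCounit

/-! The comparison morphism of two topologies on sheaves of modules. -/

universe u

open CategoryTheory Category Limits Opposite DerivedCategory ZeroObject

attribute [local instance] HasDerivedCategory.standard

namespace Groth.Agent.SiteCmpLib.EpsMod

open DerivedAdj LocClass

variable {C : Type u} [SmallCategory C] {J J' : GrothendieckTopology C} (h : J' ≤ J)
  (O : Sheaf J CommRingCat.{u})

instance faithful_push : (SiteCmp.eps h O).push.Faithful where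
  map_injective {F G} a b hab := by
    apply SheafOfModules.hom_ext
    apply PresheafOfModules.hom_ext
    intro U
    ext x
    exact congrArg (fun t : (SiteCmp.eps h O).push.obj F ⟶ (SiteCmp.eps h O).push.obj G =>
      (t.val.app U).hom x) hab

set_option backward.isDefEq.respectTransparency false in
instance full_push : (SiteCmp.eps h O).push.Full where
  map_surjective {F G} g := by
    refine ⟨⟨PresheafOfModules.homMk ((PresheafOfModules.toPresheaf _).map g.val)
      (fun U r m => (g.val.app U).hom.map_smul r m)⟩, ?_⟩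
    apply SheafOfModules.hom_ext
    apply PresheafOfModules.hom_ext
    intro U
    rfl

instance : IsIso (SiteCmp.eps h O).adj.counit := inferInstance

variable {O} {B : Set C}
  (h3 : Covers J' B) (A : ObjectProperty (ModSite.Mod O)) [WSerre.IsWeakSerre A]
  (h4 : ∀ U ∈ B, ∀ F : ModSite.Mod O, A F → ∀ p : ℕ, 0 < p → Subsingleton (ModSite.HU O F p U))

include h in
lemma covers {B : Set C} (hB : Covers J' B) : Covers J B := fun U => by
  obtain ⟨ι, Y, g, hg, hY⟩ := hB U
  exact ⟨ι, Y, g, h _ hg, hY⟩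

include h3 h4

omit [WSerre.IsWeakSerre A] in
lemma locCd' (B' : Set C) : ModBounded.LocCd A J' B' id := fun V _ => by
  refine ⟨0, fun T hT => ?_⟩
  obtain ⟨ι, Y, g, hg, hcov, hY⟩ := DLim.IsCoveredBy.refine_cover h3 V hT
  exact ⟨ι, Y, g, hg, hcov, fun i F hF k hk => h4 _ (hY i) F hF k hk⟩

include h in
omit [WSerre.IsWeakSerre A] in
lemma locCd (B' : Set C) : ModBounded.LocCd A J B' id := fun V _ => by
  refine ⟨0, fun T hT => ?_⟩
  obtain ⟨ι, Y, g, hg, hcov, hY⟩ := DLim.IsCoveredBy.refine_cover (covers h h3) V hT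
  exact ⟨ι, Y, g, hg, hcov, fun i F hF k hk => h4 _ (hY i) F hF k hk⟩

lemma isLE_model_single (M : ModSite.Mod O) (hM : A M) :
    ((model (SiteCmp.eps h O).push).obj ((singleFunctor _ 0).obj M)).IsLE 0 := by
  refine (isLE_iff _ _).2 fun j hj => ?_
  obtain ⟨hc, ht⟩ := exists_triangulated_model (SiteCmp.eps h O).push
  let η : shiftFunctor (DerivedCategory (ModSite.Mod O)) j ⋙ model (SiteCmp.eps h O).push ⋙
      homologyFunctor _ 0 ≅ model (SiteCmp.eps h O).push ⋙ homologyFunctor _ j :=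
    (Functor.associator _ _ _).symm ≪≫
      Functor.isoWhiskerRight ((model (SiteCmp.eps h O).push).commShiftIso j) _ ≪≫
      Functor.associator _ _ _ ≪≫
      Functor.isoWhiskerLeft _ ((homologyFunctor _ 0).shiftIso j 0 j (add_zero j))
  refine ((ModTest.isTest _).eq_zero_of_covers h3 fun V hV s => ?_).of_iso (η.app _).symm
  refine eq_zero_homology_model (SiteCmp.eps h O).adj (ModTest.isTest _)
    (a := (0 : ((singleFunctor (ModSite.Mod O) 0).obj M)⟦j⟧ ⟶ 0)) (fun T hT => ?_) s ?_
  · obtain ⟨d, hd⟩ := ModBounded.cdBound_pull (SiteCmp.eps h O) (locCd' h3 A h4 Set.univ) V trivial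
    obtain ⟨ι, Y, g, hg, hcov, hY⟩ := DLim.IsCoveredBy.refine_cover h3 V hT
    refine ⟨ι, Y, g, hg, hcov, fun i φ _ => ?_⟩
    obtain ⟨k, rfl⟩ : ∃ k : ℕ, j = k := ⟨j.toNat, by omega⟩
    have : HasExt.{u} (ModSite.Mod O) := hasExt_of_enoughInjectives _
    let e := (singleFunctor (ModSite.Mod O) 0).mapIso (ModTest.pullFreeY (SiteCmp.eps h O) (Y i))
    rw [← cancel_epi e.inv, comp_zero]
    exact ModTest.hom_shift_eq_zero ((SiteCmp.eps h O).fn.obj (Y i)) M k
      (h4 (Y i) (hY i) M hM k (by omega)) (e.inv ≫ φ)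
  · have : ((model (SiteCmp.eps h O).push).map (0 : ((singleFunctor (ModSite.Mod O) 0).obj M)⟦j⟧ ⟶ 0)) = 0 :=
      Functor.map_zero _ _ _
    rw [this, Functor.map_zero, comp_zero]

/-- Short exact sequences in `A` stay short exact after direct image. -/
lemma shortExact_push {S : ShortComplex (ModSite.Mod O)} (hS : S.ShortExact) (h₁ : A S.X₁) :
    (S.map (SiteCmp.eps h O).push).ShortExact := by
  have := hS.mono_f
  have := hS.epi_g
  have : PreservesLimits (SiteCmp.eps h O).push := (SiteCmp.eps h O).adj.rightAdjoint_preservesLimits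
  have hepi : Epi ((SiteCmp.eps h O).push.map S.g) := by
    refine Preadditive.epi_of_isZero_cokernel _ ((ModTest.isTest _).eq_zero_of_covers h3 fun V hV a => ?_)
    obtain ⟨T, hT, hT'⟩ := (ModTest.isTest _).lift (cokernel.π ((SiteCmp.eps h O).push.map S.g)) V a
    obtain ⟨ι, Y, g, hg, hcov, hY⟩ := DLim.IsCoveredBy.refine_cover h3 V hT
    refine (ModTest.isTest _).sep_family hcov a fun i => ?_
    obtain ⟨b, hb⟩ := hT' (g i) (hg i)
    have : HasExt.{u} (ModSite.Mod O) := hasExt_of_enoughInjectives _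
    let adj := (SiteCmp.eps h O).adj
    let k := ModTest.pullFreeY (SiteCmp.eps h O) (Y i)
    let b' : (ModTest.freeY O).obj (Y i) ⟶ S.X₃ := k.inv ≫ (adj.homEquiv _ _).symm b
    obtain ⟨ee⟩ := ModTest.nonempty_ext_equiv (Y i) S.X₁ 1
    have := h4 _ (hY i) S.X₁ h₁ 1 Nat.one_pos
    have := ee.toEquiv.subsingleton
    obtain ⟨x, hx⟩ := Abelian.Ext.covariant_sequence_exact₃ _ hS (Abelian.Ext.mk₀ b') (n₁ := 1) rfl
      (Subsingleton.elim _ _)
    obtain ⟨c, rfl⟩ := (Abelian.Ext.mk₀_bijective _ _).2 x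
    rw [Abelian.Ext.mk₀_comp_mk₀] at hx
    have hc : (k.hom ≫ c) ≫ S.g = (adj.homEquiv _ _).symm b := by
      have hx' : c ≫ S.g = b' := (Abelian.Ext.mk₀_bijective _ _).1 hx
      exact (assoc _ _ _).trans ((congrArg (fun t => k.hom ≫ t) hx').trans (k.hom_inv_id_assoc _))
    have hb' : adj.homEquiv _ _ (k.hom ≫ c) ≫ (SiteCmp.eps h O).push.map S.g = b := by
      rw [← adj.homEquiv_naturality_right, hc, Equiv.apply_symm_apply]
    rw [← hb, ← hb', assoc, cokernel.condition, comp_zero]
  exact ShortComplex.ShortExact.mk'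
    ((((Functor.preservesFiniteLimits_iff_forall_exact_map_and_mono _).1 inferInstance) S hS).1)
    (inferInstanceAs (Mono ((SiteCmp.eps h O).push.map S.f))) hepi

theorem isWeakSerre_map [PreservesFiniteLimits (SiteCmp.eps h O).pull] :
    WSerre.IsWeakSerre (A.map (SiteCmp.eps h O).push) := by
  let ε := SiteCmp.eps h O
  have : PreservesLimits ε.push := ε.adj.rightAdjoint_preservesLimits
  have hc : ∀ (M : ModSite.Mod O) (Y : ModSite.Mod (SiteCmp.epsRing h O)), (ε.push.obj M ≅ Y) →
      IsIso (ε.adj.unit.app Y) := fun M Y e => by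
    have : IsIso (ε.adj.counit.app M) := inferInstance
    have : IsIso (ε.adj.unit.app (ε.push.obj M)) := IsIso.of_isIso_fac_right (hh := inferInstance)
      (ε.adj.right_triangle_components M)
    exact (NatTrans.isIso_app_iff_of_iso ε.adj.unit e).1 this
  refine { exists_zero := ?_, kernels_le := ?_, cokernels_le := ?_, prop_X₂_of_shortExact := ?_ }
  · obtain ⟨Z, hZ, hPZ⟩ := A.exists_prop_of_containsZero
    exact ⟨_, ε.push.map_isZero hZ, A.prop_map_obj _ hPZ⟩
  · rintro _ ⟨g, k, hk, ⟨M, hM, ⟨eM⟩⟩, ⟨N, hN, ⟨eN⟩⟩⟩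
    obtain ⟨g', hg'⟩ := ε.push.map_surjective (eM.hom ≫ g ≫ eN.inv)
    refine ⟨kernel g', A.prop_kernel g' hM hN, ⟨PreservesKernel.iso ε.push g' ≪≫
      kernel.mapIso _ g eM eN (by simp [hg']) ≪≫
      IsLimit.conePointUniqueUpToIso (limit.isLimit _) hk⟩⟩
  · rintro _ ⟨g, k, hk, ⟨M, hM, ⟨eM⟩⟩, ⟨N, hN, ⟨eN⟩⟩⟩
    obtain ⟨g', hg'⟩ := ε.push.map_surjective (eM.hom ≫ g ≫ eN.inv)
    let Q := cokernel g'
    have hQ : A Q := A.prop_cokernel g' hM hN
    let I := kernel (cokernel.π g')
    have hI : A I := A.prop_kernel _ hN hQ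
    let u : M ⟶ I := kernel.lift _ g' (cokernel.condition g')
    have he : Epi u := (ShortComplex.exact_iff_epi_kernel_lift _).1
      (ShortComplex.exact_of_g_is_cokernel (ShortComplex.mk g' (cokernel.π g') (cokernel.condition g'))
        (cokernelIsCokernel g'))
    have hu : (ShortComplex.mk (kernel.ι u) u (kernel.condition u)).ShortExact :=
      ShortComplex.ShortExact.mk' (ShortComplex.exact_of_f_is_kernel _ (kernelIsKernel u)) inferInstance he
    have := (shortExact_push h h3 A h4 hu (A.prop_kernel u hM hI)).epi_g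
    have hq : (ShortComplex.mk (kernel.ι (cokernel.π g')) (cokernel.π g') (kernel.condition _)).ShortExact :=
      ShortComplex.ShortExact.mk' (ShortComplex.exact_of_f_is_kernel _ (kernelIsKernel _)) inferInstance inferInstance
    have hq' := shortExact_push h h3 A h4 hq hI
    have : Epi (ε.push.map u) := by assumption
    have hcok : IsColimit (CokernelCofork.ofπ (f := ε.push.map g') (ε.push.map (cokernel.π g'))
        (by rw [← Functor.map_comp, cokernel.condition, Functor.map_zero])) := by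
      refine isCokernelEpiComp (c := CokernelCofork.ofπ (f := ε.push.map (kernel.ι (cokernel.π g')))
        (ε.push.map (cokernel.π g')) (by rw [← Functor.map_comp, kernel.condition, Functor.map_zero]))
        hq'.gIsCokernel (ε.push.map u) ?_
      show ε.push.map g' = ε.push.map u ≫ ε.push.map (kernel.ι (cokernel.π g'))
      rw [← Functor.map_comp, kernel.lift_ι]
    refine ⟨Q, hQ, ⟨IsColimit.coconePointUniqueUpToIso hcok (cokernelIsCokernel _) ≪≫
      cokernel.mapIso _ g eM eN (by simp [hg']) ≪≫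
      IsColimit.coconePointUniqueUpToIso (colimit.isColimit _) hk⟩⟩
  · rintro S hS ⟨M, hM, ⟨eM⟩⟩ ⟨N, hN, ⟨eN⟩⟩
    have hmap : (S.map ε.pull).ShortExact := hS.map_of_exact ε.pull
    have hA₁ : A (ε.pull.obj S.X₁) := A.prop_of_iso ((asIso (ε.adj.counit.app M)).symm ≪≫ ε.pull.mapIso eM) hM
    have hA₃ : A (ε.pull.obj S.X₃) := A.prop_of_iso ((asIso (ε.adj.counit.app N)).symm ≪≫ ε.pull.mapIso eN) hN
    have hA₂ : A (ε.pull.obj S.X₂) := A.prop_X₂_of_shortExact hmap hA₁ hA₃
    let φ : S ⟶ (S.map ε.pull).map ε.push :=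
      { τ₁ := ε.adj.unit.app _, τ₂ := ε.adj.unit.app _, τ₃ := ε.adj.unit.app _
        comm₁₂ := (ε.adj.unit.naturality S.f).symm
        comm₂₃ := (ε.adj.unit.naturality S.g).symm }
    have : IsIso φ.τ₁ := hc M _ eM
    have : IsIso φ.τ₃ := hc N _ eN
    have : IsIso φ.τ₂ := ShortComplex.isIso₂_of_shortExact_of_isIso₁₃ φ hS (shortExact_push h h3 A h4 hmap hA₁)
    exact ⟨_, hA₂, ⟨(asIso φ.τ₂).symm⟩⟩

end Groth.Agent.SiteCmpLib.EpsMod
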