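import Groth.Agent.SiteCmpLib.EpsOver
import Groth.Agent.SiteBase.Cohom
import Groth.Agent.SiteBase.LerayDegen

/-!
# Vanishing of the higher direct images for the change of topology
-/

set_option backward.isDefEq.respectTransparency false

universe u

open CategoryTheory CategoryTheory.Limits Opposite

namespace Groth.Agent.SiteCmpLib.CompareSit

open EpsOver

variable {C : Type u} [SmallCategory C] {J J' : GrothendieckTopology C} (h : J' ≤ J)

/-- `F` is a sheaf whose direct image lies in `A'`. -/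
def Mem (A' : ∀ X : C, ObjectProperty (Sheaf (J'.over X) AddCommGrpCat.{u})) (X : C)
    (F : Sheaf (J.over X) AddCommGrpCat.{u}) : Prop :=
  A' X ((ep (SiteCmp.over_le h X)).obj F)

/-- The hypotheses of the comparison situation. -/
structure Sit (P : MorphismProperty C)
    (A' : ∀ X : C, ObjectProperty (Sheaf (J'.over X) AddCommGrpCat.{u})) : Prop where
  h2 : ∀ ⦃X Y : C⦄ (f : X ⟶ Y) (F' : Sheaf (J'.over Y) AddCommGrpCat.{u}), A' Y F' →
    A' X ((res f J').obj F')
  h3 : ∀ (X : C) (F' : Sheaf (J'.over X) AddCommGrpCat.{u}), A' X F' → Presheaf.IsSheaf (J.over X) F'.obj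
  h4 : ∀ ⦃X Y : C⦄ (f : X ⟶ Y), P f → ∀ (F' : Sheaf (J'.over X) AddCommGrpCat.{u}), A' X F' → ∀ i : ℕ,
    A' Y (((dir f J').rightDerived i).obj F')

/-- Vanishing up to degree `n`. -/
def Vn (A' : ∀ X : C, ObjectProperty (Sheaf (J'.over X) AddCommGrpCat.{u})) (n : ℕ) : Prop :=
  ∀ (Z : C) (G : Sheaf (J.over Z) AddCommGrpCat.{u}), Mem h A' Z G →
    ∀ i : ℕ, i + 1 ≤ n → IsZero (((ep (SiteCmp.over_le h Z)).rightDerived (i + 1)).obj G)

variable {P : MorphismProperty C} {A' : ∀ X : C, ObjectProperty (Sheaf (J'.over X) AddCommGrpCat.{u})}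
  [∀ X : C, WSerre.IsWeakSerre (A' X)]

variable {h}

variable (h) in
lemma Sit.unit (S : Sit (J := J) P A') (X : C) (H : Sheaf (J'.over X) AddCommGrpCat.{u}) (hH : A' X H) :
    IsIso ((adj (SiteCmp.over_le h X)).unit.app H) :=
  isIso_unit_of_isSheaf _ H (S.h3 X H hH)

lemma Sit.mem_res (S : Sit (J := J) P A') {X Y : C} (f : X ⟶ Y) {F : Sheaf (J.over Y) AddCommGrpCat.{u}}
    (hF : Mem h A' Y F) : Mem h A' X ((res f J).obj F) :=
  (A' X).prop_of_iso ((resEpIso f h).app F) (S.h2 f _ hF)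

lemma Sit.mem_dir (S : Sit (J := J) P A') {X Y : C} (f : X ⟶ Y) (hf : P f)
    {F : Sheaf (J.over X) AddCommGrpCat.{u}} (hF : Mem h A' X F) : Mem h A' Y ((dir f J).obj F) :=
  (A' Y).prop_of_iso ((dir f J').rightDerivedZeroIsoSelf.app _ ≪≫ (dirEpIso f h).app F) (S.h4 f hf _ hF 0)

section

variable (S : Sit (J := J) P A') {n : ℕ} (hV : Vn h A' n)
include S hV

/-- In degrees at most `n` the higher direct images commute with the change of topology. -/
theorem nonempty_iso_rightDerived {X Y : C} (f : X ⟶ Y) (hf : P f)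
    (F : Sheaf (J.over X) AddCommGrpCat.{u}) (hF : Mem h A' X F) (i : ℕ) (hi : i ≤ n) :
    Nonempty (((dir f J').rightDerived i).obj ((ep (SiteCmp.over_le h X)).obj F) ≅
      (ep (SiteCmp.over_le h Y)).obj (((dir f J).rightDerived i).obj F)) := by
  cases i with
  | zero => exact LerayStep.nonempty_iso_zero _ _ _ (dirEpIso f h)
  | succ i =>
    exact LerayStep.nonempty_iso_low (adj (SiteCmp.over_le h Y)) (ep (SiteCmp.over_le h X)) (dir f J)
      (dir f J') (dirEpIso f h) (injectiveResolution F) (SESResLib.derivedLES _)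
      (SESResLib.derivedLES _) n (hV X F hF) (A' Y) (S.unit h Y) (fun q => S.h4 f hf _ hF q) i hi

/-- Restriction along a covering member of `P` is injective on `R^{n+1}ε`. -/
theorem exists_mono {X Y : C} (f : X ⟶ Y) (hf : P f)
    (hcov : Sieve.ofArrows (fun _ : PUnit.{u + 1} => X) (fun _ => f) ∈ J Y)
    (F : Sheaf (J.over Y) AddCommGrpCat.{u}) (hF : Mem h A' Y F) :
    ∃ (Z : Sheaf (J'.over X) AddCommGrpCat.{u})
      (k : ((ep (SiteCmp.over_le h Y)).rightDerived (n + 1)).obj F ⟶ (dir f J').obj Z), Mono k := by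
  let G := (res f J).obj F
  have hG : Mem h A' X G := S.mem_res f hF
  obtain ⟨Z, k₀, hk₀⟩ := LerayStep.exists_mono_top (adj (SiteCmp.over_le h Y)) (ep (SiteCmp.over_le h X))
    (dir f J) (dir f J') (dirEpIso f h) (injectiveResolution G) (SESResLib.derivedLES _)
    (SESResLib.derivedLES _) n (hV X G hG) (A' Y) (S.unit h Y) (fun q => S.h4 f hf _ hG q)
    (fun M hM => hV Y M hM)
  have := mono_unit_of_cover f hcov F
  let η : F ⟶ (dir f J).obj G := (dirAdj f J).unit.app F
  have : Mono η := this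
  obtain ⟨hQ, hepi⟩ := LerayStep.map_cokernel (adj (SiteCmp.over_le h Y)) (A' Y) (S.unit h Y) η hF
    (S.mem_dir f hf hG)
  let T : ShortComplex (Sheaf (J.over Y) AddCommGrpCat.{u}) := ShortComplex.mk η (cokernel.π η) (cokernel.condition η)
  have hT : T.ShortExact := ShortComplex.ShortExact.mk'
    (ShortComplex.exact_of_g_is_cokernel T (cokernelIsCokernel η)) (inferInstanceAs (Mono η))
    (inferInstanceAs (Epi (cokernel.π η)))
  let Δ : RDer.DerivedLES (ep (SiteCmp.over_le h Y)) := (SESResLib.derivedLES _)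
  have hm : Mono (((ep (SiteCmp.over_le h Y)).rightDerived (n + 1)).map η) := by
    refine (Δ.exact₁ T hT n (n + 1) rfl).mono_g ?_
    cases n with
    | zero =>
      have : Epi (((ep (SiteCmp.over_le h Y)).rightDerived 0).map T.g) := by
        let e0 := (ep (SiteCmp.over_le h Y)).rightDerivedZeroIsoSelf
        have he : ((ep (SiteCmp.over_le h Y)).rightDerived 0).map T.g = e0.hom.app _ ≫
            (ep (SiteCmp.over_le h Y)).map T.g ≫ e0.inv.app _ := by
          rw [e0.inv.naturality, Iso.hom_inv_id_app_assoc]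
        have : Epi ((ep (SiteCmp.over_le h Y)).map T.g) := hepi
        rw [he]
        infer_instance
      exact (cancel_epi (((ep (SiteCmp.over_le h Y)).rightDerived 0).map T.g)).1
        ((Δ.comp_δ T hT 0 1 rfl).trans comp_zero.symm)
    | succ n => exact (hV Y _ hQ n le_rfl).eq_of_src _ _
  exact ⟨Z, _ ≫ k₀, mono_comp' hm hk₀⟩

end

/-- The vanishing theorem. -/
theorem isZero_rightDerived (S : Sit (J := J) P A')
    (h5 : ∀ (U : C) (R : Sieve U), R ∈ J U → ∃ (ι : Type u) (V : ι → C) (v : ∀ j, V j ⟶ U),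
      Sieve.ofArrows V v ∈ J' U ∧ ∀ j, ∃ (W : C) (w : W ⟶ V j), P w ∧
        Sieve.ofArrows (fun _ : PUnit.{u + 1} => W) (fun _ => w) ∈ J (V j) ∧
        ∃ (κ : Type u) (Wk : κ → C) (wk : ∀ k, Wk k ⟶ W), Sieve.ofArrows Wk wk ∈ J' W ∧
          ∀ k, R.arrows (wk k ≫ w ≫ v j)) : ∀ n, Vn h A' n := by
  intro n
  induction n with
  | zero => intro Z G _ i hi; omega
  | succ n ih =>
    intro X F hF i hi
    rcases Nat.lt_or_ge i n with hin | hin
    · exact ih X F hF i hin
    obtain rfl : i = n := by omega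
    let H := ((ep (SiteCmp.over_le h X)).rightDerived (i + 1)).obj F
    refine (IsZero.iff_id_eq_zero H).2 ?_
    apply Sheaf.hom_ext
    ext U s
    obtain ⟨U⟩ := U
    show s = 0
    obtain ⟨R, hR, hs⟩ := exists_cover_eq_zero (SiteCmp.over_le h X) H
      (LerayStep.isZero_map_rightDerived (adj (SiteCmp.over_le h X)) i F) s
    obtain ⟨ι, V, v, hv, hW⟩ := h5 U.left (Sieve.overEquiv U R) ((GrothendieckTopology.mem_over_iff _ _).1 hR)
    refine eq_zero_of_ofArrows H s hv fun j T g q hq hiso => ?_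
    obtain ⟨W, w, hw, hwcov, κ, Wk, wk, hwk, hk⟩ := hW j
    let u : V j ⟶ X := v j ≫ U.hom
    let T₀ : Over X := (Over.map u).obj (Over.mk (𝟙 (V j)))
    let g₀ : T₀ ⟶ U := Over.homMk (v j) (Category.id_comp u).symm
    let t : T ⟶ T₀ := Over.homMk q (by
      show q ≫ 𝟙 _ ≫ u = T.hom
      rw [Category.id_comp, ← Category.assoc, hq, Over.w g])
    have hg : t ≫ g₀ = g := Over.OverMorphism.ext hq
    suffices hs0 : (H.obj.map g₀.op).hom s = 0 by
      rw [← hg, op_comp, H.obj.map_comp]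
      exact (congrArg (H.obj.map t.op).hom hs0).trans (map_zero _)
    let M := (res u J').obj H
    obtain ⟨Z, k, hkm⟩ := exists_mono S ih w hw hwcov _ (S.mem_res u hF)
    let φ : M ≅ ((ep (SiteCmp.over_le h (V j))).rightDerived (i + 1)).obj ((res u J).obj F) :=
      (SiteBase.rightDerivedCompIso (ep (SiteCmp.over_le h X)) (res u J') (i + 1)).symm.app F ≪≫
        (SiteBase.rightDerivedCongr (resEpIso u h) (i + 1)).app F ≪≫
        (SiteBase.rightDerivedPrecompIso (res u J) (ep (SiteCmp.over_le h (V j))) (i + 1)).app F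
    have : Mono (φ.hom ≫ k) := mono_comp' inferInstance hkm
    refine eq_zero_of_mono w M (φ.hom ≫ k) ((H.obj.map g₀.op).hom s) ?_
    let a : (Over.map u).obj (Over.mk w) ⟶ T₀ :=
      (Over.map u).map (Over.homMk w (Category.comp_id w) : Over.mk w ⟶ Over.mk (𝟙 (V j)))
    show (H.obj.map a.op).hom ((H.obj.map g₀.op).hom s) = 0
    refine eq_zero_of_ofArrows H (U := (Over.map u).obj (Over.mk w)) _ hwk fun k' T' g' q' hq' _ => ?_
    have hR' : R.arrows ((g' ≫ a) ≫ g₀) := by
      have h0 : (Sieve.overEquiv U R).arrows ((g' ≫ a) ≫ g₀).left := by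
        have := (Sieve.overEquiv U R).downward_closed (hk k') q'
        have e : ((g' ≫ a) ≫ g₀).left = q' ≫ wk k' ≫ w ≫ v j := by
          show (g'.left ≫ w) ≫ v j = _
          rw [← hq']
          simp
        rw [e]
        exact this
      have := (Sieve.overEquiv_symm_iff (Sieve.overEquiv U R) ((g' ≫ a) ≫ g₀)).2 h0
      rwa [OrderIso.symm_apply_apply] at this
    have := hs _ hR'
    rw [op_comp, op_comp, H.obj.map_comp, H.obj.map_comp] at this
    exact this

section Consequences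

variable (S : Sit (J := J) P A')
  (h5 : ∀ (U : C) (R : Sieve U), R ∈ J U → ∃ (ι : Type u) (V : ι → C) (v : ∀ j, V j ⟶ U),
      Sieve.ofArrows V v ∈ J' U ∧ ∀ j, ∃ (W : C) (w : W ⟶ V j), P w ∧
        Sieve.ofArrows (fun _ : PUnit.{u + 1} => W) (fun _ => w) ∈ J (V j) ∧
        ∃ (κ : Type u) (Wk : κ → C) (wk : ∀ k, Wk k ⟶ W), Sieve.ofArrows Wk wk ∈ J' W ∧
          ∀ k, R.arrows (wk k ≫ w ≫ v j))
include S h5

/-- Sheaves with direct image in `A'` form a weak Serre subcategory. -/
theorem isWeakSerre (X : C) : WSerre.IsWeakSerre ((A' X).inverseImage (ep (SiteCmp.over_le h X))) := by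
  let e := ep (SiteCmp.over_le h X)
  let a := SiteCmp.epsShInv (SiteCmp.over_le h X) AddCommGrpCat.{u}
  let ad := adj (SiteCmp.over_le h X)
  refine { exists_zero := ?_, kernels_le := ?_, cokernels_le := ?_, prop_X₂_of_shortExact := ?_ }
  · exact ⟨_, isZero_zero _, (A' X).prop_of_isZero (e.map_isZero (isZero_zero _))⟩
  · rintro _ ⟨g, k, hk, hM, hN⟩
    refine (A' X).prop_of_iso ?_ ((A' X).prop_kernel (e.map g) hM hN)
    exact (PreservesKernel.iso e g).symm ≪≫
      e.mapIso (IsLimit.conePointUniqueUpToIso (limit.isLimit _) hk)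
  · rintro _ ⟨g, k, hk, hM, hN⟩
    have hC := (A' X).prop_cokernel (e.map g) hM hN
    have : IsIso (ad.unit.app (cokernel (e.map g))) := S.unit h X _ hC
    refine (A' X).prop_of_iso ?_ hC
    exact asIso (ad.unit.app (cokernel (e.map g))) ≪≫ e.mapIso (PreservesCokernel.iso a (e.map g) ≪≫
      cokernel.mapIso _ g (asIso (ad.counit.app _)) (asIso (ad.counit.app _)) (ad.counit.naturality g) ≪≫
      IsColimit.coconePointUniqueUpToIso (colimit.isColimit _) hk)
  · intro T hT h₁ h₃
    let Δ : RDer.DerivedLES e := SESResLib.derivedLES _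
    have h0 : Epi ((e.rightDerived 0).map T.g) :=
      (Δ.exact₃ T hT 0 1 rfl).epi_f
        ((isZero_rightDerived (h := h) S h5 1 X T.X₁ h₁ 0 le_rfl).eq_of_tgt _ _)
    have : Epi (e.map T.g) := by
      have he : e.map T.g = e.rightDerivedZeroIsoSelf.inv.app T.X₂ ≫ (e.rightDerived 0).map T.g ≫
          e.rightDerivedZeroIsoSelf.hom.app T.X₃ := by
        rw [e.rightDerivedZeroIsoSelf.hom.naturality, Iso.inv_hom_id_app_assoc]
      rw [he]
      infer_instance
    have := hT.mono_f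
    have : Mono (T.map e).f := inferInstanceAs (Mono (e.map T.f))
    have : Epi (T.map e).g := inferInstanceAs (Epi (e.map T.g))
    exact (A' X).prop_X₂_of_shortExact
      ({ exact := ShortComplex.exact_of_f_is_kernel _ (KernelFork.mapIsLimit _ hT.fIsKernel e) } :
        (T.map e).ShortExact) h₁ h₃

open Abelian in
/-- Cohomology does not depend on the topology. -/
theorem nonempty_addEquiv (X : C) (F' : Sheaf (J'.over X) AddCommGrpCat.{u}) (hF' : A' X F') (n : ℕ) :
    Nonempty (CohSite.HU F' n (Over.mk (𝟙 X)) ≃+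
      CohSite.HU ((SiteCmp.epsShInv (SiteCmp.over_le h X) AddCommGrpCat.{u}).obj F') n (Over.mk (𝟙 X))) := by
  let e := ep (SiteCmp.over_le h X)
  let ad := adj (SiteCmp.over_le h X)
  let U : Over X := Over.mk (𝟙 X)
  let G := (SiteCmp.epsShInv (SiteCmp.over_le h X) AddCommGrpCat.{u}).obj F'
  have := S.unit h X F' hF'
  have hG : Mem h A' X G := (A' X).prop_of_iso (asIso (ad.unit.app F')) hF'
  let ε : ∀ H, Ext.{u} (CohCx.freeSheaf (J.over X) U) H 0 ≃+
      Ext.{u} (CohCx.freeSheaf (J'.over X) U) (e.obj H) 0 :=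
    fun H => (SiteBase.huZero H U).trans (SiteBase.huZero (e.obj H) U).symm
  have hε : ∀ {H H'} (φ : H ⟶ H') (y : Ext.{u} (CohCx.freeSheaf (J.over X) U) H 0),
      ε H' (y.comp (Ext.mk₀ φ) (add_zero 0)) = (ε H y).comp (Ext.mk₀ (e.map φ)) (add_zero 0) := by
    intro H H' φ y
    obtain ⟨ψ, rfl⟩ := (Ext.mk₀_bijective _ _).2 y
    obtain ⟨ψ', hψ'⟩ := (Ext.mk₀_bijective _ _).2 (ε H (Ext.mk₀ ψ))
    rw [Ext.mk₀_comp_mk₀, ← hψ', Ext.mk₀_comp_mk₀]
    apply (SiteBase.huZero (e.obj H') U).injective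
    refine ((SiteBase.huZero (e.obj H') U).apply_symm_apply _).trans ?_
    have h1 : SiteBase.secEquiv _ U (e.obj H) ψ' = SiteBase.secEquiv _ U H ψ := by
      rw [← SiteBase.huZero_mk₀, ← SiteBase.huZero_mk₀, hψ']
      exact (SiteBase.huZero (e.obj H) U).apply_symm_apply _
    erw [SiteBase.huZero_mk₀, SiteBase.huZero_mk₀]
    refine (SiteBase.secEquiv_comp U ψ φ).trans ((congrArg (φ.hom.app (op U)).hom h1.symm).trans ?_)
    exact (SiteBase.secEquiv_comp U ψ' (e.map φ)).symm
  obtain ⟨E⟩ := LerayDegen.ext_equiv_of_rightDerived.{u} (CohCx.freeSheaf (J.over X) U)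
    (CohCx.freeSheaf (J'.over X) U) e (fun I hI => inferInstance) ε hε (SESResLib.derivedLES _) G
    (fun q => isZero_rightDerived (h := h) S h5 (q + 1) X G hG q le_rfl) n
  let i := asIso (ad.unit.app F')
  let E' : Ext.{u} (CohCx.freeSheaf (J'.over X) U) F' n ≃+
      Ext.{u} (CohCx.freeSheaf (J'.over X) U) (e.obj G) n :=
    { toFun := fun x => x.comp (Ext.mk₀ i.hom) (add_zero n)
      invFun := fun x => x.comp (Ext.mk₀ i.inv) (add_zero n)
      left_inv := fun x => by simp
      right_inv := fun x => by simp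
      map_add' := fun x y => Ext.add_comp _ _ _ _ }
  exact ⟨E'.trans E.symm⟩

end Consequences

end Groth.Agent.SiteCmpLib.CompareSit
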