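import Groth.Agent.SiteCmpLib.CompareSit
import Groth.Agent.SiteBase.Rpush
import Groth.Agent.SiteBase.Kill
import Mathlib.CategoryTheory.Comma.Over.Pullback

/-!
# Cohomology classes on a covering with equal pullbacks are locally zero
-/

set_option backward.isDefEq.respectTransparency false

universe u

open CategoryTheory CategoryTheory.Limits Opposite

namespace Groth.Agent.SiteCmpLib.CompareClass

open EpsOver

variable {C : Type u} [SmallCategory C] {X Y : C} (f : X ⟶ Y) [HasPullbacksAlong f]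
  (K : GrothendieckTopology C)

/-- Precomposition with `T ↦ T ×_Y X`. -/
noncomputable abbrev pre : ((Over Y)ᵒᵖ ⥤ AddCommGrpCat.{u}) ⥤ (Over Y)ᵒᵖ ⥤ AddCommGrpCat.{u} :=
  SiteBase.precomp (Over.pullback f ⋙ Over.map f)

/-- The direct image of a restriction is sheafified precomposition with the fibre product. -/
noncomputable def resDirIso :
    (sheafToPresheaf (K.over Y) AddCommGrpCat.{u} ⋙ pre f) ⋙ presheafToSheaf (K.over Y) AddCommGrpCat.{u} ≅
      res f K ⋙ dir f K :=
  let e : ((Over.map f).op).ran ≅ SiteBase.precomp (Over.pullback f) :=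
    Adjunction.rightAdjointUniq ((Over.map f).op.ranAdjunction AddCommGrpCat.{u})
      (Adjunction.whiskerLeft AddCommGrpCat.{u} (Over.mapPullbackAdj f).op)
  let e' : (res f K ⋙ dir f K) ⋙ sheafToPresheaf (K.over Y) AddCommGrpCat.{u} ≅
      sheafToPresheaf (K.over Y) AddCommGrpCat.{u} ⋙ pre f :=
    Functor.isoWhiskerLeft ((res f K ⋙ sheafToPresheaf (K.over X) AddCommGrpCat.{u})) e
  Functor.isoWhiskerRight e'.symm _ ≪≫
    Functor.isoWhiskerLeft (res f K ⋙ dir f K)
      (asIso (sheafificationAdjunction (K.over Y) AddCommGrpCat.{u}).counit)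

/-- The higher direct images of a restriction are sheafified cohomology of fibre products. -/
noncomputable def rightDerivedIso (q : ℕ) :
    res f K ⋙ (dir f K).rightDerived q ≅
      (Sheaf.cohomologyPresheafFunctor.{u} (K.over Y) q ⋙ pre f) ⋙
        presheafToSheaf (K.over Y) AddCommGrpCat.{u} :=
  (SiteBase.rightDerivedPrecompIso (res f K) (dir f K) q).symm ≪≫
    SiteBase.rightDerivedCongr (resDirIso f K).symm q ≪≫
    SiteBase.rightDerivedCompIso (sheafToPresheaf (K.over Y) AddCommGrpCat.{u} ⋙ pre f)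
      (presheafToSheaf (K.over Y) AddCommGrpCat.{u}) q ≪≫
    Functor.isoWhiskerRight
      (SiteBase.rightDerivedCompIso (sheafToPresheaf (K.over Y) AddCommGrpCat.{u}) (pre f) q ≪≫
        Functor.isoWhiskerRight (SiteBase.rightDerivedIsoCohomology q) (pre f)) _

/-- A section of a presheaf killed by sheafification is locally zero. -/
lemma exists_cover_of_toSheafify_eq_zero {D : Type u} [SmallCategory D] {K : GrothendieckTopology D}
    (Q : Dᵒᵖ ⥤ AddCommGrpCat.{u}) {T : D} (x : Q.obj (op T)) (hx : ((toSheafify K Q).app (op T)).hom x = 0) :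
    ∃ R ∈ K T, ∀ ⦃W : D⦄ (g : W ⟶ T), R.arrows g → (Q.map g.op).hom x = 0 :=
  ⟨Presheaf.equalizerSieve (F := Q) x 0,
    Presheaf.equalizerSieve_mem K (toSheafify K Q) x 0 (hx.trans (map_zero _).symm),
    fun _ _ hg => hg.trans (map_zero _)⟩

variable {J J' : GrothendieckTopology C} (h : J' ≤ J) {P : MorphismProperty C}
  {A' : ∀ X : C, ObjectProperty (Sheaf (J'.over X) AddCommGrpCat.{u})}
  [∀ X : C, WSerre.IsWeakSerre (A' X)] (S : CompareSit.Sit (J := J) P A')

include h S in
/-- A class on the cover with equal pullbacks vanishes locally on the base. -/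
theorem exists_cover (hf : P f) (hcov : Sieve.ofArrows (fun _ : PUnit.{u + 1} => X) (fun _ => f) ∈ J Y)
    (F : Sheaf (J'.over Y) AddCommGrpCat.{u}) (hF : A' Y F) (n : ℕ)
    (θ : CohSite.HU F (n + 1) (Over.mk f))
    (hθ : ∀ (W : C) (p q : W ⟶ X) (hW : IsPullback p q f f),
      CohSite.res F (n + 1) (Over.homMk p rfl : Over.mk (p ≫ f) ⟶ Over.mk f) θ =
        CohSite.res F (n + 1) (Over.homMk q hW.w.symm : Over.mk (p ≫ f) ⟶ Over.mk f) θ) :
    ∃ R ∈ J' Y, ∀ ⦃Z : C⦄ (g : Z ⟶ Y), R.arrows g → ∀ (W : C) (p : W ⟶ Z) (q : W ⟶ X), IsPullback p q g f →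
      CohSite.res F (n + 1) (Over.homMk q rfl : Over.mk (q ≫ f) ⟶ Over.mk f) θ = 0 := by
  let u' := Over.pullback f ⋙ Over.map f
  let Q := (pre f).obj (Sheaf.cohomologyPresheaf.{u} F (n + 1))
  let H := (presheafToSheaf (J'.over Y) AddCommGrpCat.{u}).obj Q
  have hH : A' Y H := (A' Y).prop_of_iso ((rightDerivedIso f J' (n + 1)).app F)
    (S.h4 f hf _ (S.h2 f F hF) (n + 1))
  have hsep : Presheaf.IsSheaf (J.over Y) H.obj := S.h3 Y H hH
  let T₁ : Over Y := Over.mk (𝟙 Y)
  let snd₁ : u'.obj T₁ ⟶ Over.mk f := Over.homMk (pullback.snd (𝟙 Y) f) rfl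
  let θ₀ : Q.obj (op T₁) := CohSite.res F (n + 1) snd₁ θ
  have hres : ∀ {a b c : Over Y} (k : a ⟶ b) (l : b ⟶ c) (z : CohSite.HU F (n + 1) c),
      CohSite.res F (n + 1) k (CohSite.res F (n + 1) l z) = CohSite.res F (n + 1) (k ≫ l) z :=
    fun k l z => (ConcreteCategory.congr_hom
      ((Sheaf.cohomologyPresheaf.{u} F (n + 1)).map_comp l.op k.op) z).symm
  let Xf : Over Y := Over.mk f
  let w : Xf ⟶ T₁ := Over.homMk f (Category.comp_id f)
  -- restricted to the cover the class is locally zero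
  have hw : ((toSheafify (J'.over Y) Q).app (op Xf)).hom ((Q.map w.op).hom θ₀) = 0 := by
    obtain ⟨R, hR, hR0⟩ := SiteBase.exists_cover_res_eq_zero F Xf n θ
    refine Presheaf.IsSheaf.isSeparated H.property Xf R hR _ _ fun T g hg => ?_
    refine Eq.trans ?_ (map_zero (H.obj.map g.op).hom).symm
    have hnat := ConcreteCategory.congr_hom ((toSheafify (J'.over Y) Q).naturality g.op)
      ((Q.map w.op).hom θ₀)
    refine hnat.symm.trans ?_
    suffices hz : (Q.map g.op).hom ((Q.map w.op).hom θ₀) = 0 by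
      exact (congrArg ((toSheafify (J'.over Y) Q).app (op T)).hom hz).trans (map_zero _)
    show CohSite.res F (n + 1) (u'.map g) (CohSite.res F (n + 1) (u'.map w) (CohSite.res F (n + 1) snd₁ θ)) = 0
    rw [hres (u'.map w) snd₁ θ]
    let fst' : u'.obj Xf ⟶ Xf := (Over.mapPullbackAdj f).counit.app Xf
    have hp : IsPullback (pullback.fst f f) (pullback.snd f f) f f := IsPullback.of_hasPullback f f
    have h2 : CohSite.res F (n + 1) (u'.map w ≫ snd₁) θ = CohSite.res F (n + 1) fst' θ := by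
      let i : u'.obj Xf ⟶ Over.mk (pullback.fst f f ≫ f) := Over.homMk (𝟙 _)
        ((Category.id_comp _).trans pullback.condition)
      have e1 : u'.map w ≫ snd₁ = i ≫ (Over.homMk (pullback.snd f f) hp.w.symm : Over.mk (pullback.fst f f ≫ f) ⟶ Over.mk f) := by
        apply Over.OverMorphism.ext
        simp [u', w, snd₁, i, Xf, T₁]
      have e2 : fst' = i ≫ (Over.homMk (pullback.fst f f) rfl : Over.mk (pullback.fst f f ≫ f) ⟶ Over.mk f) := by
        apply Over.OverMorphism.ext
        simp [fst', i, Xf, Over.mapPullbackAdj]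
      rw [e1, e2, ← hres i, ← hres i, hθ _ _ _ hp]
    rw [h2, hres]
    have e3 : u'.map g ≫ fst' = (Over.mapPullbackAdj f).counit.app T ≫ g :=
      (Over.mapPullbackAdj f).counit.naturality g
    rw [e3, ← hres _ g, hR0 T g hg, map_zero]
  have h1 : ((toSheafify (J'.over Y) Q).app (op T₁)).hom θ₀ = 0 := by
    refine Presheaf.IsSheaf.isSeparated (A := AddCommGrpCat.{u}) hsep T₁
      ((Sieve.overEquiv T₁).symm (Sieve.ofArrows (fun _ : PUnit.{u + 1} => X) (fun _ => f)))
      (by rw [GrothendieckTopology.mem_over_iff, OrderIso.apply_symm_apply]; exact hcov) _ _ fun T g hg => ?_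
    obtain ⟨-, m, hm⟩ := (Sieve.mem_ofArrows_iff (fun _ : PUnit.{u + 1} => X) (fun _ => f) g.left).1
      ((Sieve.overEquiv_symm_iff _ _).1 hg)
    let t : T ⟶ Xf := Over.homMk m (by
      show m ≫ f = T.hom
      rw [← hm, ← Over.w g]
      exact (Category.comp_id _).symm)
    have ht : t ≫ w = g := Over.OverMorphism.ext hm.symm
    refine Eq.trans ?_ (map_zero (H.obj.map g.op).hom).symm
    rw [← ht, op_comp, H.obj.map_comp]
    have hnat := ConcreteCategory.congr_hom ((toSheafify (J'.over Y) Q).naturality w.op) θ₀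
    exact (congrArg (H.obj.map t.op).hom (hnat.symm.trans hw)).trans (map_zero _)
  obtain ⟨R, hR, hR0⟩ := exists_cover_of_toSheafify_eq_zero Q θ₀ h1
  refine ⟨Sieve.overEquiv T₁ R, (GrothendieckTopology.mem_over_iff _ _).1 hR, fun Z g hg W p q hW => ?_⟩
  have hg' := (Sieve.overEquiv_iff _ _).1 hg
  have h0 : CohSite.res F (n + 1) (u'.map (Over.homMk g : Over.mk (g ≫ T₁.hom) ⟶ T₁))
      (CohSite.res F (n + 1) snd₁ θ) = 0 := hR0 _ hg'
  rw [hres] at h0
  have hgq : p ≫ g ≫ T₁.hom = q ≫ f := by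
    simp only [T₁, Over.mk_hom, Category.comp_id]
    exact hW.w
  let c : Over.mk (q ≫ f) ⟶ u'.obj (Over.mk (g ≫ T₁.hom)) :=
    Over.homMk (pullback.lift p q hgq) (by simp [u', pullback.lift_snd_assoc])
  have e : (Over.homMk q rfl : Over.mk (q ≫ f) ⟶ Over.mk f) =
      c ≫ u'.map (Over.homMk g : Over.mk (g ≫ T₁.hom) ⟶ T₁) ≫ snd₁ := by
    apply Over.OverMorphism.ext
    simp [c, u', snd₁, T₁]
  rw [e, ← hres, h0, map_zero]

end Groth.Agent.SiteCmpLib.CompareClass
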