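import Groth.Agent.SiteBase.DLim.Rlim
import Groth.Agent.SiteCmpLib.Devissage
import Groth.Prelude.Def_CohCx

/-! Derived limits of towers with small cones, and the cones of the tower of truncations. -/

universe w v u v' u'

open CategoryTheory Category Limits Pretriangulated

namespace Groth.Agent.SiteCmpLib.Tower

section Triangulated

variable {T : Type u'} [Category.{v'} T] [Preadditive T] [HasZeroObject T] [HasShift T ℤ]
  [∀ n : ℤ, (shiftFunctor T n).Additive] [Pretriangulated T]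
  {K : ℕ → T} [HasProduct K] {t : ∀ n, K (n + 1) ⟶ K n} {L : T} {a : ∀ n, L ⟶ K n}

/-- The cones of the transition maps beyond `N` have no classes of degree `m` on `S`. -/
def ConesKilled (t : ∀ n, K (n + 1) ⟶ K n) (S : T) (m : ℤ) (N : ℕ) : Prop :=
  ∀ n, N ≤ n → ∃ (C : T) (f : C ⟶ K (n + 1)) (h : K n ⟶ C⟦(1 : ℤ)⟧),
    Triangle.mk f (t n) h ∈ distinguishedTriangles ∧ ∀ φ : S ⟶ C⟦m⟧, φ = 0

lemma eq_zero_of_conesKilled (hL : CohCx.IsRlimVia K t L a) {S : T} {m : ℤ} {N : ℕ}
    (hC : ConesKilled t S m N) (y : S ⟶ L⟦m⟧) (hy : y ≫ (a N)⟦m⟧' = 0) : y = 0 := by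
  have hinj : ∀ n, N ≤ n → ∀ x : S ⟶ (K (n + 1))⟦m⟧, x ≫ (t n)⟦m⟧' = 0 → x = 0 := fun n hn x hx => by
    obtain ⟨C, f, h, hT, hz⟩ := hC n hn
    obtain ⟨z, rfl⟩ := DLim.exact₂_mk hT m x hx
    rw [hz z, zero_comp]
  have hsurj : ∀ n, N ≤ n → ∀ x : S ⟶ (K n)⟦m - 1⟧, ∃ w, w ≫ (t n)⟦m - 1⟧' = x := fun n hn x => by
    obtain ⟨C, f, h, hT, hz⟩ := hC n hn
    refine DLim.exact₃_shift _ hT (m - 1) x ?_
    have := hz (x ≫ h⟦m - 1⟧' ≫ (shiftFunctorAdd' T (1 : ℤ) (m - 1) m (by omega)).inv.app C)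
    rw [← assoc, Preadditive.IsIso.comp_right_eq_zero] at this
    exact this
  refine DLim.rlim_eq_zero hL m (fun b => ?_) y ?_
  · exact DLim.limOne_of_eventually_surjective N (fun n => S ⟶ (K n)⟦m - 1⟧)
      (fun n => Preadditive.rightComp _ ((shiftFunctor T (m - 1)).map (t n))) (fun n hn x => hsurj n hn x) b
  · have hge : ∀ k, y ≫ (a (N + k))⟦m⟧' = 0 := by
      intro k
      induction k with
      | zero => exact hy
      | succ k ih =>
        refine hinj (N + k) (by omega) _ ?_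
        rw [assoc, ← Functor.map_comp]
        exact (congrArg (fun g => y ≫ g⟦m⟧') (DLim.rlim_comp_t hL (N + k))).trans ih
    intro n
    rcases le_or_gt N n with h | h
    · obtain ⟨k, rfl⟩ := Nat.exists_eq_add_of_le h
      exact hge k
    · suffices ∀ k, n + k = N → y ≫ (a n)⟦m⟧' = 0 from this (N - n) (by omega)
      intro k hk
      clear h
      induction k generalizing n with
      | zero => obtain rfl : n = N := hk; exact hy
      | succ k ih =>
        rw [← DLim.rlim_comp_t hL n, Functor.map_comp, ← assoc, ih (n + 1) (by omega), zero_comp]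

end Triangulated

section Trunc

variable {A : Type (u + 1)} [Category.{u} A] [Abelian A] [HasDerivedCategory.{w} A]

open DerivedCategory

lemma toTruncTower_comp (E : DerivedCategory A) (n : ℕ) :
    CohCx.toTruncTower E (n + 1) ≫ CohCx.truncTowerMap E n = CohCx.toTruncTower E n :=
  (DerivedCategory.TStructure.t).π_natTransTruncGEOfLE_app _ _ (by omega) E

lemma isIso_homology_truncTowerMap (E : DerivedCategory A) (n : ℕ) (i : ℤ) (hi : -(n : ℤ) ≤ i) :
    IsIso ((homologyFunctor A i).map (CohCx.truncTowerMap E n)) := by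
  have h₁ := H9Misc.isIso_map_truncGEπ (-(n : ℤ)) i hi E
  have h₂ := H9Misc.isIso_map_truncGEπ (-((n + 1 : ℕ) : ℤ)) i (by omega) E
  exact IsIso.of_isIso_fac_left (hh := h₁) (f := (homologyFunctor A i).map (CohCx.toTruncTower E (n + 1)))
    (by rw [← Functor.map_comp, toTruncTower_comp])

/-- The cone of a transition map of the tower of truncations. -/
lemma exists_trunc_cone (P : ObjectProperty A) [WSerre.IsWeakSerre P] (E : DerivedCategory A)
    (hE : WSerre.cohIn P E) (n : ℕ) :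
    ∃ (C : DerivedCategory A) (f : C ⟶ CohCx.truncTower E (n + 1))
      (h : CohCx.truncTower E n ⟶ C⟦(1 : ℤ)⟧),
      Triangle.mk f (CohCx.truncTowerMap E n) h ∈ distinguishedTriangles ∧ WSerre.cohIn P C ∧
        C.IsGE (-(n + 1 : ℤ)) ∧ C.IsLE (-(n + 1 : ℤ)) := by
  obtain ⟨C, f, h, hT⟩ := distinguished_cocone_triangle₁ (CohCx.truncTowerMap E n)
  have hge : ∀ k : ℕ, DerivedCategory.IsGE (CohCx.truncTower E k) (-(k : ℤ)) := fun k =>
    inferInstanceAs (TStructure.t.IsGE ((TStructure.t.truncGE (-(k : ℤ))).obj E) (-(k : ℤ)))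
  refine ⟨C, f, h, hT, ?_, ?_, ?_⟩
  · exact Devissage.cohIn_obj₂ P (inv_rot_of_distTriang _ hT)
      (Devissage.cohIn_shift P (Devissage.cohIn_truncGE P hE _) _) (Devissage.cohIn_truncGE P hE _)
  · refine (isGE_iff _ _).2 fun i hi => ?_
    have := hge (n + 1); have := hge n
    refine (HomologySequence.exact₁ _ hT (i - 1) i (by omega)).isZero_of_both_zeros ?_ ?_
    · exact (isZero_of_isGE (CohCx.truncTower E n) (-(n : ℤ)) (i - 1) (by omega)).eq_of_src _ _
    · exact (isZero_of_isGE (CohCx.truncTower E (n + 1)) (-((n + 1 : ℕ) : ℤ)) i (by omega)).eq_of_tgt _ _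
  · refine (isLE_iff _ _).2 fun i hi => ?_
    refine (HomologySequence.exact₁ _ hT (i - 1) i (by omega)).isZero_of_both_zeros ?_ ?_
    · rcases eq_or_lt_of_le (show -(n + 1 : ℤ) ≤ i - 1 by omega) with h0 | h0
      · have := hge n
        exact (isZero_of_isGE (CohCx.truncTower E n) (-(n : ℤ)) (i - 1) (by omega)).eq_of_src _ _
      · have := isIso_homology_truncTowerMap E n (i - 1) (by omega)
        have : Epi ((homologyFunctor A (i - 1)).map (Triangle.mk f (CohCx.truncTowerMap E n) h).mor₂) :=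
          inferInstanceAs (Epi ((homologyFunctor A (i - 1)).map (CohCx.truncTowerMap E n)))
        exact (HomologySequence.epi_homologyMap_mor₂_iff _ hT (i - 1) i (by omega)).1 this
    · have := isIso_homology_truncTowerMap E n i (by omega)
      have : Mono ((homologyFunctor A i).map (Triangle.mk f (CohCx.truncTowerMap E n) h).mor₂) :=
        inferInstanceAs (Mono ((homologyFunctor A i).map (CohCx.truncTowerMap E n)))
      exact (HomologySequence.mono_homologyMap_mor₂_iff _ hT i).1 this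

/-- `E` is the derived limit of its truncations as soon as the projections are injective on cohomology. -/
lemma exists_trunc_comparison [∀ K : ℕ → DerivedCategory A, HasProduct K] (E : DerivedCategory A) :
    ∃ (L : DerivedCategory A) (a : ∀ n, L ⟶ CohCx.truncTower E n) (e : E ⟶ L),
      CohCx.IsRlimVia (CohCx.truncTower E) (CohCx.truncTowerMap E) L a ∧
      (∀ n, e ≫ a n = CohCx.toTruncTower E n) ∧
      ((∀ m : ℤ, IsIso ((homologyFunctor A m).map e)) →
        CohCx.IsRlimVia (CohCx.truncTower E) (CohCx.truncTowerMap E) E (CohCx.toTruncTower E)) := by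
  let K := CohCx.truncTower E
  let t := CohCx.truncTowerMap E
  let d : ∏ᶜ K ⟶ ∏ᶜ K := Pi.lift fun n => Pi.π K n - Pi.π K (n + 1) ≫ t n
  obtain ⟨L, p, δ, hT⟩ := distinguished_cocone_triangle₁ d
  let a : ∀ n, L ⟶ K n := fun n => p ≫ Pi.π K n
  have hp : Pi.lift a = p := Pi.hom_ext _ _ fun n => Pi.lift_π _ _
  obtain ⟨e, he⟩ : ∃ e : E ⟶ L, Pi.lift (CohCx.toTruncTower E) = e ≫ p :=
    Triangle.coyoneda_exact₂ _ hT (Pi.lift (CohCx.toTruncTower E)) (Pi.hom_ext _ _ fun n => by
      show (Pi.lift (CohCx.toTruncTower E) ≫ d) ≫ Pi.π K n = 0 ≫ Pi.π K n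
      simp only [d, assoc, Pi.lift_π, Preadditive.comp_sub, zero_comp]
      erw [Pi.lift_π, Pi.lift_π_assoc]
      rw [sub_eq_zero]
      exact (toTruncTower_comp E n).symm)
  refine ⟨L, a, e, ⟨δ, by rw [hp]; exact hT⟩,
    fun n => by rw [← assoc, ← he, Pi.lift_π], fun hiso => ?_⟩
  have : IsIso e := (DerivedCategory.isIso_iff _ e).2 hiso
  let eI : E ≅ L := asIso e
  refine ⟨δ ≫ eI.inv⟦(1 : ℤ)⟧', isomorphic_distinguished _ hT _
    (Triangle.isoMk _ _ eI (Iso.refl _) (Iso.refl _) ?_ ?_ ?_)⟩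
  · exact (comp_id _).trans he
  · exact (comp_id _).trans (id_comp _).symm
  · refine (assoc _ _ _).trans (Eq.trans ?_ (id_comp δ).symm)
    refine (congrArg (δ ≫ ·) ?_).trans (comp_id δ)
    exact (Functor.map_comp _ _ _).symm.trans
      ((congrArg _ eI.inv_hom_id).trans (CategoryTheory.Functor.map_id _ _))

end Trunc

end Groth.Agent.SiteCmpLib.Tower
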