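import Groth.Agent.SiteCmpLib.LocClass
import Groth.Agent.SiteCmpLib.Tower

/-! Derived direct images of objects with cohomology of bounded cohomological dimension. -/

universe u

open CategoryTheory Category Limits Pretriangulated DerivedCategory

attribute [local instance] HasDerivedCategory.standard

namespace Groth.Agent.SiteCmpLib.Bounded

open DerivedAdj TotalRight LocClass

section Basic

variable {B : Type (u + 1)} [Category.{u} B] [Abelian B]

variable (B) in
lemma singleIso (p : ℤ) (M : B) :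
    Nonempty (((singleFunctor B 0).obj M)⟦-p⟧ ≅ (singleFunctor B p).obj M) :=
  ⟨((singleFunctors B).shiftIso (-p) p 0 (by omega)).app M⟩

lemma isLE_truncGE (Z : DerivedCategory B) (n b : ℤ) (hZ : Z.IsLE b) :
    (((TStructure.t (C := B)).truncGE n).obj Z).IsLE b :=
  inferInstanceAs ((TStructure.t (C := B)).IsLE _ b)

/-- Dévissage of bounded objects, keeping track of the upper bound. -/
theorem bounded_induction_le (P : ObjectProperty B) [WSerre.IsWeakSerre P]
    (Q : DerivedCategory B → Prop) (iso : ∀ {X Y}, (X ≅ Y) → Q X → Q Y)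
    (ext : ∀ (T : Triangle (DerivedCategory B)), T ∈ distinguishedTriangles →
      Q T.obj₁ → Q T.obj₃ → Q T.obj₂)
    (X : DerivedCategory B) (a b : ℤ) (ha : X.IsGE a) (hb : X.IsLE b)
    (single : ∀ (n : ℤ) (M : B), n ≤ b → P M → Q ((singleFunctor B n).obj M))
    (hX : WSerre.cohIn P X) : Q X := by
  obtain ⟨k, hk⟩ : ∃ k : ℕ, b ≤ a + k := ⟨(b - a).toNat, by omega⟩
  induction k generalizing X a b with
  | zero =>
    rcases lt_or_ge b a with h | h
    · have hz : IsZero X := by
        refine (DerivedCategory.isGE_iff X a).1 ha |> fun hge => ?_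
        rw [IsZero.iff_id_eq_zero]
        exact (TStructure.t (C := B)).zero _ b a h
      obtain ⟨Z, hZ, hPZ⟩ := P.exists_prop_of_containsZero
      exact iso (((singleFunctor B b).map_isZero hZ).iso hz) (single b Z le_rfl hPZ)
    · have : X.IsLE a := (TStructure.t (C := B)).isLE_of_le X b a (by omega)
      obtain ⟨M, ⟨e⟩⟩ := exists_iso_singleFunctor_obj_of_isGE_of_isLE X a
      exact iso e.symm (single a M h (P.prop_of_iso
        ((homologyFunctor B a).mapIso e ≪≫ (singleFunctorCompHomologyFunctorIso B a).app M) (hX a)))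
  | succ k ih =>
    rcases le_or_gt b (a + k) with h | h
    · exact ih X a b ha hb single hX h
    refine ext _ ((TStructure.t (C := B)).triangleLTGE_distinguished (a + 1) X) ?_ ?_
    · refine ih _ a a (KFlatLib.isGE_truncLT X a (a + 1)) ?_ (fun n M hn hM => single n M (by omega) hM)
        (Devissage.cohIn_truncLT P hX _) (by omega)
      exact inferInstanceAs ((TStructure.t (C := B)).IsLE ((TStructure.t.truncLT (a + 1)).obj X) a)
    · exact ih _ (a + 1) b
        (inferInstanceAs ((TStructure.t (C := B)).IsGE ((TStructure.t.truncGE (a + 1)).obj X) (a + 1)))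
        (isLE_truncGE X (a + 1) b hb) single (Devissage.cohIn_truncGE P hX _) (by omega)

/-- An object `S` with no classes of degree `> d` on `P` has none on bounded objects. -/
lemma hom_eq_zero (P : ObjectProperty B) [WSerre.IsWeakSerre P] {S : DerivedCategory B} (d : ℕ)
    (h : ∀ M : B, P M → ∀ k : ℕ, d < k → ∀ φ : S ⟶ ((singleFunctor B 0).obj M)⟦(k : ℤ)⟧, φ = 0)
    {Z : DerivedCategory B} (a b : ℤ) (ha : Z.IsGE a) (hb : Z.IsLE b) (hZ : WSerre.cohIn P Z)
    (m : ℤ) (hm : b + d < m) (φ : S ⟶ Z⟦m⟧) : φ = 0 := by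
  revert φ
  refine bounded_induction_le P (fun W => ∀ φ : S ⟶ W⟦m⟧, φ = 0)
    (fun e hW φ => ?_) (fun T hT h₁ h₃ φ => ?_) Z a b ha hb (fun p M hp hM φ => ?_) hZ
  · rw [← cancel_mono (e.inv⟦m⟧'), zero_comp]
    exact hW _
  · obtain ⟨ψ, rfl⟩ := DLim.exact₂_shift T hT m φ (h₃ _)
    rw [h₁ ψ, zero_comp]
  · obtain ⟨e⟩ := singleIso B p M
    let i : ((singleFunctor B p).obj M)⟦m⟧ ≅ ((singleFunctor B 0).obj M)⟦(((m - p).toNat : ℕ) : ℤ)⟧ :=
      (shiftFunctor _ m).mapIso e.symm ≪≫
        ((shiftFunctorAdd' (DerivedCategory B) (-p) m _ (by omega)).app _).symm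
    rw [← cancel_mono i.hom, zero_comp]
    exact h M hM _ (by omega) _

end Basic

variable {A : Type (u + 1)} [Category.{u} A] [Abelian A]
  {B : Type (u + 1)} [Category.{u} B] [Abelian B] [IsGrothendieckAbelian.{u} B]
  {D : Type u} [SmallCategory D] {Jt : GrothendieckTopology D} {P : D ⥤ A}
  {F : A ⥤ B} {G : B ⥤ A} [G.Additive] (adj : F ⊣ G)
  (PB : ObjectProperty B) [WSerre.IsWeakSerre PB]

instance hasProduct (K : ℕ → DerivedCategory B) : HasProduct K :=
  haveI := hasProducts B ℕ
  inferInstance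

/-- On a refinement of every covering of `V` the test objects have no classes of degree `> d`
with values in `PB`. -/
def CdBound (Jt : GrothendieckTopology D) (F : A ⥤ B) (P : D ⥤ A) (PB : ObjectProperty B) (V : D) : Prop :=
  ∃ d : ℕ, ∀ T ∈ Jt V, ∃ (ι : Type u) (Y : ι → D) (f : ∀ i, Y i ⟶ V),
    (∀ i, T.arrows (f i)) ∧ Sieve.ofArrows Y f ∈ Jt V ∧
      ∀ (i : ι) (M : B), PB M → ∀ k : ℕ, d < k →
        ∀ φ : tst F P (Y i) ⟶ ((singleFunctor B 0).obj M)⟦(k : ℤ)⟧, φ = 0

/-- The cones of the tower beyond `N` lie in lower and lower degrees. -/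
def SmallCones {K : ℕ → DerivedCategory B} (t : ∀ n, K (n + 1) ⟶ K n) (N : ℕ) (c : ℤ) : Prop :=
  ∀ n, N ≤ n → ∃ (C : DerivedCategory B) (f : C ⟶ K (n + 1)) (h : K n ⟶ C⟦(1 : ℤ)⟧) (a : ℤ),
    Triangle.mk f (t n) h ∈ distinguishedTriangles ∧ WSerre.cohIn PB C ∧ C.IsGE a ∧ C.IsLE (c - n)

include adj in
/-- The main local injectivity statement for derived limits. -/
theorem eq_zero_of_rlim (hP : IsTest Jt P) {K : ℕ → DerivedCategory B} {t : ∀ n, K (n + 1) ⟶ K n}
    {L : DerivedCategory B} {a : ∀ n, L ⟶ K n} (hL : CohCx.IsRlimVia K t L a) (N : ℕ) (c : ℤ)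
    (hK : SmallCones PB t N c) {V : D} (hV : CdBound Jt F P PB V) (j : ℤ)
    (s : P.obj V ⟶ (homologyFunctor A j).obj ((model G).obj L))
    (hs : ∀ n, N ≤ n → s ≫ (homologyFunctor A j).map ((model G).map (a n)) = 0) : s = 0 := by
  obtain ⟨d, hd⟩ := hV
  obtain ⟨M, hNM, hM⟩ : ∃ M : ℕ, N ≤ M ∧ c - M + d < j := ⟨N + (c + d - j + 1).toNat, by omega, by omega⟩
  obtain ⟨hcs, -⟩ := exists_triangulated_model G
  let η : shiftFunctor (DerivedCategory B) j ⋙ model G ⋙ homologyFunctor A 0 ≅
      model G ⋙ homologyFunctor A j :=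
    (Functor.associator _ _ _).symm ≪≫
      Functor.isoWhiskerRight ((model G).commShiftIso j) _ ≪≫ Functor.associator _ _ _ ≪≫
      Functor.isoWhiskerLeft (model G) ((homologyFunctor A 0).shiftIso j 0 j (add_zero j))
  have := eq_zero_homology_model (F := F) adj hP ((a M)⟦j⟧') (V := V) (fun T hT => by
      obtain ⟨ι, Y, f, hf, hcov, hY⟩ := hd T hT
      refine ⟨ι, Y, f, hf, hcov, fun i φ hφ => Tower.eq_zero_of_conesKilled hL (N := M) (fun n hn => ?_) φ hφ⟩
      obtain ⟨C, g, h, b, hT, hC, hb, hc⟩ := hK n (hNM.trans hn)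
      exact ⟨C, g, h, hT, hom_eq_zero PB d (fun X hX k hk => hY i X hX k hk) b (c - n) hb hc hC j (by omega)⟩)
    (s ≫ η.inv.app L) (by
      have h := η.inv.naturality (a M)
      refine (assoc _ _ _).trans ((congrArg (s ≫ ·) h.symm).trans ?_)
      exact (assoc _ _ _).symm.trans ((congrArg (· ≫ _) (hs M hNM)).trans zero_comp))
  rw [← cancel_mono (η.inv.app L), zero_comp]
  exact this

include adj in
theorem isZero_homology_of_rlim (hP : IsTest Jt P) {B' : Set D} (hB : Covers Jt B')
    (hV : ∀ V ∈ B', CdBound Jt F P PB V) {K : ℕ → DerivedCategory B} {t : ∀ n, K (n + 1) ⟶ K n}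
    {L : DerivedCategory B} {a : ∀ n, L ⟶ K n} (hL : CohCx.IsRlimVia K t L a) (N : ℕ) (c : ℤ)
    (hK : SmallCones PB t N c) (j : ℤ)
    (hz : ∀ n, N ≤ n → IsZero ((homologyFunctor A j).obj ((model G).obj (K n)))) :
    IsZero ((homologyFunctor A j).obj ((model G).obj L)) :=
  hP.eq_zero_of_covers hB fun V hVB s => eq_zero_of_rlim adj PB hP hL N c hK (hV V hVB) j s
    fun n hn => (hz n hn).eq_of_tgt _ _

omit [G.Additive] in
/-- The truncations have small cones. -/
lemma smallCones_trunc (E : DerivedCategory B) (hE : WSerre.cohIn PB E) :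
    SmallCones PB (CohCx.truncTowerMap E) 0 (-1) := fun n _ => by
  obtain ⟨C, f, h, hT, hC, h₁, h₂⟩ := Tower.exists_trunc_cone PB E hE n
  exact ⟨C, f, h, _, hT, hC, h₁, (TStructure.t (C := B)).isLE_of_le C (-(n + 1 : ℤ)) (-1 - n) (by omega)⟩

variable {E : Type u} [SmallCategory E] {Js : GrothendieckTopology E} {PS : E ⥤ B}

/-- An object is the derived limit of its truncations under a bound on cohomological dimensions. -/
theorem isRlimVia_trunc (hP : IsTest Js PS) {B' : Set E} (hB : Covers Js B')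
    (hV : ∀ V ∈ B', CdBound Js (𝟭 B) PS PB V) (X : DerivedCategory B) (hX : WSerre.cohIn PB X) :
    CohCx.IsRlimVia (CohCx.truncTower X) (CohCx.truncTowerMap X) X (CohCx.toTruncTower X) := by
  obtain ⟨L, a, e, hL, hea, hfin⟩ := Tower.exists_trunc_comparison X
  refine hfin fun m => ?_
  let H := homologyFunctor B m
  let i : ∀ Z, H.obj ((model (𝟭 B)).obj Z) ≅ H.obj Z := fun Z => H.mapIso ((modelId B).app Z)
  -- a class killed by every projection is zero
  have kill : ∀ (V : E), V ∈ B' → ∀ (s : PS.obj V ⟶ H.obj L) (N : ℕ),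
      (∀ n, N ≤ n → s ≫ H.map (a n) = 0) → s = 0 := fun V hVB s N hs => by
    have := eq_zero_of_rlim Adjunction.id PB hP hL N (-1)
      (fun n hn => smallCones_trunc PB X hX n (Nat.zero_le n)) (hV V hVB) m (s ≫ (i L).inv)
      (fun n hn => by
        have h : H.map ((modelId B).inv.app L) ≫ H.map ((model (𝟭 B)).map (a n)) =
            H.map (a n) ≫ H.map ((modelId B).inv.app _) := by
          exact (H.map_comp _ _).symm.trans
            ((congrArg H.map ((modelId B).inv.naturality (a n)).symm).trans (H.map_comp _ _))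
        refine (assoc _ _ _).trans ((congrArg (s ≫ ·) h).trans ?_)
        exact (assoc _ _ _).symm.trans ((congrArg (· ≫ _) (hs n hn)).trans zero_comp))
    rw [← cancel_mono (i L).inv, zero_comp]
    exact this
  -- the projections are injective in high enough degrees
  let M : ℕ := (-m).toNat
  have hmono : Mono (H.map (a M)) := hP.mono_of_covers hB _ fun V hVB s hs => kill V hVB s M fun n hn => by
    induction n, hn using Nat.le_induction with
    | base => exact hs
    | succ n hn ih =>
      have := Tower.isIso_homology_truncTowerMap X n m (by omega)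
      rw [← cancel_mono (H.map (CohCx.truncTowerMap X n)), zero_comp, assoc, ← H.map_comp,
        DLim.rlim_comp_t hL n]
      exact ih
  have hπ : IsIso (H.map e ≫ H.map (a M)) := by
    rw [← H.map_comp, hea]
    exact H9Misc.isIso_map_truncGEπ (-(M : ℤ)) m (by omega) X
  have : IsIso (H.map (a M)) :=
    have : Epi (H.map (a M)) := epi_of_epi (H.map e) _
    isIso_of_mono_of_epi _
  exact IsIso.of_isIso_comp_right (H.map e) (H.map (a M))

end Groth.Agent.SiteCmpLib.Bounded
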