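import Groth.Agent.SiteBase.Horseshoe
import Mathlib.CategoryTheory.Abelian.RightDerived
import Mathlib.CategoryTheory.Abelian.Refinements

/-!
# A left exact functor applied to a complex of injectives

For a complex `K` of injective objects and a left exact functor `T` there is an exact sequence
`0 ⟶ R¹T(Z^q) ⟶ H^{q+1}(TK) ⟶ T(H^{q+1}K)`, and `R^{p+1}T(Z^q)` compares to `R^pT(Z^{q+1})`.
-/

set_option backward.isDefEq.respectTransparency false

universe v' u' v u

open CategoryTheory CategoryTheory.Limits HomologicalComplex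

namespace Groth.Agent.SiteCmpLib.CxDerived

variable {A : Type u} [Category.{v} A] [Abelian A] [HasInjectiveResolutions A]
  {B : Type u'} [Category.{v'} B] [Abelian B]
  (T : A ⥤ B) [T.Additive] [PreservesFiniteLimits T]
  (K : CochainComplex A ℕ)

/-- Boundaries in degree `q + 1`. -/
noncomputable abbrev Bd (q : ℕ) : A := kernel (K.homologyπ (q + 1))

/-- The differential onto boundaries. -/
noncomputable def toBd (q : ℕ) : K.X q ⟶ Bd K q :=
  kernel.lift _ (K.toCycles q (q + 1)) (K.toCycles_comp_homologyπ _ _)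

@[reassoc]
lemma toBd_ι (q : ℕ) : toBd K q ≫ kernel.ι _ = K.toCycles q (q + 1) := kernel.lift_ι _ _ _

instance epi_toBd (q : ℕ) : Epi (toBd K q) :=
  (ShortComplex.exact_iff_epi_kernel_lift _).1
    (ShortComplex.exact_of_g_is_cokernel (ShortComplex.mk _ _ (K.toCycles_comp_homologyπ q (q + 1)))
      (K.homologyIsCokernel q (q + 1) (CochainComplex.prev_nat_succ q)))

lemma iCycles_toBd (q : ℕ) : K.iCycles q ≫ toBd K q = 0 := by
  rw [← cancel_mono (kernel.ι _), Category.assoc, toBd_ι, zero_comp,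
    ← cancel_mono (K.iCycles (q + 1)), Category.assoc, toCycles_i, iCycles_d, zero_comp]

/-- `0 ⟶ Z^q ⟶ K^q ⟶ B^{q+1} ⟶ 0`. -/
noncomputable abbrev seqB (q : ℕ) : ShortComplex A :=
  ShortComplex.mk (K.iCycles q) (toBd K q) (iCycles_toBd K q)

lemma seqB_shortExact (q : ℕ) : (seqB K q).ShortExact := by
  refine ShortComplex.ShortExact.mk' ((ShortComplex.exact_iff_exact_up_to_refinements _).2 fun W x hx => ?_)
    (inferInstanceAs (Mono (K.iCycles q))) (epi_toBd K q)
  refine ⟨W, 𝟙 _, inferInstance, K.liftCycles x (q + 1) (CochainComplex.next ℕ q) ?_, ?_⟩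
  · rw [← K.toCycles_i q (q + 1), ← toBd_ι K q]
    simp only [← Category.assoc]
    erw [hx]
    simp
  · erw [liftCycles_i]
    simp

/-- `0 ⟶ B^{q+1} ⟶ Z^{q+1} ⟶ H^{q+1} ⟶ 0`. -/
noncomputable abbrev seqH (q : ℕ) : ShortComplex A :=
  ShortComplex.mk (kernel.ι (K.homologyπ (q + 1))) (K.homologyπ (q + 1)) (kernel.condition _)

lemma seqH_shortExact (q : ℕ) : (seqH K q).ShortExact :=
  ShortComplex.ShortExact.mk' (ShortComplex.exact_of_f_is_kernel _ (kernelIsKernel _))
    (inferInstanceAs (Mono (kernel.ι _))) (inferInstanceAs (Epi (K.homologyπ (q + 1))))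

/-- `T Z^j` is the object of cycles of `T K`. -/
noncomputable def cyclesIso (j : ℕ) :
    T.obj (K.cycles j) ≅ ((T.mapHomologicalComplex _).obj K).cycles j :=
  IsLimit.conePointUniqueUpToIso
    (KernelFork.mapIsLimit _ (K.cyclesIsKernel j (j + 1) (CochainComplex.next ℕ j)) T)
    (((T.mapHomologicalComplex _).obj K).cyclesIsKernel j (j + 1) (CochainComplex.next ℕ j))

@[reassoc]
lemma cyclesIso_hom_i (j : ℕ) :
    (cyclesIso T K j).hom ≫ ((T.mapHomologicalComplex _).obj K).iCycles j = T.map (K.iCycles j) :=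
  IsLimit.conePointUniqueUpToIso_hom_comp
    (KernelFork.mapIsLimit _ (K.cyclesIsKernel j (j + 1) (CochainComplex.next ℕ j)) T)
    (((T.mapHomologicalComplex _).obj K).cyclesIsKernel j (j + 1) (CochainComplex.next ℕ j))
    WalkingParallelPair.zero

@[reassoc]
lemma map_toCycles_cyclesIso (q : ℕ) :
    T.map (K.toCycles q (q + 1)) ≫ (cyclesIso T K (q + 1)).hom =
      ((T.mapHomologicalComplex _).obj K).toCycles q (q + 1) := by
  rw [← cancel_mono (iCycles _ (q + 1)), Category.assoc, cyclesIso_hom_i, toCycles_i,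
    ← T.map_comp, toCycles_i]
  rfl

/-- The comparison map `H^j(TK) ⟶ T H^j(K)`. -/
noncomputable def θ (q : ℕ) :
    ((T.mapHomologicalComplex _).obj K).homology (q + 1) ⟶ T.obj (K.homology (q + 1)) :=
  (((T.mapHomologicalComplex _).obj K).homologyIsCokernel q (q + 1) (CochainComplex.prev_nat_succ q)).desc
    (CokernelCofork.ofπ ((cyclesIso T K (q + 1)).inv ≫ T.map (K.homologyπ (q + 1))) (by
      rw [← map_toCycles_cyclesIso, Category.assoc, Iso.hom_inv_id_assoc, ← T.map_comp,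
        toCycles_comp_homologyπ, T.map_zero]))

@[reassoc]
lemma π_θ (q : ℕ) : ((T.mapHomologicalComplex _).obj K).homologyπ (q + 1) ≫ θ T K q =
    (cyclesIso T K (q + 1)).inv ≫ T.map (K.homologyπ (q + 1)) :=
  Cofork.IsColimit.π_desc
    (((T.mapHomologicalComplex _).obj K).homologyIsCokernel q (q + 1) (CochainComplex.prev_nat_succ q))

variable (Δ : RDer.DerivedLES T)

/-- Connecting map `T B^{q+1} ⟶ R¹T Z^q`. -/
noncomputable def δ₀ (q : ℕ) : T.obj (Bd K q) ⟶ (T.rightDerived 1).obj (K.cycles q) :=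
  T.rightDerivedZeroIsoSelf.inv.app _ ≫ Δ.δ (seqB K q) (seqB_shortExact K q) 0 1 rfl

lemma exact_δ₀ (q : ℕ) {W : B} (x : W ⟶ T.obj (Bd K q)) (hx : x ≫ δ₀ T K Δ q = 0) :
    ∃ (W' : B) (π : W' ⟶ W) (_ : Epi π) (y : W' ⟶ T.obj (K.X q)),
      π ≫ x = y ≫ T.map (toBd K q) := by
  obtain ⟨W', π, hπ, y, hy⟩ := (ShortComplex.exact_iff_exact_up_to_refinements _).1
    (Δ.exact₃ (seqB K q) (seqB_shortExact K q) 0 1 rfl)
    (x ≫ T.rightDerivedZeroIsoSelf.inv.app _) ((Category.assoc _ _ _).trans hx)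
  refine ⟨W', π, hπ, y ≫ T.rightDerivedZeroIsoSelf.hom.app _, ?_⟩
  have h := congrArg (fun t => t ≫ T.rightDerivedZeroIsoSelf.hom.app (Bd K q)) hy
  have n := T.rightDerivedZeroIsoSelf.hom.naturality (toBd K q)
  simp only [Category.assoc] at h ⊢
  erw [Iso.inv_hom_id_app, Category.comp_id] at h
  erw [h, n]

lemma comp_δ₀ (q : ℕ) : T.map (toBd K q) ≫ δ₀ T K Δ q = 0 := by
  have h := Δ.comp_δ (seqB K q) (seqB_shortExact K q) 0 1 rfl
  have n := T.rightDerivedZeroIsoSelf.inv.naturality (toBd K q)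
  rw [δ₀, ← Category.assoc]
  erw [n, Category.assoc, h, comp_zero]

variable [∀ j, Injective (K.X j)]

instance epi_δ₀ (q : ℕ) : Epi (δ₀ T K Δ q) := by
  have : Epi (Δ.δ (seqB K q) (seqB_shortExact K q) 0 1 rfl) :=
    (Δ.exact₁ (seqB K q) (seqB_shortExact K q) 0 1 rfl).epi_f
      ((T.isZero_rightDerived_obj_injective_succ 0 (K.X q)).eq_of_tgt _ _)
  unfold δ₀
  exact epi_comp _ _

/-- `R¹T(Z^q) ⟶ H^{q+1}(TK)`. -/
noncomputable def j (q : ℕ) :
    (T.rightDerived 1).obj (K.cycles q) ⟶ ((T.mapHomologicalComplex _).obj K).homology (q + 1) :=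
  let S := ShortComplex.mk _ _ (comp_δ₀ T K Δ q)
  have hS : S.Exact := (ShortComplex.exact_iff_exact_up_to_refinements _).2 fun W x hx =>
    exact_δ₀ T K Δ q x hx
  have : Epi S.g := epi_δ₀ T K Δ q
  hS.desc (T.map (kernel.ι _) ≫ (cyclesIso T K (q + 1)).hom ≫
    ((T.mapHomologicalComplex _).obj K).homologyπ (q + 1)) (by
      show T.map (toBd K q) ≫ _ = 0
      rw [← Category.assoc, ← T.map_comp, toBd_ι, map_toCycles_cyclesIso_assoc,
        toCycles_comp_homologyπ])

@[reassoc]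
lemma δ₀_j (q : ℕ) : δ₀ T K Δ q ≫ j T K Δ q = T.map (kernel.ι _) ≫
    (cyclesIso T K (q + 1)).hom ≫ ((T.mapHomologicalComplex _).obj K).homologyπ (q + 1) := by
  unfold j
  extract_lets S hS this
  exact hS.g_desc _ _

instance mono_j (q : ℕ) : Mono (j T K Δ q) := by
  refine Preadditive.mono_of_cancel_zero _ fun {W} t ht => ?_
  obtain ⟨W₁, π₁, _, x, hx⟩ := surjective_up_to_refinements_of_epi (δ₀ T K Δ q) t
  have h0 : (x ≫ T.map (kernel.ι _) ≫ (cyclesIso T K (q + 1)).hom) ≫
      ((T.mapHomologicalComplex _).obj K).homologyπ (q + 1) = 0 := by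
    simp only [Category.assoc]
    rw [← δ₀_j T K Δ q, ← Category.assoc, ← hx, Category.assoc, ht, comp_zero]
  have hex : (ShortComplex.mk _ _
      (((T.mapHomologicalComplex _).obj K).toCycles_comp_homologyπ q (q + 1))).Exact :=
    ShortComplex.exact_of_g_is_cokernel _
      (((T.mapHomologicalComplex _).obj K).homologyIsCokernel q (q + 1) (CochainComplex.prev_nat_succ q))
  obtain ⟨W₂, π₂, _, y, hy⟩ := (ShortComplex.exact_iff_exact_up_to_refinements _).1 hex _ h0
  have hy' : π₂ ≫ x = y ≫ T.map (toBd K q) := by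
    refine (cancel_mono (T.map (kernel.ι (K.homologyπ (q + 1))))).1
      ((cancel_mono (cyclesIso T K (q + 1)).hom).1 ?_)
    have e := map_toCycles_cyclesIso T K q
    rw [← toBd_ι K q, T.map_comp, Category.assoc] at e
    simp only [Category.assoc]
    rw [e]
    exact hy
  rw [← cancel_epi π₁, ← cancel_epi π₂, hx, ← Category.assoc, hy', Category.assoc, comp_δ₀,
    comp_zero, comp_zero, comp_zero]

lemma j_θ (q : ℕ) : j T K Δ q ≫ θ T K q = 0 := by
  rw [← cancel_epi (δ₀ T K Δ q), δ₀_j_assoc, π_θ, Iso.hom_inv_id_assoc, ← T.map_comp,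
    kernel.condition, T.map_zero, comp_zero]

lemma exact_j_θ (q : ℕ) : (ShortComplex.mk _ _ (j_θ T K Δ q)).Exact := by
  refine (ShortComplex.exact_iff_exact_up_to_refinements _).2 fun W x hx => ?_
  obtain ⟨W₁, π₁, hπ, z, hz⟩ := surjective_up_to_refinements_of_epi
    (((T.mapHomologicalComplex _).obj K).homologyπ (q + 1)) x
  have h0 : (z ≫ (cyclesIso T K (q + 1)).inv) ≫ T.map (K.homologyπ (q + 1)) = 0 := by
    rw [Category.assoc, ← π_θ, ← Category.assoc, ← hz, Category.assoc]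
    exact (congrArg (π₁ ≫ ·) hx).trans comp_zero
  obtain ⟨y, hy⟩ := KernelFork.IsLimit.lift'
    (KernelFork.mapIsLimit _ (kernelIsKernel (K.homologyπ (q + 1))) T) _ h0
  refine ⟨W₁, π₁, hπ, y ≫ δ₀ T K Δ q, ?_⟩
  have hy' : y ≫ T.map (kernel.ι _) = z ≫ (cyclesIso T K (q + 1)).inv := hy
  show π₁ ≫ x = (y ≫ δ₀ T K Δ q) ≫ j T K Δ q
  rw [Category.assoc, δ₀_j, ← Category.assoc, hy', Category.assoc, Iso.inv_hom_id_assoc]
  exact hz

include Δ in
lemma mono_θ (q : ℕ) (h : IsZero ((T.rightDerived 1).obj (K.cycles q))) : Mono (θ T K q) :=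
  (exact_j_θ T K Δ q).mono_g (h.eq_of_src _ _)

include Δ in
lemma isIso_δ (q p : ℕ) : IsIso (Δ.δ (seqB K q) (seqB_shortExact K q) (p + 1) (p + 2) rfl) := by
  have := (Δ.exact₃ (seqB K q) (seqB_shortExact K q) (p + 1) (p + 2) rfl).mono_g
    ((T.isZero_rightDerived_obj_injective_succ p (K.X q)).eq_of_src _ _)
  have := (Δ.exact₁ (seqB K q) (seqB_shortExact K q) (p + 1) (p + 2) rfl).epi_f
    ((T.isZero_rightDerived_obj_injective_succ (p + 1) (K.X q)).eq_of_tgt _ _)
  exact isIso_of_mono_of_epi (Δ.δ (seqB K q) (seqB_shortExact K q) (p + 1) (p + 2) rfl)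

include Δ in
/-- One dimension shift, using only vanishing in degree `p - 1`. -/
lemma exists_mono_succ (q p : ℕ) (h0 : p = 0 → Epi (T.map (K.homologyπ (q + 1))))
    (h : p ≠ 0 → IsZero ((T.rightDerived p).obj (K.homology (q + 1)))) :
    ∃ f : (T.rightDerived (p + 2)).obj (K.cycles q) ⟶
      (T.rightDerived (p + 1)).obj (K.cycles (q + 1)), Mono f := by
  have := isIso_δ T K Δ q p
  have : Mono ((T.rightDerived (p + 1)).map (seqH K q).f) := by
    refine (Δ.exact₁ (seqH K q) (seqH_shortExact K q) p (p + 1) rfl).mono_g ?_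
    cases p with
    | zero =>
      have := h0 rfl
      have : Epi ((T.rightDerived 0).map (seqH K q).g) := by
        have he : (T.rightDerived 0).map (seqH K q).g = T.rightDerivedZeroIsoSelf.hom.app _ ≫
            T.map (K.homologyπ (q + 1)) ≫ T.rightDerivedZeroIsoSelf.inv.app _ := by
          exact ((congrArg (T.rightDerivedZeroIsoSelf.hom.app (K.cycles (q + 1)) ≫ ·)
            (T.rightDerivedZeroIsoSelf.inv.naturality (K.homologyπ (q + 1)))).trans
            (Iso.hom_inv_id_app_assoc _ _ _)).symm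
        rw [he]
        infer_instance
      exact (cancel_epi ((T.rightDerived 0).map (seqH K q).g)).1
        ((Δ.comp_δ (seqH K q) (seqH_shortExact K q) 0 1 rfl).trans comp_zero.symm)
    | succ p => exact (h (Nat.succ_ne_zero p)).eq_of_src _ _
  exact ⟨inv (Δ.δ (seqB K q) (seqB_shortExact K q) (p + 1) (p + 2) rfl) ≫
    (T.rightDerived (p + 1)).map (seqH K q).f,
    mono_comp' inferInstance (inferInstanceAs (Mono ((T.rightDerived (p + 1)).map (seqH K q).f)))⟩

include Δ in
/-- Iterated dimension shift. -/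
lemma exists_mono_shift (m : ℕ) (h0 : ∀ i, i + 1 ≤ m → Epi (T.map (K.homologyπ (i + 1))))
    (h : ∀ i p, 1 ≤ p → i + p + 1 ≤ m → IsZero ((T.rightDerived p).obj (K.homology (i + 1)))) :
    ∀ q p, q + p = m → ∃ f : (T.rightDerived (p + 1)).obj (K.cycles q) ⟶
      (T.rightDerived 1).obj (K.cycles m), Mono f := by
  intro q p
  induction p generalizing q with
  | zero => intro hqm; obtain rfl : q = m := hqm; exact ⟨𝟙 _, inferInstance⟩
  | succ p ih =>
    intro hqm
    obtain ⟨f, hf⟩ := exists_mono_succ T K Δ q p (fun hp => h0 q (by omega))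
      (fun hp => h q p (Nat.pos_of_ne_zero hp) (by omega))
    obtain ⟨g, hg⟩ := ih (q + 1) (by omega)
    exact ⟨f ≫ g, mono_comp _ _⟩

include Δ in
/-- If `K` is exact in degrees `1, …, q` then `R^{q+1}T(Z⁰) ≅ R¹T(Z^q)`. -/
lemma nonempty_iso_of_exact (m : ℕ) (h : ∀ i, i + 1 ≤ m → IsZero (K.homology (i + 1))) :
    ∀ q p, q + p = m →
      Nonempty ((T.rightDerived (p + 1)).obj (K.cycles q) ≅ (T.rightDerived 1).obj (K.cycles m)) := by
  intro q p
  induction p generalizing q with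
  | zero => intro hqm; obtain rfl : q = m := hqm; exact ⟨Iso.refl _⟩
  | succ p ih =>
    intro hqm
    obtain ⟨g⟩ := ih (q + 1) (by omega)
    have := isIso_δ T K Δ q p
    have hz := h q (by omega)
    have : IsIso (kernel.ι (K.homologyπ (q + 1))) :=
      ⟨kernel.lift _ (𝟙 _) (hz.eq_of_tgt _ _), by rw [← cancel_mono (kernel.ι _), Category.assoc,
        kernel.lift_ι, Category.comp_id, Category.id_comp], kernel.lift_ι _ _ _⟩
    exact ⟨(asIso (Δ.δ (seqB K q) (seqB_shortExact K q) (p + 1) (p + 2) rfl)).symm ≪≫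
      (T.rightDerived (p + 1)).mapIso (asIso (kernel.ι (K.homologyπ (q + 1)))) ≪≫ g⟩

include Δ in
/-- If `K` is exact in degrees `1, …, q + 1` then `R^{q+1}T(Z⁰) ≅ H^{q+1}(TK)`. -/
lemma nonempty_iso_homology_of_exact (q : ℕ) (h : ∀ i, i ≤ q → IsZero (K.homology (i + 1))) :
    Nonempty ((T.rightDerived (q + 1)).obj (K.cycles 0) ≅
      ((T.mapHomologicalComplex _).obj K).homology (q + 1)) := by
  obtain ⟨e⟩ := nonempty_iso_of_exact T K Δ q (fun i hi => h i (by omega)) 0 q (zero_add q)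
  have : Epi (j T K Δ q) :=
    (exact_j_θ T K Δ q).epi_f ((T.map_isZero (h q le_rfl)).eq_of_tgt _ _)
  have : IsIso (j T K Δ q) := isIso_of_mono_of_epi _
  exact ⟨e ≪≫ asIso (j T K Δ q)⟩

end Groth.Agent.SiteCmpLib.CxDerived
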