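import Groth.Agent.SiteCmpLib.LerayStep
import Groth.Agent.SiteBase.CofreeFam
import Groth.Agent.SiteBase.DerivedPrecomp
import Groth.Prelude.Def_SiteCmp

/-!
# Two topologies on the slice categories
-/

set_option backward.isDefEq.respectTransparency false

universe u

open CategoryTheory CategoryTheory.Limits Opposite

namespace Groth.Agent.SiteCmpLib.EpsOver

variable {C : Type u} [SmallCategory C] {J J' : GrothendieckTopology C}

section General

variable (h : J' ≤ J)

noncomputable abbrev ep : Sheaf J AddCommGrpCat.{u} ⥤ Sheaf J' AddCommGrpCat.{u} :=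
  SiteCmp.epsSh h AddCommGrpCat.{u}

noncomputable abbrev adj : SiteCmp.epsShInv h AddCommGrpCat.{u} ⊣ ep h :=
  SiteCmp.epsShAdj h AddCommGrpCat.{u}

instance full_ep : (ep h).Full where
  map_surjective f := ⟨⟨f.hom⟩, Sheaf.hom_ext rfl⟩

instance faithful_ep : (ep h).Faithful where
  map_injective {_ _} f g hfg := Sheaf.hom_ext (by
    exact congrArg (fun t => t.hom) hfg)

instance isIso_counit : IsIso (adj h).counit := inferInstance

instance additive_ep : (ep h).Additive where
  map_add := rfl

instance preservesLimits_ep : PreservesFiniteLimits (ep h) :=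
  have := (adj h).rightAdjoint_preservesLimits
  inferInstance

instance preservesFiniteColimits_inv : PreservesFiniteColimits (SiteCmp.epsShInv h AddCommGrpCat.{u}) :=
  have := (adj h).leftAdjoint_preservesColimits
  inferInstance

instance preservesFiniteLimits_inv : PreservesFiniteLimits (SiteCmp.epsShInv h AddCommGrpCat.{u}) :=
  haveI := SiteCmp.idContinuous h
  Functor.sheafPullbackConstruction.preservesFiniteLimits (𝟭 C) AddCommGrpCat.{u} J' J

instance additive_inv : (SiteCmp.epsShInv h AddCommGrpCat.{u}).Additive := (adj h).left_adjoint_additive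

instance preservesInjective_ep : (ep h).PreservesInjectiveObjects where
  injective_obj {I} hI :=
    have : (SiteCmp.epsShInv h AddCommGrpCat.{u}).PreservesMonomorphisms := inferInstance
    Injective.injective_of_adjoint (adj h) I

/-- A coarse sheaf satisfying the fine sheaf condition has invertible unit. -/
lemma isIso_unit_of_isSheaf (H : Sheaf J' AddCommGrpCat.{u}) (hH : Presheaf.IsSheaf J H.obj) :
    IsIso ((adj h).unit.app H) :=
  LerayStep.isIso_unit_of_iso (adj h) (F := ⟨H.obj, hH⟩) (G := H)
    ((fullyFaithfulSheafToPresheaf J' AddCommGrpCat.{u}).preimageIso (Iso.refl _))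

/-- If the inverse image vanishes then sections vanish locally for the fine topology. -/
lemma exists_cover_eq_zero (H : Sheaf J' AddCommGrpCat.{u})
    (hH : IsZero ((SiteCmp.epsShInv h AddCommGrpCat.{u}).obj H)) {U : C} (s : H.obj.obj (op U)) :
    ∃ S ∈ J U, ∀ ⦃W : C⦄ (g : W ⟶ U), S.arrows g → (H.obj.map g.op).hom s = 0 := by
  have hz : toSheafify J H.obj = 0 := by
    let G := (presheafToSheaf J AddCommGrpCat.{u}).obj H.obj
    let φ : H ⟶ (ep h).obj G := ⟨toSheafify J H.obj⟩
    have : φ = 0 := ((adj h).homEquiv H G).symm.injective (hH.eq_of_src _ _)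
    exact congrArg (fun t => t.hom) this
  refine ⟨Presheaf.equalizerSieve (F := H.obj) s 0,
    Presheaf.equalizerSieve_mem J (toSheafify J H.obj) s 0 ?_, fun W g hg => hg.trans (map_zero _)⟩
  rw [hz]
  rfl

end General

/-- A section vanishing on a covering family vanishes. -/
lemma eq_zero_of_ofArrows {X : C} (H : Sheaf (J'.over X) AddCommGrpCat.{u}) {U : Over X}
    (s : H.obj.obj (op U)) {ι : Type u} {V : ι → C} {v : ∀ j, V j ⟶ U.left}
    (hv : Sieve.ofArrows V v ∈ J' U.left)
    (hs : ∀ (j : ι) (T : Over X) (g : T ⟶ U) (q : T.left ⟶ V j), q ≫ v j = g.left → IsIso q →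
      (H.obj.map g.op).hom s = 0) : s = 0 := by
  refine Presheaf.IsSheaf.isSeparated H.property U ((Sieve.overEquiv U).symm (Sieve.ofArrows V v))
    (by rw [GrothendieckTopology.mem_over_iff, OrderIso.apply_symm_apply]; exact hv) s 0 fun T g hg => ?_
  obtain ⟨j, m, hm⟩ := Sieve.mem_ofArrows_iff _ _ _ |>.1 ((Sieve.overEquiv_symm_iff _ _).1 hg)
  let T' : Over X := Over.mk (v j ≫ U.hom)
  let g' : T' ⟶ U := Over.homMk (v j)
  let k : T ⟶ T' := Over.homMk m (by
    show m ≫ v j ≫ U.hom = T.hom
    rw [← Category.assoc, ← hm, Over.w g])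
  have hk : k ≫ g' = g := Over.OverMorphism.ext hm.symm
  have h0 : (H.obj.map g'.op).hom s = 0 :=
    hs j T' g' (𝟙 _) (Category.id_comp (v j)) inferInstance
  rw [map_zero, ← hk, op_comp, H.obj.map_comp]
  exact (congrArg (H.obj.map k.op).hom h0).trans (map_zero _)

section Over

variable {X Y : C} (f : X ⟶ Y)

/-- Restriction along `f`. -/
noncomputable abbrev res (J : GrothendieckTopology C) :
    Sheaf (J.over Y) AddCommGrpCat.{u} ⥤ Sheaf (J.over X) AddCommGrpCat.{u} :=
  CohSite.push (J.over Y) (J.over X) (Over.map f)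

/-- Direct image along `f`. -/
noncomputable abbrev dir (J : GrothendieckTopology C) :
    Sheaf (J.over X) AddCommGrpCat.{u} ⥤ Sheaf (J.over Y) AddCommGrpCat.{u} :=
  (Over.map f).sheafPushforwardCocontinuous AddCommGrpCat.{u} (J.over X) (J.over Y)

noncomputable abbrev dirAdj (J : GrothendieckTopology C) : res f J ⊣ dir f J :=
  (Over.map f).sheafAdjunctionCocontinuous AddCommGrpCat.{u} (J.over X) (J.over Y)

instance preservesFiniteColimits_res : PreservesFiniteColimits (res f J) :=
  have := (dirAdj f J).leftAdjoint_preservesColimits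
  inferInstance

instance preservesFiniteLimits_res : PreservesFiniteLimits (res f J) :=
  have : PreservesFiniteLimits (res f J ⋙ sheafToPresheaf (J.over X) AddCommGrpCat.{u}) :=
    preservesFiniteLimits_of_natIso
      ((Over.map f).sheafPushforwardContinuousCompSheafToPresheafIso AddCommGrpCat.{u} (J.over X) (J.over Y)).symm
  preservesFiniteLimits_of_reflects_of_preserves _ (sheafToPresheaf (J.over X) AddCommGrpCat.{u})

instance additive_res : (res f J).Additive where
  map_add := rfl

instance additive_dir : (dir f J).Additive := (dirAdj f J).right_adjoint_additive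

instance preservesFiniteLimits_dir : PreservesFiniteLimits (dir f J) :=
  have := (dirAdj f J).rightAdjoint_preservesLimits
  inferInstance

instance preservesInjective_dir : (dir f J).PreservesInjectiveObjects where
  injective_obj {I} hI :=
    have : (res f J).PreservesMonomorphisms := inferInstance
    Injective.injective_of_adjoint (dirAdj f J) I

instance preservesInjective_res : (res f J).PreservesInjectiveObjects where
  injective_obj {I} hI := by
    have : Injective I.obj :=
      Injective.injective_of_adjoint (sheafificationAdjunction (J.over Y) AddCommGrpCat.{u}) I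
    have h1 : Injective ((Over.forget (Over.mk f)).op ⋙ I.obj) :=
      SiteBase.injective_presheaf_over (Over.mk f) I.obj
    let E := (Over.mk f).iteratedSliceEquiv
    have hinj : Injective ((Over.map f).op ⋙ I.obj) := by
      have h2 : Injective (E.inverse.op ⋙ (Over.forget (Over.mk f)).op ⋙ I.obj) :=
        Injective.injective_of_adjoint (E.op.congrLeft (E := AddCommGrpCat.{u})).symm.toAdjunction _
      exact Injective.of_iso (Iso.refl _) h2
    refine ⟨fun {P P'} g a ha => ?_⟩
    have : Mono a.hom := (sheafToPresheaf (J.over X) AddCommGrpCat.{u}).map_mono a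
    have hJ : Injective ((res f J).obj I).obj := hinj
    obtain ⟨l, hl⟩ := hJ.factors g.hom a.hom
    exact ⟨⟨l⟩, (sheafToPresheaf (J.over X) AddCommGrpCat.{u}).map_injective hl⟩

variable (h : J' ≤ J)

/-- Direct images commute with the change of topology. -/
noncomputable def dirEpIso :
    ep (SiteCmp.over_le h X) ⋙ dir f J' ≅ dir f J ⋙ ep (SiteCmp.over_le h Y) :=
  NatIso.ofComponents (fun F => (fullyFaithfulSheafToPresheaf (J'.over Y) AddCommGrpCat.{u}).preimageIso
    (Iso.refl _)) (fun φ => by apply Sheaf.hom_ext; exact (Category.comp_id _).trans (Category.id_comp _).symm)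

/-- Restriction commutes with the change of topology. -/
noncomputable def resEpIso :
    ep (SiteCmp.over_le h Y) ⋙ res f J' ≅ res f J ⋙ ep (SiteCmp.over_le h X) :=
  NatIso.ofComponents (fun F => (fullyFaithfulSheafToPresheaf (J'.over X) AddCommGrpCat.{u}).preimageIso
    (Iso.refl _)) (fun φ => by apply Sheaf.hom_ext; exact (Category.comp_id _).trans (Category.id_comp _).symm)

/-- Restricting along a covering map is faithful. -/
lemma mono_unit_of_cover (hf : Sieve.ofArrows (fun _ : PUnit.{u + 1} => X) (fun _ => f) ∈ J Y)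
    (F : Sheaf (J.over Y) AddCommGrpCat.{u}) : Mono ((dirAdj f J).unit.app F) := by
  refine Preadditive.mono_of_cancel_zero _ fun {T} k hk => ?_
  have h0 : (res f J).map k = 0 := by
    apply ((dirAdj f J).homEquiv _ _).injective
    rw [Adjunction.homEquiv_unit, Adjunction.homEquiv_unit, Functor.map_zero, comp_zero]
    exact ((dirAdj f J).unit.naturality k).symm.trans hk
  apply Sheaf.hom_ext
  ext U x
  obtain ⟨U⟩ := U
  refine Presheaf.IsSheaf.isSeparated F.property U
    ((Sieve.overEquiv U).symm ((Sieve.ofArrows (fun _ : PUnit.{u + 1} => X) (fun _ => f)).pullback U.hom))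
    (by rw [GrothendieckTopology.mem_over_iff, OrderIso.apply_symm_apply]; exact J.pullback_stable _ hf)
    _ _ fun W g hg => ?_
  have hg0 : ((Sieve.ofArrows (fun _ : PUnit.{u + 1} => X) (fun _ => f)).pullback U.hom).arrows g.left :=
    (Sieve.overEquiv_symm_iff _ _).1 hg
  obtain ⟨-, m, hm⟩ := (Sieve.mem_ofArrows_iff _ _ _).1 hg0
  have hg' : g.left ≫ U.hom = W.hom := Over.w g
  let e : (Over.map f).obj (Over.mk m) ⟶ W := Over.homMk (𝟙 W.left) (by
    show 𝟙 _ ≫ W.hom = m ≫ f
    rw [Category.id_comp, ← hg', hm])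
  let e' : W ⟶ (Over.map f).obj (Over.mk m) := Over.homMk (𝟙 W.left) (by
    show 𝟙 _ ≫ m ≫ f = W.hom
    rw [Category.id_comp, ← hm, hg'])
  have key : k.hom.app (op W) = 0 := by
    have h1 : k.hom.app (op ((Over.map f).obj (Over.mk m))) = 0 :=
      congrArg (fun t => t.hom.app (op (Over.mk m))) h0
    have h2 : e' ≫ e = 𝟙 W := Over.OverMorphism.ext (Category.id_comp _)
    calc k.hom.app (op W) = T.obj.map e.op ≫ k.hom.app (op ((Over.map f).obj (Over.mk m))) ≫
          F.obj.map e'.op := by
          rw [← Category.assoc, k.hom.naturality, Category.assoc]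
          erw [← F.obj.map_comp, ← op_comp, h2, op_id, F.obj.map_id, Category.comp_id]
      _ = 0 := by rw [h1, zero_comp, comp_zero]
  have hn := ConcreteCategory.congr_hom (k.hom.naturality g.op) x
  refine hn.symm.trans ((ConcreteCategory.congr_hom key _).trans ?_)
  exact (map_zero (F.obj.map g.op).hom).symm

/-- If `H` embeds into a direct image then restriction is injective on global sections. -/
lemma eq_zero_of_mono (H : Sheaf (J.over Y) AddCommGrpCat.{u}) {Z : Sheaf (J.over X) AddCommGrpCat.{u}}
    (k : H ⟶ (dir f J).obj Z) [Mono k] (x : H.obj.obj (op (Over.mk (𝟙 Y))))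
    (hx : (H.obj.map (Over.homMk f (Category.comp_id f) : Over.mk f ⟶ Over.mk (𝟙 Y)).op).hom x = 0) :
    x = 0 := by
  have h1 : Mono ((dirAdj f J).unit.app H) := by
    have : IsSplitMono ((dirAdj f J).unit.app ((dir f J).obj Z)) :=
      IsSplitMono.mk' ⟨_, (dirAdj f J).right_triangle_components Z⟩
    have hn : k ≫ (dirAdj f J).unit.app ((dir f J).obj Z) =
        (dirAdj f J).unit.app H ≫ (dir f J).map ((res f J).map k) := (dirAdj f J).unit.naturality k
    exact @mono_of_mono _ _ _ _ _ ((dirAdj f J).unit.app H) ((dir f J).map ((res f J).map k))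
      (hn ▸ mono_comp _ _)
  let F := H.obj
  let L := (Over.map f).op
  have : Mono ((L.ranAdjunction AddCommGrpCat.{u}).unit.app F) := by
    have h2 : Mono ((sheafToPresheaf (J.over Y) AddCommGrpCat.{u}).map ((dirAdj f J).unit.app H)) :=
      inferInstance
    exact (Functor.sheafAdjunctionCocontinuous_unit_app_hom (Over.map f) AddCommGrpCat.{u} (J.over X)
      (J.over Y) H) ▸ h2
  have hmono : Mono (((L.ranAdjunction AddCommGrpCat.{u}).unit.app F).app (op (Over.mk (𝟙 Y)))) := inferInstance
  refine (AddCommGrpCat.mono_iff_injective _).1 hmono ?_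
  refine Eq.trans ?_ (map_zero _).symm
  have hmono2 : Mono (L.ranObjObjIsoLimit (L ⋙ F) (op (Over.mk (𝟙 Y)))).hom := inferInstance
  refine (AddCommGrpCat.mono_iff_injective _).1 hmono2 ?_
  refine Eq.trans ?_ (map_zero _).symm
  refine Concrete.limit_ext _ _ _ fun a => ?_
  refine Eq.trans ?_ (map_zero _).symm
  have e := ((L.ranAdjunction AddCommGrpCat.{u}).unit.app F).app (op (Over.mk (𝟙 Y))) ≫=
    L.ranObjObjIsoLimit_hom_π (L ⋙ F) (op (Over.mk (𝟙 Y))) a
  have e2 := L.ranCounit_app_app_ranAdjunction_unit_app_app F a.right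
  have n := ((L.ranAdjunction AddCommGrpCat.{u}).unit.app F).naturality a.hom
  have e3 : ((L.ranAdjunction AddCommGrpCat.{u}).unit.app F).app (op (Over.mk (𝟙 Y))) ≫
      (L.ranObjObjIsoLimit (L ⋙ F) (op (Over.mk (𝟙 Y)))).hom ≫ limit.π _ a = F.map a.hom := by
    rw [e, ← Category.assoc]
    erw [← n, Category.assoc, e2, Category.comp_id]
    rfl
  refine (ConcreteCategory.congr_hom e3 x).trans ?_
  let T := a.right.unop
  let t : (Over.map f).obj T ⟶ Over.mk f := Over.homMk T.hom rfl
  have ha : a.hom = ((Over.homMk f (Category.comp_id f) : Over.mk f ⟶ Over.mk (𝟙 Y))).op ≫ t.op := by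
    apply Quiver.Hom.unop_inj
    apply Over.OverMorphism.ext
    have := Over.w a.hom.unop
    simpa [t, L, T] using this
  rw [ha, F.map_comp]
  exact (congrArg (F.map t.op).hom hx).trans (map_zero _)

end Over

end Groth.Agent.SiteCmpLib.EpsOver
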