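import Groth.Agent.SiteCmpLib.CxDerived
import Groth.Agent.SiteBase.DerivedComp
import Groth.Agent.SiteBase.Rpush
import Groth.Prelude.Def_WeakSerre

/-!
# One step of the comparison of two topologies, abstractly
-/

set_option backward.isDefEq.respectTransparency false

universe v u

open CategoryTheory CategoryTheory.Limits HomologicalComplex

namespace Groth.Agent.SiteCmpLib.LerayStep

section One

variable {A B : Type u} [Category.{v} A] [Category.{v} B] [Abelian A] [Abelian B]
  {a : B ⥤ A} {e : A ⥤ B} (adj : a ⊣ e) [IsIso adj.counit]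

/-- `F` is a direct image, hence its unit is invertible. -/
lemma isIso_unit_obj (F : A) : IsIso (adj.unit.app (e.obj F)) :=
  IsIso.of_isIso_fac_right (hh := IsIso.id _) (adj.right_triangle_components F)

lemma isIso_unit_of_iso {F : A} {G : B} (φ : e.obj F ≅ G) : IsIso (adj.unit.app G) :=
  have := isIso_unit_obj adj F
  (NatTrans.isIso_app_iff_of_iso adj.unit φ).1 inferInstance

/-- A map with invertible units at source and target is invertible as soon as `a` of it is. -/
lemma isIso_of_isIso_map {X Y : B} (f : X ⟶ Y) [IsIso (adj.unit.app X)] [IsIso (adj.unit.app Y)]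
    [IsIso (a.map f)] : IsIso f := by
  have h : f = adj.unit.app X ≫ e.map (a.map f) ≫ inv (adj.unit.app Y) := by
    rw [← Category.assoc, IsIso.eq_comp_inv]
    exact adj.unit.naturality f
  rw [h]
  infer_instance

lemma mono_of_mono_map {X Y : B} (f : X ⟶ Y) [IsIso (adj.unit.app X)] [Mono (a.map f)] : Mono f := by
  have := adj.rightAdjoint_preservesLimits
  have : Mono (e.map (a.map f)) := inferInstance
  have h : f ≫ adj.unit.app Y = adj.unit.app X ≫ e.map (a.map f) := adj.unit.naturality f
  have : Mono (f ≫ adj.unit.app Y) := h ▸ mono_comp _ _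
  exact mono_of_mono f (adj.unit.app Y)

variable [a.Additive] [e.Additive] [PreservesFiniteLimits a] [PreservesFiniteColimits a]

/-- `R^{n+1}` of the identity vanishes. -/
lemma isZero_rightDerived_id [HasInjectiveResolutions A] (n : ℕ) (F : A) :
    IsZero (((𝟭 A).rightDerived (n + 1)).obj F) := by
  refine IsZero.of_iso ?_ ((injectiveResolution F).isoRightDerivedObj (𝟭 A) (n + 1))
  exact ((injectiveResolution F).cocomplex_exactAt_succ n).isZero_homology.of_iso
    ((HomologicalComplex.homologyFunctor A _ (n + 1)).mapIso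
      (HomologicalComplex.Hom.isoOfComponents (fun _ => Iso.refl _) (fun _ _ _ => by simp)))

include adj in
/-- Higher derived direct images die under inverse image. -/
lemma isZero_map_rightDerived [HasInjectiveResolutions A] [EnoughInjectives A] (n : ℕ) (F : A) :
    IsZero (a.obj ((e.rightDerived (n + 1)).obj F)) :=
  (isZero_rightDerived_id n F).of_iso ((SiteBase.rightDerivedCompIso e a (n + 1)).symm.app F ≪≫
    (SiteBase.rightDerivedCongr (asIso adj.counit) (n + 1)).app F)

variable [HasInjectiveResolutions A] [EnoughInjectives A] [PreservesFiniteLimits e]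
  (Δ : RDer.DerivedLES e) (K : CochainComplex A ℕ) [∀ j, Injective (K.X j)]

include adj Δ in
lemma isIso_map_θ (q : ℕ) : IsIso (a.map (CxDerived.θ e K q)) := by
  have : Mono (a.map (CxDerived.θ e K q)) :=
    ((CxDerived.exact_j_θ e K Δ q).map a).mono_g ((isZero_map_rightDerived adj 0 _).eq_of_src _ _)
  have h : a.map (((e.mapHomologicalComplex _).obj K).homologyπ (q + 1)) ≫ a.map (CxDerived.θ e K q) =
      a.map (CxDerived.cyclesIso e K (q + 1)).inv ≫ a.map (e.map (K.homologyπ (q + 1))) := by
    rw [← a.map_comp, CxDerived.π_θ, a.map_comp]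
  have hn : a.map (e.map (K.homologyπ (q + 1))) =
      adj.counit.app _ ≫ K.homologyπ (q + 1) ≫ inv (adj.counit.app _) := by
    rw [← Category.assoc, IsIso.eq_comp_inv]
    exact adj.counit.naturality _
  have : Epi (a.map (e.map (K.homologyπ (q + 1)))) := by
    rw [hn]
    infer_instance
  have : Epi (a.map (((e.mapHomologicalComplex _).obj K).homologyπ (q + 1)) ≫
      a.map (CxDerived.θ e K q)) := h ▸ epi_comp _ _
  have := epi_of_epi (a.map (((e.mapHomologicalComplex _).obj K).homologyπ (q + 1)))
    (a.map (CxDerived.θ e K q))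
  exact isIso_of_mono_of_epi _

variable (P : ObjectProperty B) [P.IsClosedUnderIsomorphisms] (hP : ∀ X, P X → IsIso (adj.unit.app X))

include adj Δ hP in
lemma isIso_θ (q : ℕ) (h : P (((e.mapHomologicalComplex _).obj K).homology (q + 1))) :
    IsIso (CxDerived.θ e K q) := by
  have := hP _ h
  have := isIso_unit_obj adj (K.homology (q + 1))
  have := isIso_map_θ adj Δ K q
  exact isIso_of_isIso_map adj _

include adj hP in
/-- The cokernel of a monomorphism between objects whose direct images lie in `P`. -/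
lemma map_cokernel [WSerre.IsWeakSerre P] {F M : A} (f : F ⟶ M) [Mono f] (hF : P (e.obj F))
    (hM : P (e.obj M)) : P (e.obj (cokernel f)) ∧ Epi (e.map (cokernel.π f)) := by
  have hC : P (cokernel (e.map f)) := P.prop_cokernel _ hF hM
  have := hP _ hC
  let d : cokernel (e.map f) ⟶ e.obj (cokernel f) :=
    cokernel.desc _ (e.map (cokernel.π f)) (by rw [← e.map_comp, cokernel.condition, e.map_zero])
  have : Mono d := (ShortComplex.exact_iff_mono_cokernel_desc
    (ShortComplex.mk (e.map f) (e.map (cokernel.π f)) (by rw [← e.map_comp, cokernel.condition, e.map_zero]))).1 (by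
    have hS : (ShortComplex.mk f (cokernel.π f) (cokernel.condition f)).Exact :=
      ShortComplex.exact_of_g_is_cokernel _ (cokernelIsCokernel f)
    exact ShortComplex.exact_of_f_is_kernel _ (KernelFork.mapIsLimit _
      (hS.fIsKernel) e))
  have : Epi (a.map d) := by
    have h : a.map (cokernel.π (e.map f)) ≫ a.map d = a.map (e.map (cokernel.π f)) := by
      rw [← a.map_comp, cokernel.π_desc]
    have hn : a.map (e.map (cokernel.π f)) = adj.counit.app _ ≫ cokernel.π f ≫ inv (adj.counit.app _) := by
      rw [← Category.assoc, IsIso.eq_comp_inv]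
      exact adj.counit.naturality _
    have : Epi (a.map (e.map (cokernel.π f))) := by rw [hn]; infer_instance
    exact @epi_of_epi _ _ _ _ _ (a.map (cokernel.π (e.map f))) (a.map d) (h.symm ▸ this)
  have := isIso_of_mono_of_epi (a.map d)
  have := isIso_unit_obj adj (cokernel f)
  have := isIso_of_isIso_map adj d
  have hd : cokernel.π (e.map f) ≫ d = e.map (cokernel.π f) := cokernel.π_desc _ _ _
  exact ⟨P.prop_of_iso (asIso d) hC, hd ▸ epi_comp (cokernel.π (e.map f)) d⟩

end One

section Two

variable {AW AV BW BV : Type u} [Category.{v} AW] [Category.{v} AV] [Category.{v} BW] [Category.{v} BV]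
  [Abelian AW] [Abelian AV] [Abelian BW] [Abelian BV]
  [HasInjectiveResolutions AW] [HasInjectiveResolutions AV] [HasInjectiveResolutions BW]
  [EnoughInjectives AW] [EnoughInjectives AV] [EnoughInjectives BW]
  {a : BV ⥤ AV} {eV : AV ⥤ BV} (adj : a ⊣ eV) [IsIso adj.counit]
  [a.Additive] [eV.Additive] [PreservesFiniteLimits a] [PreservesFiniteColimits a]
  [PreservesFiniteLimits eV]
  (eW : AW ⥤ BW) [eW.Additive] [eW.PreservesInjectiveObjects] [PreservesFiniteLimits eW]
  (g : AW ⥤ AV) [g.Additive] [g.PreservesInjectiveObjects] [PreservesFiniteLimits g]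
  (g' : BW ⥤ BV) [g'.Additive] [PreservesFiniteLimits g']
  (γ : eW ⋙ g' ≅ g ⋙ eV)

/-- The two ways of applying the functors to a complex. -/
noncomputable def cxIso (K : CochainComplex AW ℕ) :
    (g'.mapHomologicalComplex _).obj ((eW.mapHomologicalComplex _).obj K) ≅
      (eV.mapHomologicalComplex _).obj ((g.mapHomologicalComplex _).obj K) :=
  HomologicalComplex.Hom.isoOfComponents (fun i => γ.app (K.X i))
    (fun _ _ _ => (γ.hom.naturality _).symm)

/-- The cycles of degree zero of a left exact functor applied to a resolution. -/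
noncomputable def cyclesZeroIso {A B : Type u} [Category.{v} A] [Category.{v} B] [Abelian A] [Abelian B]
    (T : A ⥤ B) [T.Additive] [PreservesFiniteLimits T] {X : A} (I : InjectiveResolution X) :
    ((T.mapHomologicalComplex _).obj I.cocomplex).cycles 0 ≅ T.obj X :=
  (CxDerived.cyclesIso T I.cocomplex 0).symm ≪≫
    T.mapIso (IsLimit.conePointUniqueUpToIso (I.cocomplex.cyclesIsKernel 0 1 (by simp)) I.isLimitKernelFork)

variable {G : AW} (I : InjectiveResolution G)

instance injective_map {A B : Type u} [Category.{v} A] [Category.{v} B] [Abelian A] [Abelian B]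
    (T : A ⥤ B) [T.Additive] [T.PreservesInjectiveObjects] {X : A} (I : InjectiveResolution X) (j : ℕ) :
    Injective (((T.mapHomologicalComplex _).obj I.cocomplex).X j) :=
  haveI := I.injective j
  inferInstanceAs (Injective (T.obj (I.cocomplex.X j)))

variable (Δ : RDer.DerivedLES eV) (Δ' : RDer.DerivedLES g') (n : ℕ)
  (hW : ∀ i, i + 1 ≤ n → IsZero ((eW.rightDerived (i + 1)).obj G))
  (P : ObjectProperty BV) [P.IsClosedUnderIsomorphisms] (hP : ∀ X, P X → IsIso (adj.unit.app X))
  (hg : ∀ q, P ((g'.rightDerived q).obj (eW.obj G)))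

include I hW Δ' γ in
/-- The cohomology of the direct image complex, in the range where the source is exact. -/
lemma nonempty_iso_rightDerived (q : ℕ) (hq : q + 1 ≤ n) :
    Nonempty ((g'.rightDerived (q + 1)).obj (eW.obj G) ≅ ((eV.mapHomologicalComplex _).obj
      ((g.mapHomologicalComplex _).obj I.cocomplex)).homology (q + 1)) := by
  obtain ⟨e⟩ := CxDerived.nonempty_iso_homology_of_exact g'
    ((eW.mapHomologicalComplex _).obj I.cocomplex) Δ' q
    (fun i hi => (hW i (by omega)).of_iso (I.isoRightDerivedObj eW (i + 1)).symm)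
  exact ⟨(g'.rightDerived (q + 1)).mapIso (cyclesZeroIso eW I).symm ≪≫ e ≪≫
    (HomologicalComplex.homologyFunctor BV _ (q + 1)).mapIso (cxIso eW g g' γ I.cocomplex)⟩

include adj I Δ Δ' hW hP hg γ in
lemma isIso_θ_low (q : ℕ) (hq : q + 1 ≤ n) :
    IsIso (CxDerived.θ eV ((g.mapHomologicalComplex _).obj I.cocomplex) q) := by
  obtain ⟨e⟩ := nonempty_iso_rightDerived eW g g' γ I Δ' n hW q hq
  exact isIso_θ adj Δ _ P hP q (P.prop_of_iso e (hg (q + 1)))

include adj I Δ Δ' hW hP hg γ in
/-- In the range where the higher direct images of the source vanish, the two higher direct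
images agree. -/
theorem nonempty_iso_low (q : ℕ) (hq : q + 1 ≤ n) :
    Nonempty ((g'.rightDerived (q + 1)).obj (eW.obj G) ≅ eV.obj ((g.rightDerived (q + 1)).obj G)) := by
  obtain ⟨e⟩ := nonempty_iso_rightDerived eW g g' γ I Δ' n hW q hq
  have := isIso_θ_low adj eW g g' γ I Δ Δ' n hW P hP hg q hq
  exact ⟨e ≪≫ asIso (CxDerived.θ eV ((g.mapHomologicalComplex _).obj I.cocomplex) q) ≪≫
    eV.mapIso (I.isoRightDerivedObj g (q + 1)).symm⟩

include γ in
omit [a.Additive] [PreservesFiniteLimits a] [PreservesFiniteColimits a] in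
theorem nonempty_iso_zero :
    Nonempty ((g'.rightDerived 0).obj (eW.obj G) ≅ eV.obj ((g.rightDerived 0).obj G)) :=
  ⟨g'.rightDerivedZeroIsoSelf.app _ ≪≫ γ.app G ≪≫ eV.mapIso (g.rightDerivedZeroIsoSelf.app G).symm⟩

include adj I Δ Δ' hW hP hg γ in
/-- The decisive injectivity: `R^{n+1}e` of a direct image embeds into a direct image. -/
theorem exists_mono_top
    (hV : ∀ M : AV, P (eV.obj M) → ∀ i, i + 1 ≤ n → IsZero ((eV.rightDerived (i + 1)).obj M)) :
    ∃ (Y : BW) (f : (eV.rightDerived (n + 1)).obj (g.obj G) ⟶ g'.obj Y), Mono f := by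
  let L := (eW.mapHomologicalComplex _).obj I.cocomplex
  let K := (g.mapHomologicalComplex _).obj I.cocomplex
  let φ := (HomologicalComplex.homologyFunctor BV _ (n + 1)).mapIso (cxIso eW g g' γ I.cocomplex)
  have hH : ∀ i, i + 1 ≤ n → P (eV.obj (K.homology (i + 1))) := fun i hi => by
    obtain ⟨e⟩ := nonempty_iso_rightDerived eW g g' γ I Δ' n hW i hi
    have := isIso_θ_low adj eW g g' γ I Δ Δ' n hW P hP hg i hi
    exact P.prop_of_iso (e ≪≫ asIso (CxDerived.θ eV K i)) (hg (i + 1))
  obtain ⟨f₁, hf₁⟩ := CxDerived.exists_mono_shift eV K Δ n (fun i hi => by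
      have := isIso_θ_low adj eW g g' γ I Δ Δ' n hW P hP hg i hi
      have h : eV.map (K.homologyπ (i + 1)) = (CxDerived.cyclesIso eV K (i + 1)).hom ≫
          ((eV.mapHomologicalComplex _).obj K).homologyπ (i + 1) ≫ CxDerived.θ eV K i := by
        rw [CxDerived.π_θ, Iso.hom_inv_id_assoc]
      rw [h]
      infer_instance)
    (fun i p hp hpi => by
      obtain ⟨p, rfl⟩ : ∃ p', p = p' + 1 := ⟨p - 1, by omega⟩
      exact hV _ (hH i (by omega)) p (by omega))
    0 n (zero_add n)
  obtain ⟨e'⟩ := CxDerived.nonempty_iso_of_exact g' L Δ' n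
    (fun i hi => (hW i hi).of_iso (I.isoRightDerivedObj eW (i + 1)).symm) 0 n (zero_add n)
  let k := CxDerived.j g' L Δ' n ≫ φ.hom
  have : IsIso (adj.unit.app ((g'.rightDerived 1).obj (L.cycles n))) :=
    hP _ (P.prop_of_iso ((g'.rightDerived (n + 1)).mapIso (cyclesZeroIso eW I).symm ≪≫ e') (hg (n + 1)))
  have := isIso_map_θ adj Δ K n
  have : Mono k := mono_comp _ _
  have hk : Mono (k ≫ CxDerived.θ eV K n) := by
    have : Mono (a.map (k ≫ CxDerived.θ eV K n)) := by
      rw [a.map_comp]
      exact mono_comp _ _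
    exact mono_of_mono_map adj _
  have hm : Mono (CxDerived.j eV K Δ n ≫ φ.inv ≫ CxDerived.θ g' L n) := by
    refine Preadditive.mono_of_cancel_zero _ fun {W} t ht => ?_
    have hex := CxDerived.exact_j_θ g' L Δ' n
    have := CxDerived.mono_j g' L Δ' n
    have h0 : (t ≫ CxDerived.j eV K Δ n ≫ φ.inv) ≫ CxDerived.θ g' L n = 0 := by
      simpa only [Category.assoc] using ht
    obtain ⟨s, hs⟩ := KernelFork.IsLimit.lift' hex.fIsKernel _ h0
    have hs' : s ≫ k = t ≫ CxDerived.j eV K Δ n := by
      have hs' : s ≫ CxDerived.j g' L Δ' n = t ≫ CxDerived.j eV K Δ n ≫ φ.inv := hs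
      rw [← Category.assoc, hs', Category.assoc, Category.assoc, Iso.inv_hom_id, Category.comp_id]
    have : s = 0 := (cancel_mono (k ≫ CxDerived.θ eV K n)).1 (by
      rw [← Category.assoc, hs', Category.assoc, CxDerived.j_θ, comp_zero, zero_comp])
    rw [← cancel_mono (CxDerived.j eV K Δ n), ← hs', this, zero_comp, zero_comp]
  exact ⟨L.homology (n + 1), (eV.rightDerived (n + 1)).map (cyclesZeroIso g I).inv ≫ f₁ ≫
    CxDerived.j eV K Δ n ≫ φ.inv ≫ CxDerived.θ g' L n,
    mono_comp' inferInstance (mono_comp' hf₁ hm)⟩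

end Two

end Groth.Agent.SiteCmpLib.LerayStep
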