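import Groth.Agent.SiteCmpLib.TotalRight
import Mathlib.CategoryTheory.Sites.Grothendieck
import Mathlib.Algebra.Homology.Single

/-! Cohomology classes of derived direct images on test objects are detected locally. -/

universe u

open CategoryTheory Category Limits DerivedCategory

attribute [local instance] HasDerivedCategory.standard

namespace Groth.Agent.SiteCmpLib.LocClass

variable {A : Type (u + 1)} [Category.{u} A] [Abelian A]
  {D : Type u} [SmallCategory D] (K : GrothendieckTopology D) (P : D ⥤ A)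

/-- The objects `P V` behave like the free objects of a category of sheaves. -/
structure IsTest : Prop where
  lift : ∀ ⦃M N : A⦄ (q : M ⟶ N) [Epi q] (V : D) (a : P.obj V ⟶ N),
    ∃ S ∈ K V, ∀ ⦃W : D⦄ (g : W ⟶ V), S g → ∃ b : P.obj W ⟶ M, b ≫ q = P.map g ≫ a
  sep : ∀ ⦃M : A⦄ (V : D) (S : Sieve V), S ∈ K V → ∀ (a : P.obj V ⟶ M),
    (∀ ⦃W : D⦄ (g : W ⟶ V), S g → P.map g ≫ a = 0) → a = 0
  isZero : ∀ (M : A), (∀ (V : D) (a : P.obj V ⟶ M), a = 0) → IsZero M

variable {K P}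

/-- Every object is covered by objects of `B`. -/
abbrev Covers (K : GrothendieckTopology D) (B : Set D) : Prop :=
  ∀ U : D, ∃ (ι : Type u) (Y : ι → D) (g : ∀ i, Y i ⟶ U), Sieve.ofArrows Y g ∈ K U ∧ ∀ i, Y i ∈ B

lemma IsTest.sep_family (hP : IsTest K P) {V : D} {M : A} {ι : Type u} {Y : ι → D} {f : ∀ i, Y i ⟶ V}
    (hf : Sieve.ofArrows Y f ∈ K V) (a : P.obj V ⟶ M) (h : ∀ i, P.map (f i) ≫ a = 0) : a = 0 := by
  refine hP.sep V _ hf a fun W g hg => ?_
  obtain ⟨i, k, hk⟩ : ∃ (i : ι) (k : W ⟶ Y i), k ≫ f i = g := by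
    rw [Sieve.mem_ofArrows_iff] at hg
    obtain ⟨i, k, rfl⟩ := hg
    exact ⟨i, k, rfl⟩
  rw [← hk, P.map_comp, assoc, h, comp_zero]

lemma IsTest.eq_zero_of_covers (hP : IsTest K P) {B : Set D} (hB : Covers K B) {M : A}
    (h : ∀ V ∈ B, ∀ a : P.obj V ⟶ M, a = 0) : IsZero M := by
  refine hP.isZero M fun V a => ?_
  obtain ⟨ι, Y, f, hf, hY⟩ := hB V
  exact hP.sep_family hf a fun i => h _ (hY i) _

lemma IsTest.mono_of_covers (hP : IsTest K P) {B : Set D} (hB : Covers K B) {M N : A} (g : M ⟶ N)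
    (h : ∀ V ∈ B, ∀ a : P.obj V ⟶ M, a ≫ g = 0 → a = 0) : Mono g := by
  refine Preadditive.mono_of_isZero_kernel _ (hP.eq_zero_of_covers hB fun V hV a => ?_)
  rw [← cancel_mono (kernel.ι g), zero_comp]
  exact h V hV _ (by rw [assoc, kernel.condition, comp_zero])

variable {B : Type (u + 1)} [Category.{u} B] [Abelian B] {F : A ⥤ B} {G : B ⥤ A} [G.Additive]
  (adj : F ⊣ G)

/-- The criterion on a single refined covering, at the level of complexes. -/
def GoodCx {I I' : CochainComplex B ℤ} (α : I ⟶ I') (W : D) : Prop :=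
  ∀ w : F.obj (P.obj W) ⟶ I.X 0, w ≫ I.d 0 1 = 0 →
    ∀ h' : F.obj (P.obj W) ⟶ I'.X (-1), h' ≫ I'.d (-1) 0 = w ≫ α.f 0 →
      ∃ h : F.obj (P.obj W) ⟶ I.X (-1), h ≫ I.d (-1) 0 = w

include adj in
lemma eq_zero_of_goodCx (hP : IsTest K P) {I I' : CochainComplex B ℤ} (α : I ⟶ I') {V : D}
    (hV : ∀ T ∈ K V, ∃ (ι : Type u) (Y : ι → D) (f : ∀ i, Y i ⟶ V),
      (∀ i, T.arrows (f i)) ∧ Sieve.ofArrows Y f ∈ K V ∧ ∀ i, GoodCx (F := F) (P := P) α (Y i))
    (s : P.obj V ⟶ ((G.mapHomologicalComplex (ComplexShape.up ℤ)).obj I).homology 0)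
    (hs : s ≫ HomologicalComplex.homologyMap ((G.mapHomologicalComplex (ComplexShape.up ℤ)).map α) 0 = 0) :
    s = 0 := by
  let GI := (G.mapHomologicalComplex (ComplexShape.up ℤ)).obj I
  let GI' := (G.mapHomologicalComplex (ComplexShape.up ℤ)).obj I'
  let Gα : GI ⟶ GI' := (G.mapHomologicalComplex (ComplexShape.up ℤ)).map α
  obtain ⟨S, hS, hS'⟩ := hP.lift (GI.homologyπ 0) V s
  let e : ShortComplex A := ShortComplex.mk (GI'.toCycles (-1) 0) (GI'.homologyπ 0)
    (GI'.toCycles_comp_homologyπ _ _)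
  have he : e.Exact := ShortComplex.exact_of_g_is_cokernel _
    (GI'.homologyIsCokernel (-1) 0 (by simp))
  have : Epi (kernel.lift (GI'.homologyπ 0) (GI'.toCycles (-1) 0) e.zero) :=
    (ShortComplex.exact_iff_epi_kernel_lift _).1 he
  have exR : ∀ (W : D) (g : W ⟶ V), S g → ∃ R ∈ K W, ∃ c : P.obj W ⟶ GI.cycles 0,
      c ≫ GI.homologyπ 0 = P.map g ≫ s ∧ ∀ ⦃W' : D⦄ (k : W' ⟶ W), R k →
        ∃ b : P.obj W' ⟶ GI'.X (-1), b ≫ GI'.toCycles (-1) 0 =
          P.map k ≫ c ≫ HomologicalComplex.cyclesMap Gα 0 := fun W g hg => by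
    obtain ⟨c, hc⟩ := hS' g hg
    obtain ⟨R, hR, hR'⟩ := hP.lift (kernel.lift (GI'.homologyπ 0) (GI'.toCycles (-1) 0) e.zero) W
      (kernel.lift (GI'.homologyπ 0) (c ≫ HomologicalComplex.cyclesMap Gα 0) (by
        rw [assoc, ← HomologicalComplex.homologyπ_naturality, ← assoc, hc, assoc, hs, comp_zero]))
    refine ⟨R, hR, c, hc, fun W' k hk => ?_⟩
    obtain ⟨b, hb⟩ := hR' k hk
    exact ⟨b, by simpa using hb =≫ kernel.ι _⟩
  choose R hR c₀ hc₀ hR' using exR
  obtain ⟨ι, Y, f, hf, hcov, hgood⟩ := hV (Sieve.bind S.arrows fun W g hg => R W g hg)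
    (K.bind_covering hS fun W g hg => hR W g hg)
  refine hP.sep_family hcov s fun i => ?_
  obtain ⟨W, k, g, hg, hk, hki⟩ := hf i
  obtain ⟨b, hb'⟩ := hR' W g hg k hk
  let c : P.obj (Y i) ⟶ GI.cycles 0 := P.map k ≫ c₀ W g hg
  let t := fun (j : ℤ) (φ : P.obj (Y i) ⟶ G.obj (I.X j)) => (adj.homEquiv _ _).symm φ
  let w := (adj.homEquiv _ _).symm (c ≫ GI.iCycles 0 : P.obj (Y i) ⟶ G.obj (I.X 0))
  obtain ⟨h, hh⟩ := hgood i w (by
      rw [← adj.homEquiv_naturality_right_symm, Equiv.symm_apply_eq]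
      show (c ≫ GI.iCycles 0) ≫ GI.d 0 1 = _
      simp [Adjunction.homEquiv_unit]
      rfl)
    ((adj.homEquiv (P.obj (Y i)) (I'.X (-1))).symm b) (by
      refine (adj.homEquiv_naturality_right_symm b _).symm.trans
        ((congrArg _ ?_).trans (adj.homEquiv_naturality_right_symm (c ≫ GI.iCycles 0) _))
      have := hb' =≫ GI'.iCycles 0
      simp only [assoc, HomologicalComplex.toCycles_i, HomologicalComplex.cyclesMap_i] at this
      exact this.trans ((assoc _ _ _).trans (assoc _ _ _)).symm)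
  have hc : c = (adj.homEquiv _ _ h : P.obj (Y i) ⟶ GI.X (-1)) ≫ GI.toCycles (-1) 0 := by
    rw [← cancel_mono (GI.iCycles 0)]
    refine Eq.trans ?_ (assoc _ _ _).symm
    refine Eq.trans ?_ (congrArg _ (GI.toCycles_i (-1) 0)).symm
    show _ = adj.homEquiv _ _ h ≫ G.map (I.d (-1) 0)
    rw [← adj.homEquiv_naturality_right, hh]
    exact ((adj.homEquiv _ _).apply_symm_apply _).symm
  rw [← hki, P.map_comp, assoc, ← hc₀ W g hg, ← assoc]
  show c ≫ GI.homologyπ 0 = 0
  exact (congrArg (· ≫ GI.homologyπ 0) hc).trans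
    ((assoc _ _ _).trans ((congrArg _ (GI.toCycles_comp_homologyπ (-1) 0)).trans comp_zero))

/-- The test object of `B` in degree zero. -/
noncomputable abbrev tst (F : A ⥤ B) (P : D ⥤ A) (V : D) : DerivedCategory B :=
  (singleFunctor B 0).obj (F.obj (P.obj V))

variable [IsGrothendieckAbelian.{u} B]

open DerivedAdj

lemma goodCx_of_injective {Z Z' : DerivedCategory B} (a : Z ⟶ Z') {I I' : CochainComplex B ℤ}
    (u : (HomotopyCategory.quotient B _).obj I ≅ (res B).obj Z)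
    (u' : (HomotopyCategory.quotient B _).obj I' ≅ (res B).obj Z') (α : I ⟶ I')
    (hα : (HomotopyCategory.quotient B _).map α ≫ u'.hom = u.hom ≫ (res B).map a) (W : D)
    (hW : ∀ φ : tst F P W ⟶ Z, φ ≫ a = 0 → φ = 0) : GoodCx (F := F) (P := P) α W := by
  intro w hw h' hh'
  let S : CochainComplex B ℤ := (HomologicalComplex.single B (ComplexShape.up ℤ) 0).obj (F.obj (P.obj W))
  let f : S ⟶ I := HomologicalComplex.mkHomFromSingle w (fun k hk => by
    obtain rfl : (0 : ℤ) + 1 = k := hk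
    simpa using hw)
  let f' : S ⟶ I' := f ≫ α
  let hom : ∀ i j, (ComplexShape.up ℤ).Rel j i → (S.X i ⟶ I'.X j) := fun i j hij =>
    if hi : i = 0 then (HomologicalComplex.singleObjXIsoOfEq (ComplexShape.up ℤ) 0 _ i hi).hom ≫ h' ≫
      (I'.XIsoOfEq (show (-1 : ℤ) = j by have : j + 1 = i := hij; omega)).hom
    else 0
  have hf' : f' = Homotopy.nullHomotopicMap' hom := by
    refine HomologicalComplex.from_single_hom_ext ?_
    rw [Homotopy.nullHomotopicMap'_f (show (ComplexShape.up ℤ).Rel (-1) 0 from rfl)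
      (show (ComplexShape.up ℤ).Rel 0 1 from rfl)]
    simp [hom, f', f, S, HomologicalComplex.singleObjXSelf, hh']
  let σ : tst F P W ≅ Qh.obj ((HomotopyCategory.quotient B _).obj S) :=
    (singleFunctorIsoCompQ B 0).app (F.obj (P.obj W)) ≪≫ ((quotientCompQhIso B).app S).symm
  let ψ : tst F P W ⟶ Z :=
    σ.hom ≫ ((resAdj B).homEquiv _ _).symm ((HomotopyCategory.quotient B _).map f ≫ u.hom)
  have hψ : ψ ≫ a = 0 := by
    have : ((resAdj B).homEquiv _ _).symm ((HomotopyCategory.quotient B _).map f ≫ u.hom) ≫ a = 0 := by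
      rw [← (resAdj B).homEquiv_naturality_right_symm, assoc, ← hα, ← Functor.map_comp_assoc,
        show (HomotopyCategory.quotient B _).map (f ≫ α) = 0 from
        (HomotopyCategory.eq_of_homotopy f' 0 ((Homotopy.ofEq hf').trans (Homotopy.nullHomotopy' hom))).trans
          (Functor.map_zero _ _ _)]
      simp [Adjunction.homEquiv_counit]
    exact (assoc _ _ _).trans ((congrArg (σ.hom ≫ ·) this).trans comp_zero)
  have : (res B).Additive := (resAdj B).right_adjoint_additive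
  have h0 : (HomotopyCategory.quotient B _).map f = 0 := by
    have := (cancel_epi σ.hom).1 ((hW ψ hψ).trans (comp_zero (f := σ.hom)).symm)
    rw [Equiv.symm_apply_eq, show ((resAdj B).homEquiv ((HomotopyCategory.quotient B _).obj S) Z) 0 = 0
      by simp [Adjunction.homEquiv_unit]] at this
    rw [← cancel_mono u.hom, this, zero_comp]
  let H := HomotopyCategory.homotopyOfEq f 0 (h0.trans (Functor.map_zero _ _ _).symm)
  refine ⟨(HomologicalComplex.singleObjXSelf (ComplexShape.up ℤ) 0 _).inv ≫ H.hom 0 (-1), ?_⟩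
  have := H.comm 0
  rw [dNext_eq _ (show (ComplexShape.up ℤ).Rel 0 1 from rfl),
    prevD_eq _ (show (ComplexShape.up ℤ).Rel (-1) 0 from rfl)] at this
  have hd : S.d 0 1 = 0 := HomologicalComplex.single_obj_d _ _ _ _ _
  simp [f, S] at this
  rw [assoc, ← this]
  simp

include adj in
/-- A class is zero if it is killed by `a` and `a` is injective on a refinement of every covering. -/
theorem eq_zero_homology_model (hP : IsTest K P) {V : D} {Z Z' : DerivedCategory B} (a : Z ⟶ Z')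
    (hV : ∀ T ∈ K V, ∃ (ι : Type u) (Y : ι → D) (f : ∀ i, Y i ⟶ V),
      (∀ i, T.arrows (f i)) ∧ Sieve.ofArrows Y f ∈ K V ∧
        ∀ (i : ι) (φ : tst F P (Y i) ⟶ Z), φ ≫ a = 0 → φ = 0)
    (s : P.obj V ⟶ (homologyFunctor A 0).obj ((model G).obj Z))
    (hs : s ≫ (homologyFunctor A 0).map ((model G).map a) = 0) : s = 0 := by
  obtain ⟨I, hI⟩ := HomotopyCategory.quotient_obj_surjective ((res B).obj Z)
  obtain ⟨I', hI'⟩ := HomotopyCategory.quotient_obj_surjective ((res B).obj Z')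
  let u := eqToIso hI
  let u' := eqToIso hI'
  obtain ⟨α, hα⟩ := (HomotopyCategory.quotient B (ComplexShape.up ℤ)).map_surjective
    (u.hom ≫ (res B).map a ≫ u'.inv)
  have hα' : (HomotopyCategory.quotient B _).map α ≫ u'.hom = u.hom ≫ (res B).map a := by
    simp [hα]
  let Gc := G.mapHomologicalComplex (ComplexShape.up ℤ)
  let Φ := Gc ⋙ DerivedCategory.Q ⋙ homologyFunctor A 0
  let e : HomotopyCategory.quotient B _ ⋙ G.mapHomotopyCategory (ComplexShape.up ℤ) ⋙ Qh ⋙
      homologyFunctor A 0 ≅ Gc ⋙ HomologicalComplex.homologyFunctor A (ComplexShape.up ℤ) 0 :=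
    (Functor.associator _ _ _).symm ≪≫
      Functor.isoWhiskerRight (G.mapHomotopyCategoryFactors (ComplexShape.up ℤ)) _ ≪≫
      Functor.associator _ _ _ ≪≫ Functor.isoWhiskerLeft Gc
        ((Functor.associator _ _ _).symm ≪≫
          Functor.isoWhiskerRight (quotientCompQhIso A) _ ≪≫ homologyFunctorFactors A 0)
  let Ψ := G.mapHomotopyCategory (ComplexShape.up ℤ) ⋙ Qh ⋙ homologyFunctor A 0
  let v : (homologyFunctor A 0).obj ((model G).obj Z) ⟶ Ψ.obj ((HomotopyCategory.quotient B _).obj I) :=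
    Ψ.map u.inv
  have : IsIso v := inferInstanceAs (IsIso (Ψ.map u.inv))
  have hv : (homologyFunctor A 0).map ((model G).map a) ≫ Ψ.map u'.inv =
      v ≫ Ψ.map ((HomotopyCategory.quotient B _).map α) := by
    show Ψ.map ((res B).map a) ≫ _ = Ψ.map u.inv ≫ _
    rw [← Ψ.map_comp, ← Ψ.map_comp, hα, Iso.inv_hom_id_assoc]
  have h0 : (s ≫ v ≫ e.hom.app I) ≫ HomologicalComplex.homologyMap (Gc.map α) 0 = 0 := by
    have key : Ψ.map ((HomotopyCategory.quotient B _).map α) ≫ e.hom.app I' =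
        e.hom.app I ≫ HomologicalComplex.homologyMap (Gc.map α) 0 := e.hom.naturality α
    refine (assoc _ _ _).trans ((congrArg (s ≫ ·) ((assoc _ _ _).trans
      ((congrArg (v ≫ ·) key.symm).trans ((assoc _ _ _).symm.trans
        ((congrArg (· ≫ e.hom.app I') hv.symm).trans (assoc _ _ _)))))).trans ?_)
    exact (assoc _ _ _).symm.trans ((congrArg (· ≫ _) hs).trans zero_comp)
  have := eq_zero_of_goodCx adj hP α (fun T hT => by
      obtain ⟨ι, Y, f, hf, hcov, hY⟩ := hV T hT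
      exact ⟨ι, Y, f, hf, hcov, fun i => goodCx_of_injective a u u' α hα' (Y i) (hY i)⟩)
    (s ≫ v ≫ e.hom.app I) h0
  rw [← cancel_mono (v ≫ e.hom.app I), zero_comp]
  exact this

end Groth.Agent.SiteCmpLib.LocClass
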