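import Groth.Agent.SiteCmpLib.WayOutLeft
import Groth.Agent.SiteCmpLib.ModTest
import Groth.Agent.SiteCmpLib.Rlim

/-! Bounded cohomological dimension and direct images along morphisms of ringed sites. -/

universe u

open CategoryTheory Category Limits Pretriangulated DerivedCategory Opposite

attribute [local instance] HasDerivedCategory.standard

namespace Groth.Agent.SiteCmpLib.ModBounded

open DerivedAdj TotalRight LocClass

variable {C : Type u} [SmallCategory C] {J : GrothendieckTopology C} {O_C : Sheaf J CommRingCat.{u}}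
  {D : Type u} [SmallCategory D] {K : GrothendieckTopology D} {O_D : Sheaf K CommRingCat.{u}}
  (f : ModSite.RMor O_C O_D) (A : ObjectProperty (ModSite.Mod O_C))

/-- The hypothesis on cohomological dimensions along a functor of sites. -/
abbrev LocCd (K : GrothendieckTopology D) (B' : Set D) (u : D → C) : Prop :=
  ∀ V ∈ B', ∃ d : ℕ, ∀ T ∈ K V, ∃ (ι : Type u) (Y : ι → D) (g : ∀ i, Y i ⟶ V),
    (∀ i, T.arrows (g i)) ∧ Sieve.ofArrows Y g ∈ K V ∧
    ∀ (i : ι) (F : ModSite.Mod O_C), A F → ∀ k : ℕ, d < k → Subsingleton (ModSite.HU O_C F k (u (Y i)))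

variable {A}

lemma cdBound_pull {B' : Set D} (h : LocCd A K B' f.fn.obj) (V : D) (hV : V ∈ B') :
    Bounded.CdBound K f.pull (ModTest.freeY O_D) A V := by
  have : HasExt.{u} (ModSite.Mod O_C) := hasExt_of_enoughInjectives _
  obtain ⟨d, hd⟩ := h V hV
  refine ⟨d, fun T hT => ?_⟩
  obtain ⟨ι, Y, g, hg, hcov, hY⟩ := hd T hT
  refine ⟨ι, Y, g, hg, hcov, fun i M hM k hk φ => ?_⟩
  let e := (singleFunctor (ModSite.Mod O_C) 0).mapIso (ModTest.pullFreeY f (Y i))
  rw [← cancel_epi e.inv, comp_zero]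
  exact ModTest.hom_shift_eq_zero _ M k (hY i M hM k hk) _

lemma cdBound_id {B : Set C} (h : LocCd A J B id) (V : C) (hV : V ∈ B) :
    Bounded.CdBound J (𝟭 _) (ModTest.freeY O_C) A V := by
  have : HasExt.{u} (ModSite.Mod O_C) := hasExt_of_enoughInjectives _
  obtain ⟨d, hd⟩ := h V hV
  refine ⟨d, fun T hT => ?_⟩
  obtain ⟨ι, Y, g, hg, hcov, hY⟩ := hd T hT
  exact ⟨ι, Y, g, hg, hcov, fun i M hM k hk φ =>
    ModTest.hom_shift_eq_zero _ M k (hY i M hM k hk) φ⟩

variable [WSerre.IsWeakSerre A]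

theorem isRlimVia_trunc {B : Set C} (hB : Covers J B) (hA : LocCd A J B id)
    (X : DerivedCategory (ModSite.Mod O_C)) (hX : WSerre.cohIn A X) :
    CohCx.IsRlimVia (CohCx.truncTower X) (CohCx.truncTowerMap X) X (CohCx.toTruncTower X) :=
  Bounded.isRlimVia_trunc A (ModTest.isTest O_C) hB (fun V hV => cdBound_id hA V hV) X hX

lemma hasProduct' {O : Sheaf K CommRingCat.{u}} (E : ℕ → DerivedCategory (ModSite.Mod O)) :
    HasProduct E := Bounded.hasProduct E

variable {B : Set C} (hB : Covers J B) (hA : LocCd A J B id) (N : ℤ)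
  (hN : ∀ M, A M → ((model f.push).obj ((singleFunctor _ 0).obj M)).IsLE N)

include hN in
omit [WSerre.IsWeakSerre A] in
lemma isLE_model_of_bounded [WSerre.IsWeakSerre A] (Z : DerivedCategory (ModSite.Mod O_C))
    (a b : ℤ) (ha : Z.IsGE a) (hb : Z.IsLE b) (hZ : WSerre.cohIn A Z) :
    ((model f.push).obj Z).IsLE (b + N) := by
  obtain ⟨hc, ht⟩ := exists_triangulated_model f.push
  exact WayOutLeft.isLE_of_bounded (model f.push) A N hN Z a b ha hb hZ

include hB hA hN in
/-- Cohomological dimension bounded upstairs: the direct image is right way-out. -/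
theorem isLE_model_upstairs {B' : Set D} (hB' : Covers K B') (hA' : LocCd A K B' f.fn.obj)
    (Z : DerivedCategory (ModSite.Mod O_C)) (b : ℤ) (hZ : WSerre.cohIn A Z) (hb : Z.IsLE b) :
    ((model f.push).obj Z).IsLE (b + N) := by
  refine (isLE_iff _ _).2 fun j hj => ?_
  refine Bounded.isZero_homology_of_rlim f.adj A (ModTest.isTest O_D) hB'
    (fun V hV => cdBound_pull f hA' V hV) (isRlimVia_trunc hB hA Z hZ) 0 (-1)
    (Bounded.smallCones_trunc A Z hZ) j fun n _ => ?_
  have := isLE_model_of_bounded f N hN (CohCx.truncTower Z n) (-(n : ℤ)) b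
    (inferInstanceAs ((TStructure.t (C := ModSite.Mod O_C)).IsGE _ (-(n : ℤ))))
    (Bounded.isLE_truncGE Z _ b hb) (Devissage.cohIn_truncGE A hZ _)
  exact isZero_of_isLE _ (b + N) j hj

variable {A' : ObjectProperty (ModSite.Mod O_D)} [WSerre.IsWeakSerre A'] [SiteCmp.HasRpushD f]
  (hs : ∀ M, A M → WSerre.cohIn A' ((model f.push).obj ((singleFunctor _ 0).obj M)))

include hB hA hN hs in
set_option maxHeartbeats 1000000 in
/-- Cohomological dimension bounded downstairs: the direct image is right way-out. -/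
theorem isLE_model_downstairs {B' : Set D} (hB' : Covers K B') (hA' : LocCd A' K B' id)
    (Z : DerivedCategory (ModSite.Mod O_C)) (b : ℤ) (hZ : WSerre.cohIn A Z) (hb : Z.IsLE b) :
    ((model f.push).obj Z).IsLE (b + N) := by
  obtain ⟨hc, ht⟩ := exists_triangulated_model f.push
  have : (SiteCmp.RpushD f).IsRightAdjoint := H9Misc.RpushLeftAdj.isRightAdjoint_RpushD f
  obtain ⟨e⟩ := exists_iso_model f.push
  have : PreservesLimit (Discrete.functor (CohCx.truncTower Z)) (model f.push) :=
    preservesLimit_of_natIso _ e.symm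
  let R := model f.push
  have hL := Rlim.isRlimVia_map R R (Iso.refl _) (CohCx.truncTower Z) (CohCx.truncTowerMap Z) Z
    (CohCx.toTruncTower Z) (isRlimVia_trunc hB hA Z hZ)
  have hcones : Bounded.SmallCones A' (K := fun n => R.obj (CohCx.truncTower Z n))
      (fun n => R.map (CohCx.truncTowerMap Z n)) 0 (N - 1) := fun n _ => by
    obtain ⟨C', g, h, hT, hC, h₁, h₂⟩ := Tower.exists_trunc_cone A Z hZ n
    have hT' : Triangle.mk (R.map g) (R.map (CohCx.truncTowerMap Z n))
        (R.map h ≫ (R.commShiftIso (1 : ℤ)).hom.app C') ∈ Pretriangulated.distinguishedTriangles :=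
      R.map_distinguished _ hT
    refine ⟨R.obj C', R.map g, R.map h ≫ (R.commShiftIso (1 : ℤ)).hom.app C', -(n + 1 : ℤ),
      hT', WayOutLeft.cohIn_of_bounded R A' A hs C' _ _ h₁ h₂ hC,
      isGE_model _ C' _ h₁, ?_⟩
    have := isLE_model_of_bounded f N hN C' _ _ h₁ h₂ hC
    exact (TStructure.t (C := ModSite.Mod O_D)).isLE_of_le _ (-(n + 1 : ℤ) + N) _ (by omega)
  refine (isLE_iff _ _).2 fun j hj => ?_
  let i := (homologyFunctor (ModSite.Mod O_D) j).mapIso ((modelId (ModSite.Mod O_D)).app (R.obj Z))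
  refine (Bounded.isZero_homology_of_rlim Adjunction.id A' (ModTest.isTest O_D) hB'
    (fun V hV => cdBound_id hA' V hV) hL 0 (N - 1) hcones j fun n _ => ?_).of_iso i.symm
  have := isLE_model_of_bounded f N hN (CohCx.truncTower Z n) (-(n : ℤ)) b
    (inferInstanceAs ((TStructure.t (C := ModSite.Mod O_C)).IsGE _ (-(n : ℤ))))
    (Bounded.isLE_truncGE Z _ b hb) (Devissage.cohIn_truncGE A hZ _)
  exact (isZero_of_isLE (R.obj (CohCx.truncTower Z n)) (b + N) j hj).of_iso
    ((homologyFunctor (ModSite.Mod O_D) j).mapIso ((modelId (ModSite.Mod O_D)).app _))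

omit [SiteCmp.HasRpushD f] [WSerre.IsWeakSerre A'] in
lemma isLE_single_of_rpush [HasInjectiveResolutions (ModSite.Mod O_C)] (M : ModSite.Mod O_C)
    (h4 : ∀ p : ℕ, N < (p : ℤ) → IsZero ((f.Rpush p).obj M)) :
    ((model f.push).obj ((singleFunctor _ 0).obj M)).IsLE N := by
  refine (isLE_iff _ _).2 fun i hi => ?_
  rcases lt_or_ge i 0 with h | h
  · have := isGE_model f.push ((singleFunctor _ 0).obj M) 0 inferInstance
    exact isZero_of_isGE _ 0 i h
  · lift i to ℕ using h with p
    obtain ⟨e⟩ := exists_homology_model_single f.push M p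
    exact (h4 p hi).of_iso e

omit [SiteCmp.HasRpushD f] in
lemma cohIn_single_of_rpush [HasInjectiveResolutions (ModSite.Mod O_C)] (M : ModSite.Mod O_C)
    (h3 : ∀ p : ℕ, A' ((f.Rpush p).obj M)) :
    WSerre.cohIn A' ((model f.push).obj ((singleFunctor _ 0).obj M)) := fun i => by
  rcases lt_or_ge i 0 with h | h
  · have := isGE_model f.push ((singleFunctor _ 0).obj M) 0 inferInstance
    exact A'.prop_of_isZero (isZero_of_isGE _ 0 i h)
  · lift i to ℕ using h with p
    obtain ⟨e⟩ := exists_homology_model_single f.push M p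
    exact A'.prop_of_iso e.symm (h3 p)

omit [WSerre.IsWeakSerre A'] in
/-- Transport of the way-out property to the derived direct image, and the conclusion on truncations. -/
theorem isIso_truncGE_rpushD
    (hkey : ∀ (Z : DerivedCategory (ModSite.Mod O_C)) (b : ℤ), WSerre.cohIn A Z → Z.IsLE b →
      ((model f.push).obj Z).IsLE (b + N))
    (X : DerivedCategory (ModSite.Mod O_C)) (hX : WSerre.cohIn A X) (n : ℕ) (j : ℤ)
    (hj : N - (n : ℤ) ≤ j) :
    IsIso ((homologyFunctor (ModSite.Mod O_D) j).map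
      ((SiteCmp.RpushD f).map (((TStructure.t (C := ModSite.Mod O_C)).truncGEπ (-(n : ℤ))).app X))) := by
  obtain ⟨hc, ht⟩ := exists_triangulated_model f.push
  obtain ⟨e⟩ := exists_iso_model f.push
  exact (NatIso.isIso_map_iff (Functor.isoWhiskerRight e (homologyFunctor (ModSite.Mod O_D) j)) _).1
    (WayOutLeft.isIso_truncGE (R := model f.push) hkey X hX (-(n : ℤ)) j (by omega))

theorem cohIn_rpushD
    (hkey : ∀ (Z : DerivedCategory (ModSite.Mod O_C)) (b : ℤ), WSerre.cohIn A Z → Z.IsLE b →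
      ((model f.push).obj Z).IsLE (b + N))
    (hs : ∀ M, A M → WSerre.cohIn A' ((model f.push).obj ((singleFunctor _ 0).obj M)))
    (X : DerivedCategory (ModSite.Mod O_C)) (hX : WSerre.cohIn A X) :
    WSerre.cohIn A' ((SiteCmp.RpushD f).obj X) := by
  obtain ⟨hc, ht⟩ := exists_triangulated_model f.push
  obtain ⟨e⟩ := exists_iso_model f.push
  exact Devissage.cohIn_iso A' (e.app X) (WayOutLeft.cohIn_all (R := model f.push) A' hkey
    (fun W n => isGE_model f.push W n) hs X hX)

end Groth.Agent.SiteCmpLib.ModBounded
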