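import Groth.Agent.SiteCmpLib.Bounded

/-! Functors which are way-out on objects with cohomology in a subcategory. -/

universe u

open CategoryTheory Category Limits Pretriangulated DerivedCategory

attribute [local instance] HasDerivedCategory.standard

namespace Groth.Agent.SiteCmpLib.WayOutLeft

variable {A : Type (u + 1)} [Category.{u} A] [Abelian A]
  {B : Type (u + 1)} [Category.{u} B] [Abelian B]
  (R : DerivedCategory B ⥤ DerivedCategory A) [R.CommShift ℤ] [R.IsTriangulated]
  (PA : ObjectProperty A) [WSerre.IsWeakSerre PA] (PB : ObjectProperty B) [WSerre.IsWeakSerre PB] (N : ℤ)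

local notation "tA" => (TStructure.t (C := A))
local notation "tB" => (TStructure.t (C := B))

lemma single_shift_iso (p : ℤ) (M : B) :
    Nonempty ((R.obj ((singleFunctor B 0).obj M))⟦-p⟧ ≅ R.obj ((singleFunctor B p).obj M)) := by
  obtain ⟨e⟩ := Bounded.singleIso B p M
  exact ⟨((R.commShiftIso (-p)).app _).symm ≪≫ R.mapIso e⟩

omit [WSerre.IsWeakSerre PA] in
lemma isLE_of_bounded (hN : ∀ M, PB M → (R.obj ((singleFunctor B 0).obj M)).IsLE N)
    (Z : DerivedCategory B) (a b : ℤ) (ha : Z.IsGE a) (hb : Z.IsLE b) (hZ : WSerre.cohIn PB Z) :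
    (R.obj Z).IsLE (b + N) := by
  refine Bounded.bounded_induction_le PB (fun W => (R.obj W).IsLE (b + N))
    (fun e hW => (tA).isLE_of_iso (R.mapIso e) (b + N))
    (fun T hT h₁ h₃ => (tA).isLE₂ _ (R.map_distinguished T hT) (b + N) h₁ h₃) Z a b ha hb
    (fun p M hp hM => ?_) hZ
  obtain ⟨e⟩ := single_shift_iso R p M
  have := hN M hM
  have : (tA).IsLE ((R.obj ((singleFunctor B 0).obj M))⟦-p⟧) (N + p) :=
    (tA).isLE_shift _ N (-p) (N + p) (by omega)
  have : (tA).IsLE (R.obj ((singleFunctor B p).obj M)) (N + p) := (tA).isLE_of_iso e (N + p)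
  exact (tA).isLE_of_le _ (N + p) (b + N) (by omega)

lemma cohIn_of_bounded (hs : ∀ M, PB M → WSerre.cohIn PA (R.obj ((singleFunctor B 0).obj M)))
    (Z : DerivedCategory B) (a b : ℤ) (ha : Z.IsGE a) (hb : Z.IsLE b) (hZ : WSerre.cohIn PB Z) :
    WSerre.cohIn PA (R.obj Z) := by
  refine Devissage.bounded_induction PB (fun W => WSerre.cohIn PA (R.obj W))
    (fun e hW => Devissage.cohIn_iso PA (R.mapIso e) hW)
    (fun T hT h₁ h₃ => Devissage.cohIn_obj₂ PA (R.map_distinguished T hT) h₁ h₃)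
    (fun p M hM => ?_) Z a b ha hb hZ
  obtain ⟨e⟩ := single_shift_iso R p M
  exact Devissage.cohIn_iso PA e (Devissage.cohIn_shift PA (hs M hM) _)

lemma cohIn_of_isGE (hge : ∀ (W : DerivedCategory B) (n : ℤ), W.IsGE n → (R.obj W).IsGE n)
    (hs : ∀ M, PB M → WSerre.cohIn PA (R.obj ((singleFunctor B 0).obj M)))
    (Z : DerivedCategory B) (a : ℤ) (ha : Z.IsGE a) (hZ : WSerre.cohIn PB Z) :
    WSerre.cohIn PA (R.obj Z) := by
  intro i
  let T := (tB).triangleLTGE (i + 2) |>.obj Z
  have hT := R.map_distinguished T ((tB).triangleLTGE_distinguished (i + 2) Z)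
  have : DerivedCategory.IsGE (R.mapTriangle.obj T).obj₃ (i + 2) := hge _ (i + 2)
    (inferInstanceAs ((tB).IsGE (((tB).truncGE (i + 2)).obj Z) (i + 2)))
  have : Mono ((homologyFunctor A i).map (R.mapTriangle.obj T).mor₁) :=
    (HomologySequence.mono_homologyMap_mor₁_iff _ hT (i - 1) i (by omega)).2
      ((isZero_of_isGE _ (i + 2) (i - 1) (by omega)).eq_of_src _ _)
  have : Epi ((homologyFunctor A i).map (R.mapTriangle.obj T).mor₁) :=
    (HomologySequence.epi_homologyMap_mor₁_iff _ hT i).2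
      ((isZero_of_isGE _ (i + 2) i (by omega)).eq_of_tgt _ _)
  have hiso : IsIso ((homologyFunctor A i).map (R.mapTriangle.obj T).mor₁) := isIso_of_mono_of_epi _
  refine PA.prop_of_iso (@asIso _ _ _ _ _ hiso)
    (cohIn_of_bounded R PA PB hs (((tB).truncLT (i + 2)).obj Z) a (i + 1)
      (KFlatLib.isGE_truncLT Z a (i + 2)) ?_ (Devissage.cohIn_truncLT PB hZ _) i)
  exact (tB).isLE_truncLT_obj ..

variable {R PB N}
  (hkey : ∀ (Z : DerivedCategory B) (b : ℤ), WSerre.cohIn PB Z → Z.IsLE b → (R.obj Z).IsLE (b + N))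
include hkey

omit [WSerre.IsWeakSerre PA] in
lemma isIso_truncGE (X : DerivedCategory B) (hX : WSerre.cohIn PB X) (m j : ℤ) (hj : N + m ≤ j) :
    IsIso ((homologyFunctor A j).map (R.map (((tB).truncGEπ m).app X))) := by
  let T := ((tB).triangleLTGE m).obj X
  have hT := R.map_distinguished T ((tB).triangleLTGE_distinguished m X)
  have : DerivedCategory.IsLE (R.mapTriangle.obj T).obj₁ (m - 1 + N) := hkey _ (m - 1)
    (Devissage.cohIn_truncLT PB hX m) ((tB).isLE_truncLT_obj ..)
  have : Mono ((homologyFunctor A j).map (R.mapTriangle.obj T).mor₂) :=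
    (HomologySequence.mono_homologyMap_mor₂_iff _ hT j).2
      ((isZero_of_isLE _ (m - 1 + N) j (by omega)).eq_of_src _ _)
  have : Epi ((homologyFunctor A j).map (R.mapTriangle.obj T).mor₂) :=
    (HomologySequence.epi_homologyMap_mor₂_iff _ hT j (j + 1) rfl).2
      ((isZero_of_isLE _ (m - 1 + N) (j + 1) (by omega)).eq_of_tgt _ _)
  exact isIso_of_mono_of_epi ((homologyFunctor A j).map (R.mapTriangle.obj T).mor₂)

lemma cohIn_all (hge : ∀ (W : DerivedCategory B) (n : ℤ), W.IsGE n → (R.obj W).IsGE n)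
    (hs : ∀ M, PB M → WSerre.cohIn PA (R.obj ((singleFunctor B 0).obj M)))
    (X : DerivedCategory B) (hX : WSerre.cohIn PB X) : WSerre.cohIn PA (R.obj X) := fun j => by
  have := isIso_truncGE (R := R) hkey X hX (j - N) j (by omega)
  exact PA.prop_of_iso (asIso ((homologyFunctor A j).map (R.map (((tB).truncGEπ (j - N)).app X)))).symm
    (cohIn_of_isGE R PA PB hge hs (((tB).truncGE (j - N)).obj X) (j - N)
      (inferInstanceAs ((tB).IsGE _ (j - N))) (Devissage.cohIn_truncGE PB hX _) j)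

end Groth.Agent.SiteCmpLib.WayOutLeft
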